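import Mathlib
import Groth.Agent.Div89.Comap
import Groth.Agent.LimTop61.IdealGlue
import Groth.Agent.Sga84.IdealDescent

/-! Descent of ideal sheaves along an fpqc family. -/

set_option autoImplicit false
set_option backward.isDefEq.respectTransparency false
set_option backward.defeqAttrib.useBackward true
universe u

open CategoryTheory CategoryTheory.Limits AlgebraicGeometry

namespace Groth.Agent.Desc59.IdealFpqc

/-- Ideal sheaves are determined by their pullbacks along a jointly surjective flat family. -/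
theorem ext_of_family {P : Scheme.{u}} {ι : Type*} {Q : ι → Scheme.{u}} (g : ∀ i, Q i ⟶ P)
    (hflat : ∀ i, Flat (g i)) (hsurj : ∀ x : P, ∃ i y, g i y = x) {J J' : P.IdealSheafData}
    (h : ∀ i, J.comap (g i) = J'.comap (g i)) : J = J' := by
  refine Div89.ext_stalkIdeal fun x => ?_
  obtain ⟨i, y, rfl⟩ := hsurj x
  have := hflat i
  have e : (Div89.stalkIdeal J (g i y)).map ((g i).stalkMap y).hom =
      (Div89.stalkIdeal J' (g i y)).map ((g i).stalkMap y).hom := by
    rw [← Div89.stalkIdeal_comap, ← Div89.stalkIdeal_comap, h i]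
  algebraize [((g i).stalkMap y).hom]
  have : Module.FaithfullyFlat (P.presheaf.stalk (g i y)) ((Q i).presheaf.stalk y) :=
    @Module.FaithfullyFlat.of_flat_of_isLocalHom _ _ _ _ _ _ _
      (Flat.stalkMap (g i) y) ((g i).toLRSHom.prop y)
  rw [← (Div89.stalkIdeal J (g i y)).comap_map_eq_self_of_faithfullyFlat (B := (Q i).presheaf.stalk y),
    ← (Div89.stalkIdeal J' (g i y)).comap_map_eq_self_of_faithfullyFlat (B := (Q i).presheaf.stalk y)]
  exact congrArg _ e

section

variable {P : Scheme.{u}} {ι : Type u} {Q : ι → Scheme.{u}} {g : ∀ i, Q i ⟶ P}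
  {I : ∀ i, (Q i).IdealSheafData}
  (hI : ∀ i j ⦃Z : Scheme.{u}⦄ (a : Z ⟶ Q i) (b : Z ⟶ Q j), a ≫ g i = b ≫ g j →
    (I i).comap a = (I j).comap b)
  [QuasiCompactCover (⟨ι, Q, g⟩ : PreZeroHypercover.{u} P)]
  (hflat : ∀ i, Flat (g i)) (hsurj : ∀ x : P, ∃ i y, g i y = x)

include hI hflat hsurj

theorem existsUnique_on_affine (U : P.Opens) (hU : IsAffineOpen U) :
    ∃! L : U.toScheme.IdealSheafData, ∀ i, L.comap (g i ∣_ U) = (I i).comap (g i ⁻¹ᵁ U).ι := by
  obtain ⟨n, f, V, hV, hcov⟩ := QuasiCompactCover.exists_isAffineOpen_of_isCompact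
    (⟨ι, Q, g⟩ : PreZeroHypercover.{u} P) hU.isCompact
  have : IsAffine U.toScheme := hU
  let X : ULift.{u} (Fin n) → Scheme.{u} := fun k => (V k.down).toScheme
  let q : ∀ k, X k ⟶ Q (f k.down) := fun k => (V k.down).ι
  have hX : ∀ k, IsAffine (X k) := fun k => hV k.down
  have hle : ∀ k : ULift.{u} (Fin n), V k.down ≤ g (f k.down) ⁻¹ᵁ U := fun k x hx => by
    show g (f k.down) x ∈ (U : Set P)
    rw [← hcov]
    exact Set.mem_iUnion.mpr ⟨k.down, x, hx, rfl⟩
  let p : ∀ k, X k ⟶ U.toScheme := fun k =>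
    (Q (f k.down)).homOfLE (hle k) ≫ (g (f k.down) ∣_ U)
  have hp : ∀ k, p k ≫ U.ι = q k ≫ g (f k.down) := fun k => by simp [p, q]
  let w : ∐ X ⟶ U.toScheme := Sigma.desc p
  have : ∀ k, Flat (p k) := fun k => by
    have := hflat (f k.down)
    dsimp [p]
    infer_instance
  have hflatw : Flat w := inferInstance
  have hsurjw : Surjective w := ⟨fun x => by
    obtain ⟨k, y, hy, e⟩ : ∃ k y, y ∈ V k ∧ g (f k) y = x.1 := by
      have := x.2
      rw [← SetLike.mem_coe, ← hcov] at this
      obtain ⟨k, y, hy, e⟩ := Set.mem_iUnion.mp this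
      exact ⟨k, y, hy, e⟩
    refine ⟨Sigma.ι X ⟨k⟩ ⟨y, hy⟩, Subtype.ext ?_⟩
    rw [← Scheme.Hom.comp_apply, Sigma.ι_desc]
    show (p ⟨k⟩ ≫ U.ι) ⟨y, hy⟩ = x.1
    rw [hp]
    exact e⟩
  -- the ideal on the coproduct
  let O : ULift.{u} (Fin n) → (∐ X).Opens := fun k => (Sigma.ι X k).opensRange
  have : IsAffine (∐ X) := inferInstance
  have : ∀ k, IsAffine (O k).toScheme := fun k => isAffineOpen_opensRange (Sigma.ι X k)
  have : ∀ k, QuasiCompact (O k).ι := fun k => inferInstance
  obtain ⟨K, hK⟩ := LimTop61.exists_glue O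
    (fun k => (I (f k.down)).comap ((Sigma.ι X k).isoOpensRange.inv ≫ q k)) (fun a b => by
      rw [← Scheme.IdealSheafData.comap_comp, ← Scheme.IdealSheafData.comap_comp]
      apply hI
      simp only [Category.assoc]
      rw [← hp a, ← hp b, ← Sigma.ι_desc p a, ← Sigma.ι_desc p b]
      simp only [← Category.assoc]
      congr 2
      simp only [Category.assoc, Scheme.Hom.isoOpensRange_inv_comp]
      exact pullback.condition)
  have hK' : ∀ k, K.comap (Sigma.ι X k) = (I (f k.down)).comap (q k) := fun k => by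
    rw [← (Sigma.ι X k).isoOpensRange_hom_ι, Scheme.IdealSheafData.comap_comp, hK,
      ← Scheme.IdealSheafData.comap_comp, Iso.hom_inv_id_assoc]
  -- any point of `W` over a point of some `Q i`
  have key : ∀ i ⦃Z : Scheme.{u}⦄ (a : Z ⟶ ∐ X) (b : Z ⟶ Q i), a ≫ w ≫ U.ι = b ≫ g i →
      K.comap a = (I i).comap b := by
    intro i Z a b hab
    refine ext_of_family (fun k => pullback.fst a (Sigma.ι X k)) (fun k => inferInstance) (fun z => ?_)
      fun k => ?_
    · obtain ⟨k, y, hy⟩ := (sigmaOpenCover X).exists_eq (a z)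
      obtain ⟨t, ht, -⟩ := Scheme.Pullback.exists_preimage_pullback (f := a) (g := Sigma.ι X k) z y hy.symm
      exact ⟨k, t, ht⟩
    · rw [← Scheme.IdealSheafData.comap_comp, pullback.condition, Scheme.IdealSheafData.comap_comp,
        hK', ← Scheme.IdealSheafData.comap_comp, ← Scheme.IdealSheafData.comap_comp]
      apply hI
      rw [Category.assoc, Category.assoc, ← hab, ← hp, ← Sigma.ι_desc p k, Category.assoc]
      exact (pullback.condition_assoc _).symm
  have : IsAffine (∐ X) := inferInstance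
  obtain ⟨L, hL⟩ := Sga84.exists_comap_eq w K (by
    refine ext_of_family (fun k => pullback.fst (pullback.snd w w) (Sigma.ι X k)) (fun k => inferInstance)
      (fun z => ?_) fun k => ?_
    · obtain ⟨k, y, hy⟩ := (sigmaOpenCover X).exists_eq (pullback.snd w w z)
      obtain ⟨t, ht, -⟩ := Scheme.Pullback.exists_preimage_pullback (f := pullback.snd w w)
        (g := Sigma.ι X k) z y hy.symm
      exact ⟨k, t, ht⟩
    · rw [← Scheme.IdealSheafData.comap_comp, ← Scheme.IdealSheafData.comap_comp,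
        key (f k.down) (_ ≫ pullback.fst w w) (pullback.snd _ _ ≫ q k), pullback.condition,
        Scheme.IdealSheafData.comap_comp (I := K), hK', ← Scheme.IdealSheafData.comap_comp]
      rw [Category.assoc, Category.assoc, ← hp, ← Sigma.ι_desc p k, pullback.condition_assoc,
        Category.assoc]
      exact pullback.condition_assoc _)
  have hflatU : ∀ i, Flat (g i ∣_ U) := fun i => by have := hflat i; infer_instance
  refine ⟨L, fun i => ?_, fun L' hL' => ?_⟩
  · refine ext_of_family (fun _ : PUnit.{1} => pullback.snd w (g i ∣_ U)) (fun _ => inferInstance)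
      (fun z => ⟨⟨⟩, (inferInstance : Surjective (pullback.snd w (g i ∣_ U))).surj z⟩) fun _ => ?_
    rw [← Scheme.IdealSheafData.comap_comp, ← pullback.condition, Scheme.IdealSheafData.comap_comp, hL,
      ← Scheme.IdealSheafData.comap_comp]
    apply key
    rw [pullback.condition_assoc, morphismRestrict_ι, Category.assoc]
  · refine ext_of_family (fun i => g i ∣_ U) hflatU (fun x => ?_) fun i => ?_
    · obtain ⟨i, y, hy⟩ := hsurj x.1
      exact ⟨i, ⟨y, show g i y ∈ U from hy ▸ x.2⟩, Subtype.ext (by simpa [morphismRestrict_base] using hy)⟩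
    · rw [hL']
      refine (ext_of_family (fun _ : PUnit.{1} => pullback.snd w (g i ∣_ U)) (fun _ => inferInstance)
        (fun z => ⟨⟨⟩, (inferInstance : Surjective (pullback.snd w (g i ∣_ U))).surj z⟩) fun _ => ?_).symm
      rw [← Scheme.IdealSheafData.comap_comp, ← pullback.condition, Scheme.IdealSheafData.comap_comp, hL,
        ← Scheme.IdealSheafData.comap_comp]
      apply key
      rw [pullback.condition_assoc, morphismRestrict_ι, Category.assoc]

set_option maxHeartbeats 2000000 in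
theorem existsUnique_comap_eq : ∃! J : P.IdealSheafData, ∀ i, J.comap (g i) = I i := by
  choose L hL hLu using fun U : P.affineOpens => existsUnique_on_affine hI hflat hsurj U.1 U.2
  have hcompat : ∀ (U V : P.affineOpens) (h : V.1 ≤ U.1),
      (L U).comap (P.homOfLE h) = L V := fun U V h => by
    refine hLu V _ fun i => ?_
    have hle : g i ⁻¹ᵁ V.1 ≤ g i ⁻¹ᵁ U.1 := fun x hx => h hx
    rw [← Scheme.IdealSheafData.comap_comp,
      show (g i ∣_ V.1) ≫ P.homOfLE h = (Q i).homOfLE hle ≫ (g i ∣_ U.1) by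
        rw [← cancel_mono U.1.ι]; simp,
      Scheme.IdealSheafData.comap_comp, hL, ← Scheme.IdealSheafData.comap_comp, Scheme.homOfLE_ι]
  let idl : ∀ U : P.affineOpens, Ideal Γ(P, U) := fun U =>
    ((L U).ideal ⟨⊤, @isAffineOpen_top _ U.2⟩).map U.1.topIso.hom.hom
  have hmap : ∀ (U V : P.affineOpens) (h : V.1 ≤ U.1),
      (idl U).map (P.presheaf.map (homOfLE h).op).hom = idl V := fun U V h => by
    have : IsAffine U.1.toScheme := U.2
    have : IsAffine V.1.toScheme := V.2
    show _ = Ideal.map _ ((L V).ideal _)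
    rw [← hcompat U V h, Div89.ideal_comap_top_of_isAffine, Ideal.map_map, Ideal.map_map,
      ← CommRingCat.hom_comp, ← CommRingCat.hom_comp]
    congr 2
    simp [← Functor.map_comp]
  let J : P.IdealSheafData :=
    { ideal := idl
      map_ideal_basicOpen := fun U f => hmap U (P.affineBasicOpen f) (P.basicOpen_le f) }
  have hJ : ∀ U : P.affineOpens, J.comap U.1.ι = L U := fun U => by
    have : IsAffine U.1.toScheme := U.2
    refine Scheme.IdealSheafData.ext_of_iSup_eq_top (fun _ : PUnit.{1} => ⟨⊤, isAffineOpen_top _⟩)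
      (by simp) fun _ => ?_
    rw [Scheme.IdealSheafData.ideal_comap_of_isOpenImmersion]
    have e : U.1.ι ''ᵁ ⊤ ≤ U.1 := le_of_eq U.1.ι_image_top
    show Ideal.comap _ (idl _) = _
    rw [← hmap U ⟨U.1.ι ''ᵁ ⊤, _⟩ e, Ideal.map_map, ← CommRingCat.hom_comp]
    have : ∀ (φ : Γ(U.1.toScheme, ⊤) ⟶ Γ(U.1.toScheme, ⊤)) (K : Ideal Γ(U.1.toScheme, ⊤)),
        φ = 𝟙 _ → Ideal.comap (RingHom.id _) (K.map φ.hom) = K := by
      rintro φ K rfl; simp [Ideal.map_id]
    refine Eq.trans ?_ (this (U.1.topIso.hom ≫ P.presheaf.map (homOfLE e).op) _ ?_)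
    · simp [idl, Scheme.Opens.ι_appIso, Ideal.map_map]
      rfl
    · simp [← Functor.map_comp]
      exact P.presheaf.map_id _
  refine ⟨J, fun i => ?_, fun J' hJ' => ext_of_family g hflat hsurj fun i => ?_⟩
  · refine ext_of_family (fun U : P.affineOpens => (g i ⁻¹ᵁ U.1).ι) (fun U => inferInstance)
      (fun x => ?_) fun U => ?_
    · obtain ⟨W, hW, hxW, -⟩ := exists_isAffineOpen_mem_and_subset (x := g i x) (U := ⊤) trivial
      exact ⟨⟨W, hW⟩, ⟨x, hxW⟩, rfl⟩
    · rw [← Scheme.IdealSheafData.comap_comp, ← morphismRestrict_ι, Scheme.IdealSheafData.comap_comp,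
        hJ, hL]
  · rw [hJ' i]
    refine ext_of_family (fun U : P.affineOpens => (g i ⁻¹ᵁ U.1).ι) (fun U => inferInstance)
      (fun x => ?_) fun U => ?_
    · obtain ⟨W, hW, hxW, -⟩ := exists_isAffineOpen_mem_and_subset (x := g i x) (U := ⊤) trivial
      exact ⟨⟨W, hW⟩, ⟨x, hxW⟩, rfl⟩
    · rw [← Scheme.IdealSheafData.comap_comp, ← morphismRestrict_ι, Scheme.IdealSheafData.comap_comp,
        hJ, hL]

end

end Groth.Agent.Desc59.IdealFpqc
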