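import Mathlib.AlgebraicGeometry.Morphisms.FlatDescent
import Mathlib.AlgebraicGeometry.Sites.Fpqc
import Mathlib.RingTheory.Flat.FaithfullyFlat.Algebra

universe u
open CategoryTheory Limits MorphismProperty AlgebraicGeometry TensorProduct

namespace Groth.Agent.Desc59.FlatPure

/-- pure subalgebra of flat algebra is flat -/
lemma moduleFlat_of_comp (A B C : Type u) [CommRing A] [CommRing B] [CommRing C]
    [Algebra A B] [Algebra B C] [Algebra A C] [IsScalarTower A B C] [Module.Flat A C]
    (h : ∀ (P : Type u) [AddCommGroup P] [Module B P], Function.Injective (TensorProduct.mk B C P 1)) :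
    Module.Flat A B := by
  rw [Module.Flat.iff_lTensor_preserves_injective_linearMap]
  intro M M' _ _ _ _ j hj
  have key : ∀ (N : Type u) [AddCommGroup N] [Module A N],
      Function.Injective ((IsScalarTower.toAlgHom A B C).toLinearMap.rTensor N) := by
    intro N _ _
    have : ⇑((IsScalarTower.toAlgHom A B C).toLinearMap.rTensor N) =
        (AlgebraTensorModule.cancelBaseChange A B C C N) ∘ (TensorProduct.mk B C (B ⊗[A] N) 1) := by
      funext x
      induction x with
      | zero => simp
      | tmul b n => simp [Algebra.smul_def]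
      | add x y hx hy => simp [hx, hy, TensorProduct.tmul_add]
    rw [this]
    exact (AlgebraTensorModule.cancelBaseChange A B C C N).injective.comp (h _)
  intro x y hxy
  apply key M
  apply Module.Flat.lTensor_preserves_injective_linearMap (M := C) j hj
  simp only [← LinearMap.comp_apply, LinearMap.lTensor_comp_rTensor]
  rw [← LinearMap.rTensor_comp_lTensor, LinearMap.comp_apply, LinearMap.comp_apply, hxy]

lemma ringHomFlat_of_factor {A B C D : Type u} [CommRing A] [CommRing B] [CommRing C] [CommRing D]
    {a : A →+* B} {b : B →+* C} {c : C →+* D}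
    (hac : (b.comp a).Flat) (hbd : (c.comp b).FaithfullyFlat) : a.Flat := by
  let := a.toAlgebra
  let := b.toAlgebra
  let := c.toAlgebra
  let : Algebra A C := (b.comp a).toAlgebra
  let : Algebra B D := (c.comp b).toAlgebra
  have : IsScalarTower A B C := .of_algebraMap_eq' rfl
  have : IsScalarTower B C D := .of_algebraMap_eq' rfl
  have : Module.Flat A C := hac
  have : Module.FaithfullyFlat B D := hbd
  refine moduleFlat_of_comp A B C fun P _ _ => ?_
  have e : ⇑(TensorProduct.mk B D P 1) =
      ⇑((IsScalarTower.toAlgHom B C D).toLinearMap.rTensor P) ∘ ⇑(TensorProduct.mk B C P 1) := by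
    funext p; simp
  refine Function.Injective.of_comp (f := (IsScalarTower.toAlgHom B C D).toLinearMap.rTensor P) ?_
  rw [← e]
  exact Module.FaithfullyFlat.tensorProduct_mk_injective (A := B) (B := D) P

lemma flat_of_flat_comp_of_factor {X Y Z Y' : Scheme.{u}} (f : X ⟶ Y) (q : Y ⟶ Z) (g : Y' ⟶ Y)
    [Flat g] [Surjective g] (l : Y' ⟶ X) (hl : l ≫ f = g) [Flat (f ≫ q)] : Flat q := by
  subst hl
  refine Flat.of_stalkMap q fun y => ?_
  obtain ⟨y', rfl⟩ := (l ≫ f).surjective y
  have h1 := Flat.stalkMap (f ≫ q) (l y')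
  rw [Scheme.Hom.stalkMap_comp] at h1
  have h2 : ((l ≫ f).stalkMap y').hom.FaithfullyFlat := by
    let := ((l ≫ f).stalkMap y').hom.toAlgebra
    exact @Module.FaithfullyFlat.of_flat_of_isLocalHom _ _ _ _ _ _ _
      (Flat.stalkMap (l ≫ f) y') ((l ≫ f).toLRSHom.prop y')
  rw [Scheme.Hom.stalkMap_comp] at h2
  exact ringHomFlat_of_factor h1 h2

lemma isDominant_iff_pullback_snd {X Y Y' : Scheme.{u}} (f : X ⟶ Y) (g : Y' ⟶ Y)
    (hs : Surjective g) (ho : IsOpenMap g) :
    IsDominant f ↔ IsDominant (pullback.snd f g) := by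
  rw [isDominant_iff, isDominant_iff, denseRange_iff_closure_range, denseRange_iff_closure_range,
    Scheme.Pullback.range_snd, ← ho.preimage_closure_eq_closure_preimage g.continuous]
  refine ⟨fun h => by rw [h, Set.preimage_univ], fun h => ?_⟩
  refine Set.eq_univ_of_forall fun y => ?_
  obtain ⟨y', rfl⟩ := g.surjective y
  exact Set.eq_univ_iff_forall.mp h y'

end Groth.Agent.Desc59.FlatPure
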