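import Groth.Agent.VarGal.Action
import Mathlib.AlgebraicGeometry.Sites.Fpqc
import Mathlib.AlgebraicGeometry.Limits
import Mathlib.RingTheory.Spectrum.Prime.RingHom

/-!
Galois descent of morphisms of schemes.
-/

set_option autoImplicit false
universe u

open CategoryTheory CategoryTheory.Limits AlgebraicGeometry TensorProduct

namespace Groth.Agent.Desc59.GalMor

variable (k K : Type u) [Field k] [Field K] [Algebra k K] [FiniteDimensional k K] [IsGalois k K]

/-- `a ⊗ b ↦ (a σ(b))_σ` -/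
noncomputable def toPi : K ⊗[k] K →ₐ[K] ((K ≃ₐ[k] K) → K) :=
  Algebra.TensorProduct.lift (Algebra.ofId K ((K ≃ₐ[k] K) → K))
    (Pi.algHom k (fun _ : K ≃ₐ[k] K => K) fun σ => σ.toAlgHom) (fun _ _ => Commute.all _ _)

theorem toPi_tmul (a b : K) (σ : K ≃ₐ[k] K) : toPi k K (a ⊗ₜ b) σ = a * σ b := by
  simp [toPi]

theorem toPi_bijective : Function.Bijective (toPi k K) := by
  have hinj : ∀ σ : K ≃ₐ[k] K, Function.Surjective ((Pi.evalAlgHom K (fun _ => K) σ).comp (toPi k K)) :=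
    fun σ a => ⟨a ⊗ₜ 1, by simp [toPi_tmul]⟩
  have hsurj : Function.Surjective (toPi k K) := by
    intro v
    let I : (K ≃ₐ[k] K) → Ideal (K ⊗[k] K) := fun σ =>
      RingHom.ker ((Pi.evalAlgHom K (fun _ => K) σ).comp (toPi k K))
    have hmax : ∀ σ, (I σ).IsMaximal := fun σ => RingHom.ker_isMaximal_of_surjective _ (hinj σ)
    have hI : Pairwise fun σ τ => IsCoprime (I σ) (I τ) := by
      intro σ τ hne
      refine Ideal.isCoprime_iff_sup_eq.mpr ((hmax σ).coprime_of_ne (hmax τ) fun he => hne ?_)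
      ext b
      have h : (1 : K) ⊗ₜ[k] b - σ b ⊗ₜ[k] (1 : K) ∈ I σ := by
        simp [I, RingHom.mem_ker, toPi_tmul]
      rw [he] at h
      have h' : toPi k K ((1 : K) ⊗ₜ[k] b - σ b ⊗ₜ[k] (1 : K)) τ = 0 := h
      rw [map_sub, Pi.sub_apply, toPi_tmul, toPi_tmul, map_one, one_mul, mul_one, sub_eq_zero] at h'
      exact h'.symm
    choose w hw using fun σ => hinj σ (v σ)
    obtain ⟨x, hx⟩ := Ideal.pi_mkQ_surjective (R := K ⊗[k] K) hI
      (fun σ => Ideal.Quotient.mk (I σ) (w σ))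
    refine ⟨x, funext fun σ => ?_⟩
    have h := congr_fun hx σ
    have h2 : x - w σ ∈ I σ := Ideal.Quotient.eq.mp h
    have h3 : toPi k K (x - w σ) σ = 0 := h2
    rw [map_sub, Pi.sub_apply, sub_eq_zero] at h3
    exact h3.trans (hw σ)
  refine ⟨?_, hsurj⟩
  have hdim : Module.finrank K (K ⊗[k] K) = Module.finrank K ((K ≃ₐ[k] K) → K) := by
    rw [Module.finrank_baseChange, Module.finrank_fintype_fun_eq_card, ← Nat.card_eq_fintype_card,
      IsGalois.card_aut_eq_finrank]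
  exact (LinearMap.injective_iff_surjective_of_finrank_eq_finrank hdim
    (f := (toPi k K).toLinearMap)).mpr hsurj

variable {k K} in
/-- the component of `Spec (K ⊗ K)` attached to `σ` -/
noncomputable def comp (σ : K ≃ₐ[k] K) : Spec (CommRingCat.of K) ⟶ Spec (CommRingCat.of (K ⊗[k] K)) :=
  Spec.map (CommRingCat.ofHom (RingEquiv.ofBijective _ (toPi_bijective k K) :
      K ⊗[k] K ≃+* ((K ≃ₐ[k] K) → K)).toRingHom ≫
    CommRingCat.ofHom (Pi.evalRingHom (fun _ : K ≃ₐ[k] K => K) σ))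

/-- open cover of `Spec (K ⊗ K)` -/
noncomputable def cover : (Spec (CommRingCat.of (K ⊗[k] K))).OpenCover :=
  Scheme.Cover.mkOfCovers (K ≃ₐ[k] K) (fun _ => Spec (CommRingCat.of K)) comp (fun x => by
    let e : K ⊗[k] K ≃+* ((K ≃ₐ[k] K) → K) := RingEquiv.ofBijective _ (toPi_bijective k K)
    obtain ⟨σ, q, hq⟩ := PrimeSpectrum.exists_comap_evalRingHom_eq (PrimeSpectrum.comap e.symm.toRingHom x)
    refine ⟨σ, q, ?_⟩
    show PrimeSpectrum.comap ((Pi.evalRingHom (fun _ : K ≃ₐ[k] K => K) σ).comp e.toRingHom) q = x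
    rw [PrimeSpectrum.comap_comp_apply, hq, ← PrimeSpectrum.comap_comp_apply, e.symm_toRingHom_comp_toRingHom]
    rfl) (fun σ => by
    have : IsIso (CommRingCat.ofHom (RingEquiv.ofBijective _ (toPi_bijective k K) :
        K ⊗[k] K ≃+* ((K ≃ₐ[k] K) → K)).toRingHom) :=
      (RingEquiv.ofBijective _ (toPi_bijective k K) : K ⊗[k] K ≃+* ((K ≃ₐ[k] K) → K)).toCommRingCatIso.isIso_hom
    show IsOpenImmersion (comp σ)
    rw [comp, Spec.map_comp]
    infer_instance)

theorem comp_left (σ : K ≃ₐ[k] K) :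
    comp σ ≫ Spec.map (CommRingCat.ofHom (Algebra.TensorProduct.includeLeftRingHom : K →+* K ⊗[k] K)) = 𝟙 _ := by
  rw [comp, ← Spec.map_comp, ← Spec.map_id]
  congr 1
  ext a
  show toPi k K (a ⊗ₜ 1) σ = a
  rw [toPi_tmul, map_one, mul_one]

theorem comp_right (σ : K ≃ₐ[k] K) :
    comp σ ≫ Spec.map (CommRingCat.ofHom
      (Algebra.TensorProduct.includeRight : K →ₐ[k] K ⊗[k] K).toRingHom) =
      Spec.map (CommRingCat.ofHom (σ : K →ₐ[k] K).toRingHom) := by
  rw [comp, ← Spec.map_comp]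
  congr 1
  ext a
  show toPi k K (1 ⊗ₜ a) σ = σ a
  rw [toPi_tmul, one_mul]

variable {X Y : Scheme.{u}} [X.Over (Spec (CommRingCat.of k))] [Y.Over (Spec (CommRingCat.of k))]

theorem descend (g : Curv2.bc k X K ⟶ Curv2.bc k Y K) (hg : g ≫ Curv2.bcSnd k Y K = Curv2.bcSnd k X K) :
    (∃ f : X ⟶ Y, f ≫ (Y ↘ Spec (CommRingCat.of k)) = X ↘ Spec (CommRingCat.of k) ∧
        g ≫ Curv2.bcFst k Y K = Curv2.bcFst k X K ≫ f) ↔
      ∀ σ : K ≃ₐ[k] K, Curv2.galAct k X K σ ≫ g = g ≫ Curv2.galAct k Y K σ := by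
  let str : Spec (CommRingCat.of K) ⟶ Spec (CommRingCat.of k) :=
    Spec.map (CommRingCat.ofHom (algebraMap k K))
  constructor
  · rintro ⟨f, -, hf⟩ σ
    apply pullback.hom_ext
    · show (_ ≫ g) ≫ Curv2.bcFst k Y K = (g ≫ _) ≫ Curv2.bcFst k Y K
      rw [Category.assoc, Category.assoc, VarGal.galAct_fst, hf, ← Category.assoc, VarGal.galAct_fst]
    · show (_ ≫ g) ≫ Curv2.bcSnd k Y K = (g ≫ _) ≫ Curv2.bcSnd k Y K
      rw [Category.assoc, Category.assoc, hg, VarGal.galAct_snd, VarGal.galAct_snd, reassoc_of% hg]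
  · intro h
    have hsurj : Surjective str := ⟨fun x =>
      ⟨IsLocalRing.closedPoint K, Subsingleton.elim (α := PrimeSpectrum k) _ x⟩⟩
    have hflat : Flat str := by
      rw [HasRingHomProperty.Spec_iff (P := @Flat)]
      exact RingHom.flat_algebraMap_iff.mpr inferInstance
    have : Flat (Curv2.bcFst k X K) :=
      MorphismProperty.pullback_fst (P := @Flat) _ _ hflat
    have : Surjective (Curv2.bcFst k X K) :=
      MorphismProperty.pullback_fst (P := @Surjective) _ _ hsurj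
    have : QuasiCompact (Curv2.bcFst k X K) :=
      MorphismProperty.pullback_fst (P := @QuasiCompact) _ _ inferInstance
    have key : ∀ {Z : Scheme.{u}} (g₁ g₂ : Z ⟶ Curv2.bc k X K),
        g₁ ≫ Curv2.bcFst k X K = g₂ ≫ Curv2.bcFst k X K →
        g₁ ≫ g ≫ Curv2.bcFst k Y K = g₂ ≫ g ≫ Curv2.bcFst k Y K := by
      intro Z g₁ g₂ he
      have hw : (g₁ ≫ Curv2.bcSnd k X K) ≫ str = (g₂ ≫ Curv2.bcSnd k X K) ≫ str := by
        have hc : Curv2.bcSnd k X K ≫ str = Curv2.bcFst k X K ≫ (X ↘ Spec (CommRingCat.of k)) :=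
          pullback.condition.symm
        rw [Category.assoc, Category.assoc, hc, reassoc_of% he]
      let q : Z ⟶ Spec (CommRingCat.of (K ⊗[k] K)) :=
        pullback.lift _ _ hw ≫ (pullbackSpecIso k K K).hom
      have hq1 : q ≫ Spec.map (CommRingCat.ofHom
          (Algebra.TensorProduct.includeLeftRingHom : K →+* K ⊗[k] K)) = g₁ ≫ Curv2.bcSnd k X K := by
        rw [Category.assoc, pullbackSpecIso_hom_fst, pullback.lift_fst]
      have hq2 : q ≫ Spec.map (CommRingCat.ofHom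
          (Algebra.TensorProduct.includeRight : K →ₐ[k] K ⊗[k] K).toRingHom) = g₂ ≫ Curv2.bcSnd k X K := by
        rw [Category.assoc]
        erw [pullbackSpecIso_hom_snd, pullback.lift_snd]
      refine Scheme.Cover.hom_ext ((cover k K).pullback₁ q) _ _ fun σ => ?_
      let σ' : K ≃ₐ[k] K := σ
      let c : pullback q (comp σ') ⟶ Z := pullback.fst q (comp σ')
      have hc : c ≫ g₂ = c ≫ g₁ ≫ Curv2.galAct k X K σ' := by
        apply pullback.hom_ext
        · show (_ ≫ _) ≫ Curv2.bcFst k X K = (_ ≫ _) ≫ Curv2.bcFst k X K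
          rw [Category.assoc, Category.assoc, Category.assoc, VarGal.galAct_fst, he]
        · show (_ ≫ _) ≫ Curv2.bcSnd k X K = (_ ≫ _) ≫ Curv2.bcSnd k X K
          have hcq : c ≫ q = pullback.snd q (comp σ') ≫ comp σ' := pullback.condition
          rw [Category.assoc, Category.assoc, Category.assoc, VarGal.galAct_snd, ← hq2, reassoc_of% hcq,
            comp_right, ← reassoc_of% hq1, reassoc_of% hcq, reassoc_of% (comp_left k K σ')]
      show c ≫ g₁ ≫ _ = c ≫ g₂ ≫ _
      rw [reassoc_of% hc, reassoc_of% (h σ'), VarGal.galAct_fst]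
    refine ⟨EffectiveEpi.desc (Curv2.bcFst k X K) (g ≫ Curv2.bcFst k Y K) key, ?_,
      (EffectiveEpi.fac (Curv2.bcFst k X K) _ key).symm⟩
    rw [← cancel_epi (Curv2.bcFst k X K), ← Category.assoc, EffectiveEpi.fac, Category.assoc]
    show g ≫ pullback.fst _ _ ≫ _ = _
    rw [pullback.condition]
    show g ≫ Curv2.bcSnd k Y K ≫ _ = _
    rw [reassoc_of% hg]
    exact pullback.condition.symm

end Groth.Agent.Desc59.GalMor
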