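import Groth.Agent.DCK91.PullStalk
import Groth.Agent.EGA73.QCohCrit
import Groth.Agent.QC70.Closure
import Groth.Agent.QC70.CohOps
import Groth.Agent.QCqs72.Basic
import Groth.Agent.QCPull72.Sections
import Mathlib.AlgebraicGeometry.Morphisms.Flat
import Mathlib.AlgebraicGeometry.Limits
import Mathlib.RingTheory.Flat.FaithfullyFlat.Basic

/-!
Quasi-coherence descends along flat surjective quasi-compact morphisms, for arbitrary modules.
-/

set_option autoImplicit false
set_option backward.isDefEq.respectTransparency false
set_option backward.isDefEq.respectTransparency.types false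
set_option linter.style.haveILetI false

noncomputable section

universe u

open CategoryTheory Limits AlgebraicGeometry TopologicalSpace Opposite TensorProduct
open Groth.Agent.QC70 Groth.Agent.DCK91

namespace Groth.Agent.Desc59.QCohDesc

variable {X Y : Scheme.{u}} (f : X ⟶ Y) {M N : Y.Modules} (u : M ⟶ N)

/-- the map on stalks of inverse images is the base change of the map on stalks -/
theorem pullη_natural (x : X) (e : M.presheaf.stalk (f x)) :
    stalkMapM ((Scheme.Modules.pullback f).map u) x (pullη f M x e) = pullη f N x (stalkMapM u (f x) e) := by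
  obtain ⟨W, hW, t, rfl⟩ := germM_exist e
  rw [pullη_germ, stalkMapM_germ, stalkMapM_germ, pullη_germ]
  exact congrArg _ (congrArg (fun g => g.app W t)
    ((Scheme.Modules.pullbackPushforwardAdjunction f).unit.naturality u)).symm

/-- along a flat morphism the pullback of any map of modules has the same behaviour on stalks -/
theorem stalk_iff [Flat f] (x : X) :
    (Function.Injective (stalkMapM ((Scheme.Modules.pullback f).map u) x) ↔
        Function.Injective (stalkMapM u (f x))) ∧
      (Function.Surjective (stalkMapM ((Scheme.Modules.pullback f).map u) x) ↔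
        Function.Surjective (stalkMapM u (f x))) := by
  letI := (f.stalkMap x).hom.toAlgebra
  letI := Module.compHom (((Scheme.Modules.pullback f).obj M).presheaf.stalk x) (f.stalkMap x).hom
  letI := Module.compHom (((Scheme.Modules.pullback f).obj N).presheaf.stalk x) (f.stalkMap x).hom
  haveI : IsScalarTower (Y.presheaf.stalk (f x)) (X.presheaf.stalk x)
      (((Scheme.Modules.pullback f).obj M).presheaf.stalk x) :=
    IsScalarTower.of_algebraMap_smul fun r e => rfl
  haveI : IsScalarTower (Y.presheaf.stalk (f x)) (X.presheaf.stalk x)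
      (((Scheme.Modules.pullback f).obj N).presheaf.stalk x) :=
    IsScalarTower.of_algebraMap_smul fun r e => rfl
  haveI : Module.Flat (Y.presheaf.stalk (f x)) (X.presheaf.stalk x) := Flat.stalkMap f x
  haveI : IsLocalHom (algebraMap (Y.presheaf.stalk (f x)) (X.presheaf.stalk x)) :=
    inferInstanceAs (IsLocalHom (f.stalkMap x).hom)
  haveI : Module.FaithfullyFlat (Y.presheaf.stalk (f x)) (X.presheaf.stalk x) :=
    Module.FaithfullyFlat.of_flat_of_isLocalHom
  let E := (isBaseChange_pullη f M x).equiv
  let E' := (isBaseChange_pullη f N x).equiv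
  have hnat : ∀ z, stalkMapM ((Scheme.Modules.pullback f).map u) x (E z) =
      E' ((stalkLinear u (f x)).lTensor (X.presheaf.stalk x) z) := by
    intro z
    induction z with
    | zero =>
      rw [map_zero, map_zero, map_zero]
      exact (stalkLinear ((Scheme.Modules.pullback f).map u) x).map_zero
    | add a b ha hb =>
      rw [map_add, map_add, map_add, ← ha, ← hb]
      exact (stalkLinear ((Scheme.Modules.pullback f).map u) x).map_add _ _
    | tmul r e =>
      rw [LinearMap.lTensor_tmul, IsBaseChange.equiv_tmul, IsBaseChange.equiv_tmul]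
      refine ((stalkLinear ((Scheme.Modules.pullback f).map u) x).map_smul r _).trans ?_
      exact congrArg (r • ·) (pullη_natural f u x e)
  have hc : stalkMapM ((Scheme.Modules.pullback f).map u) x ∘ E =
      E' ∘ (stalkLinear u (f x)).lTensor (X.presheaf.stalk x) := funext hnat
  constructor
  · rw [← Function.Injective.of_comp_iff' _ E.bijective, hc, Function.Injective.of_comp_iff E'.injective]
    exact Module.FaithfullyFlat.lTensor_injective_iff_injective _ _ (stalkLinear u (f x))
  · rw [← Function.Surjective.of_comp_iff _ E.surjective, hc, Function.Surjective.of_comp_iff' E'.bijective]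
    exact Module.FaithfullyFlat.lTensor_surjective_iff_surjective _ _ (stalkLinear u (f x))

theorem mono_pullback [Flat f] [Mono u] : Mono ((Scheme.Modules.pullback f).map u) :=
  mono_of_injective_stalkMapM _ fun x => (stalk_iff f u x).1.mpr (injective_stalkMapM_of_mono u _)

theorem isIso_of_pullback [Flat f] [Surjective f] [IsIso ((Scheme.Modules.pullback f).map u)] : IsIso u := by
  refine isIso_of_bijective_stalkMapM u fun y => ?_
  obtain ⟨x, rfl⟩ := f.surjective y
  exact ⟨(stalk_iff f u x).1.mp (injective_stalkMapM_of_mono _ x),
    (stalk_iff f u x).2.mp (surjective_stalkMapM_of_epi _ x)⟩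

/-- the equalizer trick -/
theorem isQuasicoherent_of_pullback_qcqs [Flat f] [Surjective f] [QuasiCompact f] [QuasiSeparated f]
    (M : Y.Modules) [((Scheme.Modules.pullback f).obj M).IsQuasicoherent] : M.IsQuasicoherent := by
  let F := Scheme.Modules.pullback f
  let G := Scheme.Modules.pushforward f
  let adj := Scheme.Modules.pullbackPushforwardAdjunction f
  let P := G.obj (F.obj M)
  let a : P ⟶ G.obj (F.obj P) := adj.unit.app P
  let b : P ⟶ G.obj (F.obj P) := G.map (F.map (adj.unit.app M))
  have hab : adj.unit.app M ≫ a = adj.unit.app M ≫ b := adj.unit.naturality (adj.unit.app M)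
  let u : M ⟶ equalizer a b := equalizer.lift _ hab
  let ι := equalizer.ι a b
  let s : F.obj P ⟶ F.obj M := adj.counit.app (F.obj M)
  let t : F.obj (G.obj (F.obj P)) ⟶ F.obj P := adj.counit.app (F.obj P)
  have hat : F.map a ≫ t = 𝟙 _ := adj.left_triangle_components P
  have hbt : F.map b ≫ t = s ≫ F.map (adj.unit.app M) := adj.counit.naturality (F.map (adj.unit.app M))
  have hs : F.map (adj.unit.app M) ≫ s = 𝟙 _ := adj.left_triangle_components M
  have : Mono (F.map ι) := mono_pullback f ι
  have hu : u ≫ ι = adj.unit.app M := equalizer.lift_ι _ _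
  have : IsIso (F.map u) := by
    refine ⟨F.map ι ≫ s, ?_, ?_⟩
    · rw [← Category.assoc, ← F.map_comp, hu]; exact hs
    · rw [← cancel_mono (F.map ι), Category.id_comp, Category.assoc, Category.assoc, ← F.map_comp, hu,
        ← hbt, ← Category.assoc, ← F.map_comp, ← equalizer.condition, F.map_comp, Category.assoc, hat,
        Category.comp_id]
  have : IsIso u := isIso_of_pullback f u
  have hP : P.IsQuasicoherent := QCqs72.isQuasicoherent_pushforward (F.obj M) f
  have : (G.obj (F.obj P)).IsQuasicoherent := by
    have : (F.obj P).IsQuasicoherent := QCPull72.isQuasicoherent_pullback f P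
    exact QCqs72.isQuasicoherent_pushforward (F.obj P) f
  have hk : (kernel (a - b)).IsQuasicoherent := QC70.isQuasicoherent_kernel (a - b)
  let e : equalizer a b ≅ kernel (a - b) :=
    { hom := kernel.lift _ (equalizer.ι a b) (by rw [Preadditive.comp_sub, equalizer.condition, sub_self])
      inv := equalizer.lift (kernel.ι (a - b)) (by
        rw [← sub_eq_zero, ← Preadditive.comp_sub, kernel.condition])
      hom_inv_id := equalizer.hom_ext (by simp)
      inv_hom_id := (cancel_mono (kernel.ι _)).mp (by simp) }
  exact (SheafOfModules.isQuasicoherent.{u} Y.ringCatSheaf).prop_of_iso (asIso u ≪≫ e).symm hk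

/-- Quasi-coherence descends along flat surjective quasi-compact morphisms. -/
theorem isQuasicoherent_of_pullback [Flat f] [Surjective f] [QuasiCompact f]
    (M : Y.Modules) [((Scheme.Modules.pullback f).obj M).IsQuasicoherent] : M.IsQuasicoherent := by
  refine EGA73.isQuasicoherent_of_affine_cover M (fun U : Y.affineOpens => U.1) (fun U => U.2)
    (iSup_affineOpens_eq_top Y) fun U => ?_
  let j := U.2.fromSpec
  let P := pullback f j
  let f' : P ⟶ Spec Γ(Y, U.1) := pullback.snd f j
  have : CompactSpace P := QuasiCompact.compactSpace_of_compactSpace f'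
  let 𝒰 := P.affineCover.finiteSubcover
  let g : ∐ 𝒰.X ⟶ P := Sigma.desc 𝒰.f
  have : ∀ i, IsAffine (𝒰.X i) := fun i => inferInstanceAs (IsAffine (P.affineCover.X _))
  have hg : Surjective g := ⟨fun x => by
    obtain ⟨y, hy⟩ := 𝒰.covers x
    refine ⟨Sigma.ι 𝒰.X (𝒰.idx x) y, ?_⟩
    rw [← Scheme.Hom.comp_apply, Sigma.ι_desc]
    exact hy⟩
  have : Flat g := inferInstance
  let h := g ≫ f'
  have : ((Scheme.Modules.pullback h).obj (M.restrict j)).IsQuasicoherent := by
    have e0 : h ≫ j = (g ≫ pullback.fst f j) ≫ f := by
      simp only [h, f', Category.assoc, pullback.condition]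
    let e : (Scheme.Modules.pullback h).obj (M.restrict j) ≅
        (Scheme.Modules.pullback (g ≫ pullback.fst f j)).obj ((Scheme.Modules.pullback f).obj M) :=
      (Scheme.Modules.pullback h).mapIso ((Scheme.Modules.restrictFunctorIsoPullback j).app M) ≪≫
        (Scheme.Modules.pullbackComp h j).app M ≪≫
        (Scheme.Modules.pullbackCongr e0).app M ≪≫
        ((Scheme.Modules.pullbackComp (g ≫ pullback.fst f j) f).app M).symm
    exact (SheafOfModules.isQuasicoherent.{u} _).prop_of_iso e.symm
      (QCPull72.isQuasicoherent_pullback _ _)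
  exact isQuasicoherent_of_pullback_qcqs h (M.restrict j)

end Groth.Agent.Desc59.QCohDesc
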