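import Groth.Agent.Desc59.FlatH0
import Groth.Agent.Desc59.QCohDesc
import Groth.Agent.SiteMod.PullTensorIso
import Groth.Agent.GSS45.ClosedHom
import Groth.Agent.FlatMor68.PullbackDescent
import Groth.Agent.Amp73.GlobGen
import Groth.Agent.Amp73.Criteria
import Mathlib.RingTheory.Flat.FaithfullyFlat.Algebra

/-!
Ampleness descends along faithfully flat morphisms of affine bases.
-/

set_option autoImplicit false
set_option backward.isDefEq.respectTransparency false
set_option backward.isDefEq.respectTransparency.types false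
set_option linter.style.haveILetI false

noncomputable section

universe u

open CategoryTheory Limits AlgebraicGeometry TopologicalSpace Opposite TensorProduct
open Groth.Agent.QC70 Groth.Agent.DCK91

namespace Groth.Agent.Desc59.AmpleDesc

/-- Inverse images commute with tensor products, for any morphism of schemes and any modules. -/
def pullTensIso {X P : Scheme.{u}} (i : X ⟶ P) (M N : P.Modules) :
    (Scheme.Modules.pullback i).obj (CohB1.tensorMod M N) ≅
      CohB1.tensorMod ((Scheme.Modules.pullback i).obj M) ((Scheme.Modules.pullback i).obj N) :=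
  let e := ModSite.RMor.ofSchemePull i
  let r : X.Modules ⥤ X.Modules := Mod48.tR (O := X.sheaf) ((ModSite.RMor.ofScheme i).pull.obj N)
  (Functor.isoWhiskerLeft (Mod48.tR (O := P.sheaf) N) e.symm ≪≫
    SiteMod.pullTensIso (ModSite.RMor.ofScheme i) N ≪≫
    Functor.isoWhiskerRight e r ≪≫
    Functor.isoWhiskerLeft (Scheme.Modules.pullback i)
      ((ModSite.tensorBi X.sheaf).flip.mapIso (e.app N))).app M

/-- The germs of a family of global sections spanning over an affine open span the stalks there. -/
theorem germs_span_of_spanAt {X : Scheme.{u}} {F : X.Modules} [F.IsQuasicoherent] {U : X.Opens}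
    (hU : IsAffineOpen U) (h : Amp73.SpanAt F U) {x : X} (hx : x ∈ U) :
    Submodule.span (X.presheaf.stalk x) (Set.range fun t : Γ(F, ⊤) => germM F ⊤ x trivial t) = ⊤ := by
  refine eq_top_iff.mpr fun e _ => ?_
  obtain ⟨W, hxW, z, rfl⟩ := germM_exist e
  obtain ⟨r, hrW, hxr⟩ := hU.exists_basicOpen_le ⟨x, hxW⟩ hx
  obtain ⟨k, u, hu⟩ := (isLocAt_of_isQuasicoherent F hU).exists_of r (res F hrW z)
  have hr : IsUnit (X.presheaf.germ (X.basicOpen r) x hxr (resO X (X.basicOpen_le r) r ^ k)) :=
    ((RingedSpace.isUnit_res_basicOpen _ r).pow k).map _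
  have h1 : germM F U x hx u ∈ Submodule.span (X.presheaf.stalk x)
      (Set.range fun t : Γ(F, ⊤) => germM F ⊤ x trivial t) := by
    have hu : u ∈ Submodule.span Γ(X, U) (Set.range fun t : Γ(F, ⊤) => res F (le_top : U ≤ ⊤) t) :=
      h.ge Submodule.mem_top
    refine Submodule.span_induction (p := fun v _ => germM F U x hx v ∈ _) ?_ ?_ ?_ ?_ hu
    · rintro _ ⟨t, rfl⟩
      rw [germM_res]
      exact Submodule.subset_span ⟨t, rfl⟩
    · rw [germM_zero]; exact zero_mem _
    · intro a b _ _ ha hb
      rw [show germM F U x hx (a + b) = germM F U x hx a + germM F U x hx b from map_add _ _ _]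
      exact add_mem ha hb
    · intro a b _ hb
      rw [germM_smul]
      exact Submodule.smul_mem _ _ hb
  rw [← germM_res (X.basicOpen_le r) hxr u, hu, germM_smul, germM_res] at h1
  obtain ⟨w, hw⟩ := hr.exists_left_inv
  have h2 := Submodule.smul_mem _ w h1
  rwa [smul_smul, hw, one_smul] at h2

variable {X Y : Scheme.{u}} (f : X ⟶ Y) {M N : Y.Modules}

/-- Along a flat morphism the stalk of a module injects into the stalk of its inverse image. -/
theorem pullη_injective [Flat f] (x : X) : Function.Injective (pullη f M x) := by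
  letI := (f.stalkMap x).hom.toAlgebra
  letI := Module.compHom (((Scheme.Modules.pullback f).obj M).presheaf.stalk x) (f.stalkMap x).hom
  haveI : IsScalarTower (Y.presheaf.stalk (f x)) (X.presheaf.stalk x)
      (((Scheme.Modules.pullback f).obj M).presheaf.stalk x) :=
    IsScalarTower.of_algebraMap_smul fun r e => rfl
  haveI : Module.Flat (Y.presheaf.stalk (f x)) (X.presheaf.stalk x) := Flat.stalkMap f x
  haveI : IsLocalHom (algebraMap (Y.presheaf.stalk (f x)) (X.presheaf.stalk x)) :=
    inferInstanceAs (IsLocalHom (f.stalkMap x).hom)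
  haveI : Module.FaithfullyFlat (Y.presheaf.stalk (f x)) (X.presheaf.stalk x) :=
    Module.FaithfullyFlat.of_flat_of_isLocalHom
  intro a b hab
  refine Module.FaithfullyFlat.tensorProduct_mk_injective (B := X.presheaf.stalk x) _
    ((isBaseChange_pullη f M x).equiv.injective ?_)
  rw [TensorProduct.mk_apply, TensorProduct.mk_apply, IsBaseChange.equiv_tmul, IsBaseChange.equiv_tmul,
    one_smul, one_smul]
  exact hab

variable {Y' X' : Scheme.{u}} {f' : X' ⟶ Y'} {g' : X' ⟶ X} {g : Y' ⟶ Y}

/-- A map killing all global sections of `F` is zero, if the inverse image of `F` is generated by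
global sections after a faithfully flat base change. -/
theorem eq_zero_of_pullback_spanAt [IsAffine Y] [IsAffine Y'] [CompactSpace X] [QuasiSeparatedSpace X]
    [Flat g] [Surjective g] (H : IsPullback g' f' f g) (F : X.Modules) [F.IsQuasicoherent]
    (hgen : ∀ x' : X', ∃ U, x' ∈ U ∧ IsAffineOpen U ∧ Amp73.SpanAt ((Scheme.Modules.pullback g').obj F) U)
    {T : X.Modules} (q : F ⟶ T) (h : ∀ t, q.app ⊤ t = 0) : q = 0 := by
  have : Flat g' := MorphismProperty.of_isPullback (P := @Flat) H.flip inferInstance
  have : Surjective g' := MorphismProperty.of_isPullback (P := @Surjective) H.flip inferInstance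
  refine (FlatMor68.PullbackDescent.zero_iff q).mpr fun x e => ?_
  obtain ⟨x', rfl⟩ := g'.surjective x
  refine pullη_injective g' x' ?_
  rw [← QCohDesc.pullη_natural, map_zero]
  obtain ⟨U, hxU, hU, hspan⟩ := hgen x'
  have := QCPull72.isQuasicoherent_pullback g' F
  have h0 : ∀ z : ((Scheme.Modules.pullback g').obj F).presheaf.stalk x',
      stalkLinear ((Scheme.Modules.pullback g').map q) x' z = 0 := by
    intro z
    have hz : z ∈ Submodule.span (X'.presheaf.stalk x')
        (Set.range fun t : Γ((Scheme.Modules.pullback g').obj F, ⊤) => germM _ ⊤ x' trivial t) :=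
      (germs_span_of_spanAt hU hspan hxU).ge Submodule.mem_top
    refine Submodule.span_induction (p := fun v _ => stalkLinear ((Scheme.Modules.pullback g').map q) x' v = 0)
      ?_ (map_zero _) (fun a b _ _ ha hb => by rw [map_add, ha, hb, add_zero])
      (fun a b _ hb => by rw [map_smul, hb, smul_zero]) hz
    rintro _ ⟨s, rfl⟩
    obtain ⟨z₀, hz₀⟩ := FlatH0.exists_eq_μ f f' g' F H s
    rw [← hz₀]
    clear hz₀
    letI := FlatH0.baseModule f F ⊤
    letI := g.appTop.hom.toAlgebra
    induction z₀ with
    | zero => rw [map_zero]; exact (congrArg _ (germM_zero _)).trans (map_zero _)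
    | add a b ha hb =>
      rw [map_add]
      refine (congrArg _ (map_add _ _ _)).trans ?_
      rw [map_add, ha, hb, add_zero]
    | tmul a t =>
      show stalkMapM ((Scheme.Modules.pullback g').map q) x' (germM _ (g' ⁻¹ᵁ ⊤) x' trivial
        (f'.appLE ⊤ (g' ⁻¹ᵁ ⊤) le_top a • Amp73.pullS g' F ⊤ t)) = 0
      rw [stalkMapM_germ, Scheme.Modules.Hom.app_smul, Amp73.map_app_pullS, h]
      rw [show Amp73.pullS g' T ⊤ 0 = 0 from map_zero _, smul_zero]
      exact germM_zero _
  exact h0 _

/-- Ampleness descends along a faithfully flat morphism of affine bases. -/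
theorem isAmple_of_pullback [IsAffine Y] [IsAffine Y'] [QuasiCompact f] [Flat g] [Surjective g]
    (H : IsPullback g' f' f g) {L : X.Modules} (hL : PicF.IsInvertible L)
    (h : CohB1.IsAmple ((Scheme.Modules.pullback g').obj L)) : CohB1.IsAmple L := by
  have : CompactSpace X := QuasiCompact.compactSpace_of_compactSpace f
  have : IsAffineHom g' := MorphismProperty.of_isPullback (P := @IsAffineHom) H.flip
    (inferInstanceAs (IsAffineHom g))
  have : Surjective g' := MorphismProperty.of_isPullback (P := @Surjective) H.flip inferInstance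
  have := Amp73.quasiSeparatedSpace_of_isAmple h
  have : QuasiSeparatedSpace X := ⟨fun U V hUo hUc hVo hVc => by
    have h1 := QuasiSeparatedSpace.inter_isCompact (g' ⁻¹' U) (g' ⁻¹' V) (hUo.preimage g'.continuous)
      (g'.isSpectralMap.isCompact_preimage_of_isOpen hUo hUc) (hVo.preimage g'.continuous)
      (g'.isSpectralMap.isCompact_preimage_of_isOpen hVo hVc)
    rw [← Set.preimage_inter] at h1
    have h2 := h1.image g'.continuous
    rwa [Set.image_preimage_eq _ g'.surjective] at h2⟩
  refine Amp73.isAmple_of_ideals hL fun I hI => ?_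
  have := (Amp73.isCoh_idealMod hI).1
  have := (Amp73.isCoh_idealMod hI).2
  have hG : Coh.IsCoh ((Scheme.Modules.pullback g').obj (ClSub.idealMod I)) :=
    ⟨QCPull72.isQuasicoherent_pullback g' _, QCPull72.isFiniteType_pullback g' _⟩
  obtain ⟨n, hn⟩ := Amp73.eventually_spanAt_twist h hG
  refine ⟨n, fun T q hq => ?_⟩
  have hM : PicF.IsInvertible (CohB1.tensorPow L (n + 1)) := EGA73.isInvertible_tensorPow hL _
  have : (CohB1.tensorMod (ClSub.idealMod I) (CohB1.tensorPow L (n + 1))).IsQuasicoherent :=
    Amp73.isQCoh_tensorMod (Amp73.isCoh_idealMod hI).1 (Mero90.isQCoh_of_isInvertible hM)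
  by_contra hcon
  push Not at hcon
  refine hq (eq_zero_of_pullback_spanAt f H _ (fun x' => ?_) q hcon)
  obtain ⟨U, hxU, hU, hsp⟩ := hn (n + 1) (Nat.le_succ n) x'
  let e := pullTensIso g' (ClSub.idealMod I) (CohB1.tensorPow L (n + 1)) ≪≫
    EGA73.tensIso (Iso.refl _) (Amp73.pullPowIso g' hL (n + 1))
  exact ⟨U, hxU, hU, Amp73.spanAt_of_iso e.inv hsp⟩

end Groth.Agent.Desc59.AmpleDesc
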