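import Mathlib
import Groth.Agent.QCPull72.Sections
import Groth.Agent.QCqs72.Basic
import Groth.Agent.Props58.LocFree.FP
import Groth.Agent.Props58.LocFree.Affine
import Groth.Agent.FlatMor68.LocFree
import Groth.Agent.Sga84.FFDesc

/-! fpqc descent of finiteness properties of quasi-coherent modules; finite direct images. -/

set_option autoImplicit false
set_option backward.isDefEq.respectTransparency.types false
universe u

open CategoryTheory CategoryTheory.Limits AlgebraicGeometry TopologicalSpace TensorProduct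
open Groth.Agent.QC70

namespace Groth.Agent.Desc59.ModDesc

section Alg

variable {R : Type u} [CommRing R] {ι : Type u} [Finite ι] (T : ι → Type u)
  [∀ i, CommRing (T i)] [∀ i, Algebra R (T i)] [∀ i, Module.Flat R (T i)]
  (hT : ∀ p : PrimeSpectrum R, ∃ i, p ∈ Set.range (PrimeSpectrum.comap (algebraMap R (T i))))

include hT

/-- Flatness descends along a jointly surjective family of flat algebras. -/
theorem flat_of_forall (M : Type u) [AddCommGroup M] [Module R M]
    (h : ∀ i, Module.Flat (T i) (T i ⊗[R] M)) : Module.Flat R M := by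
  rw [Module.Flat.iff_lTensor_preserves_injective_linearMap]
  intro P Q _ _ _ _ v hv
  rw [← LinearMap.ker_eq_bot, ← Submodule.subsingleton_iff_eq_bot]
  refine FFDesc84.subsingleton_of_forall T hT _ fun i => ⟨fun a b => ?_⟩
  have := Module.Flat.trans R (T i) (T i ⊗[R] M)
  have h1 : Function.Injective (v.lTensor (T i ⊗[R] M)) :=
    Module.Flat.lTensor_preserves_injective_linearMap v hv
  have h2 : Function.Injective ((v.lTensor M).lTensor (T i)) := by
    have e : ((v.lTensor M).lTensor (T i)) ∘ₗ (TensorProduct.assoc R (T i) M P).toLinearMap =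
        (TensorProduct.assoc R (T i) M Q).toLinearMap ∘ₗ v.lTensor (T i ⊗[R] M) :=
      TensorProduct.ext_threefold fun x y z => by simp
    intro x y hxy
    obtain ⟨x, rfl⟩ := (TensorProduct.assoc R (T i) M P).surjective x
    obtain ⟨y, rfl⟩ := (TensorProduct.assoc R (T i) M P).surjective y
    have hx := LinearMap.congr_fun e x
    have hy := LinearMap.congr_fun e y
    simp only [LinearMap.comp_apply, LinearEquiv.coe_toLinearMap] at hx hy
    rw [hxy] at hx
    exact congrArg _ (h1 ((TensorProduct.assoc R (T i) M Q).injective (hx.symm.trans hy)))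
  have h3 : Function.Injective ((LinearMap.ker (v.lTensor M)).subtype.lTensor (T i)) :=
    Module.Flat.lTensor_preserves_injective_linearMap _ Subtype.val_injective
  apply h3
  apply h2
  rw [← LinearMap.lTensor_comp_apply, ← LinearMap.lTensor_comp_apply, LinearMap.comp_ker_subtype,
    LinearMap.lTensor_zero]
  rfl

end Alg

section Desc

variable {P : Scheme.{u}} {ι : Type u} {Q : ι → Scheme.{u}} (g : ∀ i, Q i ⟶ P)
  [QuasiCompactCover (⟨ι, Q, g⟩ : PreZeroHypercover.{u} P)] (hflat : ∀ i, Flat (g i))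
  (F : P.Modules) [F.IsQuasicoherent]

include hflat

/-- Descent of a property of modules from finitely many flat charts to an affine open. -/
theorem desc_affine
    (D : ∀ (R : Type u) [CommRing R] (M : Type u) [AddCommGroup M] [Module R M], Prop)
    (hD : ∀ (R : Type u) [CommRing R] (n : ℕ) (T : ULift.{u} (Fin n) → Type u) [∀ k, CommRing (T k)]
      [∀ k, Algebra R (T k)] [∀ k, Module.Flat R (T k)]
      (_ : ∀ p : PrimeSpectrum R, ∃ k, p ∈ Set.range (PrimeSpectrum.comap (algebraMap R (T k))))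
      (M : Type u) [AddCommGroup M] [Module R M],
      (∀ k, ∃ (N : Type u) (_ : AddCommGroup N) (_ : Module (T k) N),
        D (T k) N ∧ Nonempty (N ≃ₗ[T k] T k ⊗[R] M)) → D R M)
    (hQ : ∀ i (V : (Q i).Opens), IsAffineOpen V → D Γ(Q i, V) Γ((Scheme.Modules.pullback (g i)).obj F, V))
    (U : P.Opens) (hU : IsAffineOpen U) : D Γ(P, U) Γ(F, U) := by
  obtain ⟨n, f, V, hV, hcov⟩ := QuasiCompactCover.exists_isAffineOpen_of_isCompact
    (⟨ι, Q, g⟩ : PreZeroHypercover.{u} P) hU.isCompact
  have hle : ∀ k, V k ≤ g (f k) ⁻¹ᵁ U := fun k x hx => by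
    show g (f k) x ∈ (U : Set P)
    rw [← hcov]
    exact Set.mem_iUnion.mpr ⟨k, x, hx, rfl⟩
  let T : ULift.{u} (Fin n) → Type u := fun k => Γ(Q (f k.down), V k.down)
  letI : ∀ k, Algebra Γ(P, U) (T k) := fun k =>
    ((g (f k.down)).appLE U (V k.down) (hle k.down)).hom.toAlgebra
  have : ∀ k, Module.Flat Γ(P, U) (T k) := fun k => by
    have := hflat (f k.down)
    exact HasRingHomProperty.appLE @Flat (g (f k.down)) inferInstance ⟨U, hU⟩ ⟨V k.down, hV k.down⟩
      (hle k.down)
  refine hD Γ(P, U) n T (fun p => ?_) Γ(F, U) fun k =>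
    ⟨_, inferInstance, inferInstance, hQ _ _ (hV k.down),
      ⟨QCPull72.sectionsPullbackEquiv (g (f k.down)) F hU (hV k.down) (hle k.down)⟩⟩
  obtain ⟨x, hx, hp⟩ : ∃ (x : P) (hx : x ∈ U), hU.primeIdealOf ⟨x, hx⟩ = p := by
    have hmem : hU.fromSpec p ∈ U := hU.range_fromSpec.le ⟨p, rfl⟩
    exact ⟨_, hmem, hU.fromSpec.isOpenEmbedding.injective (hU.fromSpec_primeIdealOf ⟨_, hmem⟩)⟩
  obtain ⟨k, y, hy, e⟩ : ∃ k y, y ∈ V k ∧ g (f k) y = x := by
    rw [← SetLike.mem_coe, ← hcov] at hx
    obtain ⟨k, y, hy, e⟩ := Set.mem_iUnion.mp hx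
    exact ⟨k, y, hy, e⟩
  refine ⟨⟨k⟩, (hV k).primeIdealOf ⟨y, hy⟩, ?_⟩
  subst hp
  apply hU.fromSpec.isOpenEmbedding.injective
  rw [hU.fromSpec_primeIdealOf]
  show hU.fromSpec ((Spec.map ((g (f k)).appLE U (V k) (hle k))) ((hV k).primeIdealOf ⟨y, hy⟩)) = x
  rw [← Scheme.Hom.comp_apply, hU.SpecMap_appLE_fromSpec (g (f k)) (hV k) (hle k), Scheme.Hom.comp_apply,
    (hV k).fromSpec_primeIdealOf]
  exact e

theorem finite_sections_of_pullback [∀ i, ((Scheme.Modules.pullback (g i)).obj F).IsFiniteType]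
    (U : P.Opens) (hU : IsAffineOpen U) : Module.Finite Γ(P, U) Γ(F, U) :=
  desc_affine g hflat F (fun R _ M _ _ => Module.Finite R M)
    (fun R _ n T _ _ _ hT M _ _ h => FFDesc84.finite_of_forall T hT M fun k => by
      obtain ⟨N, _, _, hN, ⟨e⟩⟩ := h k
      exact Module.Finite.equiv e)
    (fun i V hV => by
      have := QCPull72.isQuasicoherent_pullback (g i) F
      exact finite_sections_of_isFiniteType _ hV) U hU

theorem isFiniteType_of_pullback [∀ i, ((Scheme.Modules.pullback (g i)).obj F).IsFiniteType] :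
    F.IsFiniteType :=
  isFiniteType_of_finite_sections F (fun W : P.affineOpens => W.1) (iSup_affineOpens_eq_top P)
    (fun W => W.2) fun W => finite_sections_of_pullback g hflat F W.1 W.2

theorem isFinLocFree_of_pullback
    (h : ∀ i, FlatMod.IsFinLocFree ((Scheme.Modules.pullback (g i)).obj F)) : FlatMod.IsFinLocFree F := by
  refine FlatMor68.LocFree.isFinLocFree_of_projective_sections F fun x => ?_
  obtain ⟨U, hU, hx, -⟩ := exists_isAffineOpen_mem_and_subset (x := x) (U := ⊤) trivial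
  refine ⟨U, hU, hx, desc_affine g hflat F (fun R _ M _ _ => Module.Projective R M ∧ Module.Finite R M)
    (fun R _ n T _ _ _ hT M _ _ h' => ?_) (fun i V hV => ?_) U hU⟩
  · have hfp : Module.FinitePresentation R M := FFDesc84.finitePresentation_of_forall T hT M fun k => by
      obtain ⟨N, _, _, ⟨hN, hN'⟩, ⟨e⟩⟩ := h' k
      have := Module.finitePresentation_of_projective (T k) N
      exact Module.FinitePresentation.of_equiv e
    have hfl : Module.Flat R M := flat_of_forall T hT M fun k => by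
      obtain ⟨N, _, _, ⟨hN, hN'⟩, ⟨e⟩⟩ := h' k
      exact Module.Flat.of_linearEquiv e.symm
    exact ⟨Module.Flat.projective_of_finitePresentation, inferInstance⟩
  · have := QCPull72.isQuasicoherent_pullback (g i) F
    refine ⟨Props58.LocFree.projective_sections (h i) hV, ?_⟩
    have := Props58.LocFree.isFP_of_isFinLocFree (h i)
    have := Props58.LocFree.finitePresentation_sections ((Scheme.Modules.pullback (g i)).obj F) hV
    infer_instance

end Desc

section Push

variable {X Y : Scheme.{u}} (f : X ⟶ Y) (F : X.Modules)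

/-- Sections of the direct image are sections over the preimage. -/
def pushSectionsEquiv (U : Y.Opens) :
    letI := (f.app U).hom.toAlgebra
    letI := Module.compHom Γ(F, f ⁻¹ᵁ U) (f.app U).hom
    Γ((Scheme.Modules.pushforward f).obj F, U) ≃ₗ[Γ(Y, U)] Γ(F, f ⁻¹ᵁ U) :=
  letI := Module.compHom Γ(F, f ⁻¹ᵁ U) (f.app U).hom
  { toFun := fun x => x
    invFun := fun x => x
    map_add' := fun _ _ => rfl
    map_smul' := fun _ _ => rfl
    left_inv := fun _ => rfl
    right_inv := fun _ => rfl }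

theorem finite_push_iff [IsFinite f] [F.IsQuasicoherent] (U : Y.Opens) (hU : IsAffineOpen U) :
    Module.Finite Γ(Y, U) Γ((Scheme.Modules.pushforward f).obj F, U) ↔
      Module.Finite Γ(X, f ⁻¹ᵁ U) Γ(F, f ⁻¹ᵁ U) := by
  algebraize [(f.app U).hom]
  letI := Module.compHom Γ(F, f ⁻¹ᵁ U) (f.app U).hom
  haveI : IsScalarTower Γ(Y, U) Γ(X, f ⁻¹ᵁ U) Γ(F, f ⁻¹ᵁ U) := .of_algebraMap_smul fun _ _ => rfl
  haveI : Module.Finite Γ(Y, U) Γ(X, f ⁻¹ᵁ U) := f.finite_app U hU
  rw [Module.Finite.equiv_iff (pushSectionsEquiv f F U)]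
  exact ⟨fun _ => Module.Finite.of_restrictScalars_finite Γ(Y, U) _ _, fun _ => Module.Finite.trans Γ(X, f ⁻¹ᵁ U) _⟩

theorem finitePresentation_push_iff [IsFinite f] [LocallyOfFinitePresentation f] [F.IsQuasicoherent]
    (U : Y.Opens) (hU : IsAffineOpen U) :
    Module.FinitePresentation Γ(Y, U) Γ((Scheme.Modules.pushforward f).obj F, U) ↔
      Module.FinitePresentation Γ(X, f ⁻¹ᵁ U) Γ(F, f ⁻¹ᵁ U) := by
  algebraize [(f.app U).hom]
  letI := Module.compHom Γ(F, f ⁻¹ᵁ U) (f.app U).hom
  haveI : IsScalarTower Γ(Y, U) Γ(X, f ⁻¹ᵁ U) Γ(F, f ⁻¹ᵁ U) := .of_algebraMap_smul fun _ _ => rfl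
  haveI : Module.Finite Γ(Y, U) Γ(X, f ⁻¹ᵁ U) := f.finite_app U hU
  haveI : Algebra.FinitePresentation Γ(Y, U) Γ(X, f ⁻¹ᵁ U) := by
    have h := HasRingHomProperty.appLE @LocallyOfFinitePresentation f inferInstance ⟨U, hU⟩
      ⟨_, hU.preimage f⟩ le_rfl
    rwa [Scheme.Hom.appLE_eq_app] at h
  haveI : Module.FinitePresentation Γ(Y, U) Γ(X, f ⁻¹ᵁ U) :=
    Module.FinitePresentation.of_finite_of_finitePresentation _ _
  have key : Module.FinitePresentation Γ(Y, U) Γ((Scheme.Modules.pushforward f).obj F, U) ↔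
      Module.FinitePresentation Γ(Y, U) Γ(F, f ⁻¹ᵁ U) :=
    ⟨fun _ => Module.FinitePresentation.of_equiv (pushSectionsEquiv f F U),
      fun _ => Module.FinitePresentation.of_equiv (pushSectionsEquiv f F U).symm⟩
  rw [key]
  refine ⟨fun h => ?_, fun _ => Module.FinitePresentation.trans Γ(Y, U) Γ(F, f ⁻¹ᵁ U) Γ(X, f ⁻¹ᵁ U)⟩
  have : Module.Finite Γ(X, f ⁻¹ᵁ U) Γ(F, f ⁻¹ᵁ U) := Module.Finite.of_restrictScalars_finite Γ(Y, U) _ _
  obtain ⟨n, p, hp⟩ := Module.Finite.exists_fin' Γ(X, f ⁻¹ᵁ U) Γ(F, f ⁻¹ᵁ U)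
  have hk := Module.FinitePresentation.fg_ker (p.restrictScalars Γ(Y, U)) hp
  refine Module.finitePresentation_of_surjective p hp ?_
  have : Module.Finite Γ(Y, U) (LinearMap.ker (p.restrictScalars Γ(Y, U))) := Module.Finite.iff_fg.mpr hk
  have : Module.Finite Γ(Y, U) (LinearMap.ker p) :=
    Module.Finite.equiv ((LinearEquiv.refl Γ(Y, U) _).ofSubmodules (LinearMap.ker (p.restrictScalars Γ(Y, U)))
      ((LinearMap.ker p).restrictScalars Γ(Y, U)) (by ext; simp))
  exact Module.Finite.iff_fg.mp (Module.Finite.of_restrictScalars_finite Γ(Y, U) _ (LinearMap.ker p))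

theorem isFiniteType_of_affineCover_preimage [IsFinite f] [F.IsQuasicoherent] :
    F.IsFiniteType ↔ ((Scheme.Modules.pushforward f).obj F).IsFiniteType := by
  haveI := QCqs72.isQuasicoherent_pushforward (M := F) f
  constructor
  · intro _
    exact isFiniteType_of_finite_sections _ (fun W : Y.affineOpens => W.1) (iSup_affineOpens_eq_top Y)
      (fun W => W.2) fun W => (finite_push_iff f F W.1 W.2).mpr
        (finite_sections_of_isFiniteType F (W.2.preimage f))
  · intro _
    refine isFiniteType_of_finite_sections F (fun W : Y.affineOpens => f ⁻¹ᵁ W.1) ?_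
      (fun W => W.2.preimage f) fun W => (finite_push_iff f F W.1 W.2).mp (finite_sections_of_isFiniteType _ W.2)
    exact IsOpenCover.mk (top_le_iff.mp fun x _ => by
      obtain ⟨U, hU, hx, -⟩ := exists_isAffineOpen_mem_and_subset (x := f x) (U := ⊤) trivial
      exact Opens.mem_iSup.mpr ⟨⟨U, hU⟩, hx⟩)

theorem isFP_iff_pushforward [IsFinite f] [LocallyOfFinitePresentation f] [F.IsQuasicoherent] :
    CohB1.IsFP F ↔ CohB1.IsFP ((Scheme.Modules.pushforward f).obj F) := by
  haveI := QCqs72.isQuasicoherent_pushforward (M := F) f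
  constructor
  · intro _
    exact Props58.LocFree.isFP_of_sections _ (fun W : Y.affineOpens => W.1) (iSup_affineOpens_eq_top Y)
      (fun W => W.2) fun W => (finitePresentation_push_iff f F W.1 W.2).mpr
        (Props58.LocFree.finitePresentation_sections F (W.2.preimage f))
  · intro _
    refine Props58.LocFree.isFP_of_sections F (fun W : Y.affineOpens => f ⁻¹ᵁ W.1) ?_
      (fun W => W.2.preimage f) fun W => (finitePresentation_push_iff f F W.1 W.2).mp
        (Props58.LocFree.finitePresentation_sections _ W.2)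
    exact IsOpenCover.mk (top_le_iff.mp fun x _ => by
      obtain ⟨U, hU, hx, -⟩ := exists_isAffineOpen_mem_and_subset (x := f x) (U := ⊤) trivial
      exact Opens.mem_iSup.mpr ⟨⟨U, hU⟩, hx⟩)

end Push

end Groth.Agent.Desc59.ModDesc
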