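import Groth.Agent.LimTop61.PullBC
import Groth.Agent.Amp73.Pullback
import Groth.Agent.E4O.RelInjScheme
import Mathlib.AlgebraicGeometry.Morphisms.Flat
import Mathlib.RingTheory.Flat.Stability
import Mathlib.RingTheory.IsTensorProduct
import Mathlib.LinearAlgebra.TensorProduct.Pi

/-!
Flat base change of global sections over an affine base: surjectivity.
-/

set_option autoImplicit false
set_option backward.isDefEq.respectTransparency false
set_option backward.isDefEq.respectTransparency.types false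
set_option linter.style.haveILetI false
set_option maxHeartbeats 1000000

noncomputable section

universe u

open CategoryTheory Limits AlgebraicGeometry TopologicalSpace Opposite TensorProduct
open Groth.Agent.QC70

namespace Groth.Agent.Desc59.FlatH0

variable {X Y X' Y' : Scheme.{u}} {f : X ⟶ Y} {g : Y' ⟶ Y} {f' : X' ⟶ Y'} {g' : X' ⟶ X}

theorem eq_of_cover (M : X.Modules) {O : X.Opens} {ι : Type*} (V : ι → X.Opens) (hle : ∀ i, V i ≤ O)
    (hcov : ∀ x ∈ O, ∃ i, x ∈ V i) {s t : Γ(M, O)} (h : ∀ i, res M (hle i) s = res M (hle i) t) : s = t :=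
  section_ext M s t fun x hx => by
    obtain ⟨i, hi⟩ := hcov x hx
    exact ⟨V i, hle i, hi, h i⟩

theorem exists_finite_affine_cover {O : X.Opens} (hO : IsCompact (O : Set X)) :
    ∃ (n : ℕ) (W : Fin n → X.Opens), (∀ k, IsAffineOpen (W k) ∧ W k ≤ O) ∧ ∀ x ∈ O, ∃ k, x ∈ W k := by
  have h : ∀ x : O, ∃ W : X.Opens, IsAffineOpen W ∧ (x : X) ∈ W ∧ W ≤ O := fun x => by
    obtain ⟨W, hW, hx, hle⟩ := exists_isAffineOpen_mem_and_subset (U := O) x.2
    exact ⟨W, hW, hx, hle⟩
  choose W hW hxW hle using h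
  obtain ⟨S, hS⟩ := hO.elim_finite_subcover (fun x : O => (W x : Set X)) (fun x => (W x).2)
    fun x hx => Set.mem_iUnion.mpr ⟨⟨x, hx⟩, hxW _⟩
  refine ⟨S.card, fun k => W (S.equivFin.symm k).1, fun k => ⟨hW _, hle _⟩, fun x hx => ?_⟩
  obtain ⟨y, hy, hxy⟩ := Set.mem_iUnion₂.mp (hS hx)
  exact ⟨S.equivFin ⟨y, hy⟩, by simpa using hxy⟩

variable (f g' f') (F : X.Modules)

/-- the module structure over the functions of the base -/
@[reducible] def baseModule (U : X.Opens) : Module Γ(Y, ⊤) Γ(F, U) :=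
  Module.compHom _ (f.appLE ⊤ U le_top).hom

theorem res_base_smul {U V : X.Opens} (h : V ≤ U) (a : Γ(Y, ⊤)) (x : Γ(F, U)) :
    res F h (f.appLE ⊤ U le_top a • x) = f.appLE ⊤ V le_top a • res F h x := by
  rw [res_smul]
  congr 1
  exact ConcreteCategory.congr_hom (Scheme.Hom.appLE_map f (le_top : U ≤ f ⁻¹ᵁ ⊤) (homOfLE h).op) a

/-- restriction, linear over the base -/
def resLin {U V : X.Opens} (h : V ≤ U) :
    letI := baseModule f F U
    letI := baseModule f F V
    Γ(F, U) →ₗ[Γ(Y, ⊤)] Γ(F, V) :=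
  letI := baseModule f F U
  letI := baseModule f F V
  { toFun := res F h
    map_add' := map_add _
    map_smul' := fun a x => res_base_smul f F h a x }

variable (g) in
/-- `Γ(Y') ⊗ Γ(F, U) → Γ(g'^*F, g'⁻¹U)` -/
def μ (H : IsPullback g' f' f g) (U : X.Opens) :
    letI := baseModule f F U
    letI := g.appTop.hom.toAlgebra
    Γ(Y', ⊤) ⊗[Γ(Y, ⊤)] Γ(F, U) →+ Γ((Scheme.Modules.pullback g').obj F, g' ⁻¹ᵁ U) :=
  letI := baseModule f F U
  letI := g.appTop.hom.toAlgebra
  TensorProduct.liftAddHom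
    (AddMonoidHom.mk' (fun a => AddMonoidHom.mk'
        (fun x : Γ(F, U) => f'.appLE ⊤ (g' ⁻¹ᵁ U) le_top a • Amp73.pullS g' F U x)
        fun x y => by
          rw [← smul_add]
          exact congrArg (fun t : Γ((Scheme.Modules.pullback g').obj F, g' ⁻¹ᵁ U) => f'.appLE ⊤ (g' ⁻¹ᵁ U) le_top a • t) (map_add (((Scheme.Modules.pullbackPushforwardAdjunction g').unit.app F).app U).hom x y))
      fun a b => by
        ext x
        show f'.appLE ⊤ (g' ⁻¹ᵁ U) le_top (a + b) • Amp73.pullS g' F U x =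
          f'.appLE ⊤ (g' ⁻¹ᵁ U) le_top a • Amp73.pullS g' F U x + f'.appLE ⊤ (g' ⁻¹ᵁ U) le_top b • Amp73.pullS g' F U x
        rw [map_add, add_smul])
    fun r a x => by
      show f'.appLE ⊤ (g' ⁻¹ᵁ U) le_top (g.appTop r * a) • Amp73.pullS g' F U x =
        f'.appLE ⊤ (g' ⁻¹ᵁ U) le_top a • Amp73.pullS g' F U (f.appLE ⊤ U le_top r • x)
      rw [Amp73.pullS_smul, map_mul, mul_comm, mul_smul]
      congr 2
      have h1 := Scheme.Hom.appLE_comp_appLE f' g ⊤ ⊤ (g' ⁻¹ᵁ U) le_top le_top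
      have h2 := Scheme.Hom.appLE_comp_appLE g' f ⊤ U (g' ⁻¹ᵁ U) le_top le_rfl
      have h3 : g.appLE ⊤ ⊤ le_top ≫ f'.appLE ⊤ (g' ⁻¹ᵁ U) le_top =
          f.appLE ⊤ U le_top ≫ g'.appLE U (g' ⁻¹ᵁ U) le_rfl := by
        rw [h1, h2]
        congr 1
        exact H.w.symm
      have eg : g.appLE ⊤ ⊤ le_top = g.appTop := (Scheme.Hom.app_eq_appLE g (U := ⊤)).symm
      rw [eg] at h3
      have h4 := ConcreteCategory.congr_hom h3 r
      simp only [CommRingCat.comp_apply] at h4
      rw [← Scheme.Hom.app_eq_appLE] at h4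
      exact h4

theorem μ_natural (H : IsPullback g' f' f g) {U V : X.Opens} (h : V ≤ U) :
    letI := baseModule f F U
    letI := baseModule f F V
    letI := g.appTop.hom.toAlgebra
    ∀ z, res ((Scheme.Modules.pullback g').obj F) (g'.preimage_mono h) (μ f g f' g' F H U z) =
      μ f g f' g' F H V ((resLin f F h).lTensor Γ(Y', ⊤) z) := by
  letI := baseModule f F U
  letI := baseModule f F V
  letI := g.appTop.hom.toAlgebra
  intro z
  induction z with
  | zero => rw [map_zero, map_zero, map_zero]; exact res_zero _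
  | add a b ha hb => rw [map_add, map_add, map_add, ← ha, ← hb]; exact map_add _ _ _
  | tmul a x =>
    show res _ _ (f'.appLE ⊤ (g' ⁻¹ᵁ U) le_top a • Amp73.pullS g' F U x) =
      f'.appLE ⊤ (g' ⁻¹ᵁ V) le_top a • Amp73.pullS g' F V (res F h x)
    rw [res_smul]
    congr 1
    · exact ConcreteCategory.congr_hom (Scheme.Hom.appLE_map f' (le_top : g' ⁻¹ᵁ U ≤ f' ⁻¹ᵁ ⊤) (homOfLE (g'.preimage_mono h)).op) a
    · exact Amp73.res_pullS g' F h x

variable [IsAffine Y] [IsAffine Y'] [F.IsQuasicoherent]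

theorem μ_bijective (H : IsPullback g' f' f g) {U : X.Opens} (hU : IsAffineOpen U) :
    Function.Bijective (μ f g f' g' F H U) := by
  have : IsAffineHom g' := MorphismProperty.of_isPullback (P := @IsAffineHom) H.flip
    (inferInstanceAs (IsAffineHom g))
  have hV : IsAffineOpen (g' ⁻¹ᵁ U) := hU.preimage g'
  let V := g' ⁻¹ᵁ U
  have hVV : V = g' ⁻¹ᵁ U ⊓ f' ⁻¹ᵁ ⊤ := by simp [V]
  have hpo := (isIso_pushoutSection_iff H (US := ⊤) (UT := ⊤) (UX := U) (UY := V) le_top le_top hVV).1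
    (isIso_pushoutSection_of_isAffineOpen H le_top le_top hVV (isAffineOpen_top _) (isAffineOpen_top _) hU)
  letI := baseModule f F U
  letI := g.appTop.hom.toAlgebra
  letI := (g'.appLE U V le_rfl).hom.toAlgebra
  letI := (f.appLE ⊤ U le_top).hom.toAlgebra
  letI := (f'.appLE ⊤ V le_top).hom.toAlgebra
  letI : Algebra Γ(Y, ⊤) Γ(X', V) := ((g'.appLE U V le_rfl).hom.comp (f.appLE ⊤ U le_top).hom).toAlgebra
  haveI : IsScalarTower Γ(Y, ⊤) Γ(X, U) Γ(X', V) := IsScalarTower.of_algebraMap_eq' rfl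
  haveI : IsScalarTower Γ(Y, ⊤) Γ(Y', ⊤) Γ(X', V) := IsScalarTower.of_algebraMap_eq' (by
    show (g'.appLE U V le_rfl).hom.comp (f.appLE ⊤ U le_top).hom =
      (f'.appLE ⊤ V le_top).hom.comp g.appTop.hom
    have h1 := Scheme.Hom.appLE_comp_appLE f' g ⊤ ⊤ V le_top le_top
    have h2 := Scheme.Hom.appLE_comp_appLE g' f ⊤ U V le_top le_rfl
    have h3 : f.appLE ⊤ U le_top ≫ g'.appLE U V le_rfl = g.appLE ⊤ ⊤ le_top ≫ f'.appLE ⊤ V le_top := by
      rw [h1, h2]
      congr 1
      exact H.w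
    have eg : g.appLE ⊤ ⊤ le_top = g.appTop := (Scheme.Hom.app_eq_appLE g (U := ⊤)).symm
    rw [eg] at h3
    exact congrArg CommRingCat.Hom.hom h3)
  haveI : IsScalarTower Γ(Y, ⊤) Γ(X, U) Γ(F, U) := IsScalarTower.of_algebraMap_smul fun _ _ => rfl
  have hp : Algebra.IsPushout Γ(Y, ⊤) Γ(Y', ⊤) Γ(X, U) Γ(X', V) := by
    refine CommRingCat.isPushout_iff_isPushout.mp ?_
    have e : g.appLE ⊤ ⊤ le_top = g.appTop := (Scheme.Hom.app_eq_appLE _).symm
    rw [e] at hpo
    exact hpo.flip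
  obtain ⟨E, hE⟩ := LimTop61.exists_baseChange_equiv g' F hU hV le_rfl
  let c := Algebra.IsPushout.cancelBaseChange Γ(Y, ⊤) Γ(Y', ⊤) Γ(X, U) Γ(X', V) Γ(F, U)
  have hμ : ∀ z, μ f g f' g' F H U z = E.symm (c.symm z) := by
    intro z
    induction z with
    | zero =>
      rw [map_zero, map_zero]
      exact (map_zero E.symm).symm
    | add a b ha hb =>
      rw [map_add, map_add, ha, hb]
      exact (map_add E.symm _ _).symm
    | tmul a x =>
      show f'.appLE ⊤ V le_top a • Amp73.pullS g' F U x = _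
      refine (E.injective ?_)
      rw [LinearEquiv.apply_symm_apply, map_smul]
      have hx : E (Amp73.pullS g' F U x) = 1 ⊗ₜ x := by
        rw [← hE x]
        exact congrArg E (res_self _).symm
      rw [hx, TensorProduct.smul_tmul', smul_eq_mul, mul_one]
      exact (Algebra.IsPushout.cancelBaseChange_symm_tmul _ _ _ _ _ a x).symm
  have : (μ f g f' g' F H U : _ → _) = fun z => E.symm (c.symm z) := funext hμ
  rw [this]
  exact E.symm.bijective.comp c.symm.bijective

/-- Exactness after tensoring with a flat module, in coordinates. -/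
theorem exists_coord_lift {A B : Type u} [CommRing A] [AddCommGroup B] [Module A B] [Module.Flat A B]
    {I K : Type} [Fintype I] [DecidableEq I] [Fintype K] [DecidableEq K] {N₀ : Type u} [AddCommGroup N₀] [Module A N₀]
    {N : I → Type u} [∀ i, AddCommGroup (N i)] [∀ i, Module A (N i)]
    {P : K → Type u} [∀ k, AddCommGroup (P k)] [∀ k, Module A (P k)]
    (ρ : ∀ i, N₀ →ₗ[A] N i) (i₁ i₂ : K → I) (l : ∀ k, N (i₁ k) →ₗ[A] P k) (r : ∀ k, N (i₂ k) →ₗ[A] P k)
    (hex : ∀ t : ∀ i, N i, (∀ k, l k (t (i₁ k)) = r k (t (i₂ k))) ↔ ∃ x, ∀ i, ρ i x = t i)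
    (z : ∀ i, B ⊗[A] N i) (h : ∀ k, (l k).lTensor B (z (i₁ k)) = (r k).lTensor B (z (i₂ k))) :
    ∃ z₀, ∀ i, (ρ i).lTensor B z₀ = z i := by
  let ι : N₀ →ₗ[A] ∀ i, N i := LinearMap.pi ρ
  let d : (∀ i, N i) →ₗ[A] ∀ k, P k := LinearMap.pi fun k =>
    l k ∘ₗ LinearMap.proj (i₁ k) - r k ∘ₗ LinearMap.proj (i₂ k)
  have hex' : Function.Exact ι d := by
    intro t
    refine Iff.trans ?_ ((hex t).trans (exists_congr fun x => ⟨fun e => funext e, fun e => congrFun e⟩))
    exact ⟨fun e k => sub_eq_zero.mp (congrFun e k), fun e => funext fun k => sub_eq_zero.mpr (e k)⟩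
  let Z : B ⊗[A] (∀ i, N i) := (TensorProduct.piRight A A B N).symm z
  have hproj : ∀ i (w : B ⊗[A] (∀ i, N i)),
      (LinearMap.proj (R := A) (φ := N) i).lTensor B w = TensorProduct.piRight A A B N w i := by
    intro i w
    induction w with
    | zero => simp
    | add a b ha hb => rw [map_add, map_add, ha, hb]; rfl
    | tmul a x => simp
  have hk : ∀ k w, TensorProduct.piRight A A B P (d.lTensor B w) k =
      (l k).lTensor B ((LinearMap.proj (R := A) (φ := N) (i₁ k)).lTensor B w) -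
        (r k).lTensor B ((LinearMap.proj (R := A) (φ := N) (i₂ k)).lTensor B w) := by
    intro k w
    induction w with
    | zero => simp
    | add a b ha hb => rw [map_add, map_add, Pi.add_apply, ha, hb, map_add, map_add, map_add, map_add]; abel
    | tmul a x => simp [d, TensorProduct.tmul_sub]
  have hZ : d.lTensor B Z = 0 := by
    refine (TensorProduct.piRight A A B P).injective ?_
    rw [map_zero]
    funext k
    rw [hk, hproj, hproj, LinearEquiv.apply_symm_apply, h, sub_self, Pi.zero_apply]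
  obtain ⟨z₀, hz₀⟩ := ((Module.Flat.lTensor_exact B hex') Z).mp hZ
  refine ⟨z₀, fun i => ?_⟩
  rw [show ρ i = LinearMap.proj i ∘ₗ ι from rfl, LinearMap.lTensor_comp_apply, hz₀, hproj,
    LinearEquiv.apply_symm_apply]

theorem gluing_iff (F : X.Modules) {n : ℕ} (U : Fin n → X.Opens) (hcov : ∀ x ∈ (⊤ : X.Opens), ∃ k, x ∈ U k)
    {m : Fin n × Fin n → ℕ} (W : ∀ p, Fin (m p) → X.Opens) (hW : ∀ p k, W p k ≤ U p.1 ⊓ U p.2)
    (hWcov : ∀ p, ∀ x ∈ U p.1 ⊓ U p.2, ∃ k, x ∈ W p k) (t : ∀ i, Γ(F, U i)) :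
    (∀ k : Σ p : Fin n × Fin n, Fin (m p), res F ((hW k.1 k.2).trans inf_le_left) (t k.1.1) =
        res F ((hW k.1 k.2).trans inf_le_right) (t k.1.2)) ↔
      ∃ x : Γ(F, ⊤), ∀ i, res F le_top x = t i := by
  refine ⟨fun ht => ?_, ?_⟩
  · obtain ⟨x, hx, -⟩ := TopCat.Sheaf.existsUnique_gluing'
      (C := AddCommGrpCat.{u}) (⟨F.presheaf, F.isSheaf⟩ : TopCat.Sheaf AddCommGrpCat.{u} X)
      U ⊤ (fun i => homOfLE le_top) (fun x _ => Opens.mem_iSup.mpr (hcov x trivial)) t (fun i j =>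
        show res F (inf_le_left : U i ⊓ U j ≤ U i) (t i) = res F (inf_le_right : U i ⊓ U j ≤ U j) (t j) from
        eq_of_cover F (W (i, j)) (hW (i, j)) (hWcov (i, j)) fun k => by
          rw [res_res, res_res]
          exact ht ⟨(i, j), k⟩)
    exact ⟨x, hx⟩
  · rintro ⟨x, hx⟩ k
    rw [← hx, ← hx, res_res, res_res]

/-- Flat base change of global sections: every global section upstairs is a combination of inverse
images of global sections. -/
theorem exists_eq_μ [CompactSpace X] [QuasiSeparatedSpace X] [Flat g] (H : IsPullback g' f' f g)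
    (s : Γ((Scheme.Modules.pullback g').obj F, g' ⁻¹ᵁ ⊤)) : ∃ z, μ f g f' g' F H ⊤ z = s := by
  classical
  obtain ⟨n, U, hU, hcov⟩ := exists_finite_affine_cover (X := X) (O := ⊤) isCompact_univ
  have hij : ∀ p : Fin n × Fin n, IsCompact ((U p.1 ⊓ U p.2 : X.Opens) : Set X) := fun p =>
    QuasiSeparatedSpace.inter_isCompact _ _ (U p.1).2 (hU p.1).1.isCompact (U p.2).2 (hU p.2).1.isCompact
  choose m W hW hWcov using fun p => exists_finite_affine_cover (hij p)
  letI : ∀ O : X.Opens, Module Γ(Y, ⊤) Γ(F, O) := baseModule f F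
  letI := g.appTop.hom.toAlgebra
  haveI : Module.Flat Γ(Y, ⊤) Γ(Y', ⊤) := by
    have h : RingHom.Flat (g.appLE ⊤ ⊤ le_top).hom :=
      HasRingHomProperty.appLE @Flat g inferInstance ⟨⊤, isAffineOpen_top _⟩ ⟨⊤, isAffineOpen_top _⟩ le_top
    have eg : g.appLE ⊤ ⊤ le_top = g.appTop := (Scheme.Hom.app_eq_appLE g (U := ⊤)).symm
    rw [eg] at h
    exact h
  choose z hz using fun i => (μ_bijective f f' g' F H (hU i).1).2
    (res ((Scheme.Modules.pullback g').obj F) (g'.preimage_mono le_top) s)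
  obtain ⟨z₀, hz₀⟩ := exists_coord_lift (K := Σ p : Fin n × Fin n, Fin (m p)) (B := Γ(Y', ⊤))
    (N := fun i => Γ(F, U i)) (P := fun k => Γ(F, W k.1 k.2))
    (fun i => resLin f F (le_top : U i ≤ ⊤)) (fun k => k.1.1) (fun k => k.1.2)
    (fun k => resLin f F ((hW k.1 k.2).2.trans inf_le_left))
    (fun k => resLin f F ((hW k.1 k.2).2.trans inf_le_right))
    (gluing_iff F U hcov W (fun p k => (hW p k).2) hWcov) z (fun k => by
      refine (μ_bijective f f' g' F H (hW k.1 k.2).1).1 ?_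
      rw [← μ_natural f f' g' F H, ← μ_natural f f' g' F H, hz, hz, res_res, res_res])
  refine ⟨z₀, eq_of_cover _ (fun i => g' ⁻¹ᵁ U i) (fun i => g'.preimage_mono le_top)
    (fun x _ => hcov (g' x) trivial) fun i => ?_⟩
  rw [μ_natural f f' g' F H (le_top : U i ≤ ⊤), hz₀, hz]

end Groth.Agent.Desc59.FlatH0
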