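import Groth.Agent.Desc59.QCohDesc
import Groth.Agent.Props58.LocFree.Criteria
import Mathlib.RingTheory.Finiteness.Descent

/-!
Finite type descends along flat surjective open maps, for arbitrary modules.
-/

set_option autoImplicit false
set_option backward.isDefEq.respectTransparency false
set_option backward.isDefEq.respectTransparency.types false
set_option linter.style.haveILetI false

noncomputable section

universe u

open CategoryTheory Limits AlgebraicGeometry TopologicalSpace Opposite TensorProduct
open Groth.Agent.QC70 Groth.Agent.DCK91 Groth.Agent.Props58.LocFree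

namespace Groth.Agent.Desc59.FTDescArb

variable {X Y : Scheme.{u}} (f : X ⟶ Y) (F : Y.Modules)

/-- the pullback of a section -/
def pullSec {U : Y.Opens} (s : Γ(F, U)) : Γ((Scheme.Modules.pullback f).obj F, f ⁻¹ᵁ U) :=
  ((Scheme.Modules.pullbackPushforwardAdjunction f).unit.app F).app U s

theorem finite_stalk_of_pullback [Flat f] [((Scheme.Modules.pullback f).obj F).IsFiniteType] (x : X) :
    Module.Finite (Y.presheaf.stalk (f x)) (F.presheaf.stalk (f x)) := by
  have hfin := finite_stalk_of_isFiniteType (M := (Scheme.Modules.pullback f).obj F) x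
  letI := (f.stalkMap x).hom.toAlgebra
  letI := Module.compHom (((Scheme.Modules.pullback f).obj F).presheaf.stalk x) (f.stalkMap x).hom
  haveI : IsScalarTower (Y.presheaf.stalk (f x)) (X.presheaf.stalk x)
      (((Scheme.Modules.pullback f).obj F).presheaf.stalk x) :=
    IsScalarTower.of_algebraMap_smul fun r e => rfl
  haveI : Module.Flat (Y.presheaf.stalk (f x)) (X.presheaf.stalk x) := Flat.stalkMap f x
  haveI : IsLocalHom (algebraMap (Y.presheaf.stalk (f x)) (X.presheaf.stalk x)) :=
    inferInstanceAs (IsLocalHom (f.stalkMap x).hom)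
  haveI : Module.FaithfullyFlat (Y.presheaf.stalk (f x)) (X.presheaf.stalk x) :=
    Module.FaithfullyFlat.of_flat_of_isLocalHom
  have : Module.Finite (X.presheaf.stalk x) (X.presheaf.stalk x ⊗[Y.presheaf.stalk (f x)] F.presheaf.stalk (f x)) :=
    Module.Finite.equiv (isBaseChange_pullη f F x).equiv.symm
  exact Module.Finite.of_finite_tensorProduct_of_faithfullyFlat (X.presheaf.stalk x)

theorem germComb_surjective_iff [Flat f] {U : Y.Opens} {n : ℕ} (s : Fin n → Γ(F, U)) (x : X) (hx : f x ∈ U) :
    Function.Surjective (germComb (fun i => pullSec f F (s i)) x (U := f ⁻¹ᵁ U) hx) ↔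
      Function.Surjective (germComb s (f x) hx) := by
  letI := (f.stalkMap x).hom.toAlgebra
  letI := Module.compHom (((Scheme.Modules.pullback f).obj F).presheaf.stalk x) (f.stalkMap x).hom
  haveI : IsScalarTower (Y.presheaf.stalk (f x)) (X.presheaf.stalk x)
      (((Scheme.Modules.pullback f).obj F).presheaf.stalk x) :=
    IsScalarTower.of_algebraMap_smul fun r e => rfl
  haveI : Module.Flat (Y.presheaf.stalk (f x)) (X.presheaf.stalk x) := Flat.stalkMap f x
  haveI : IsLocalHom (algebraMap (Y.presheaf.stalk (f x)) (X.presheaf.stalk x)) :=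
    inferInstanceAs (IsLocalHom (f.stalkMap x).hom)
  haveI : Module.FaithfullyFlat (Y.presheaf.stalk (f x)) (X.presheaf.stalk x) :=
    Module.FaithfullyFlat.of_flat_of_isLocalHom
  let E := (isBaseChange_pullη f F x).equiv
  let l := Fintype.linearCombination (Y.presheaf.stalk (f x)) fun i => germM F U (f x) hx (s i)
  have hl : ∀ c, l c = germComb s (f x) hx c := fun c => Fintype.linearCombination_apply _ _ _
  have key : ∀ c : Fin n → X.presheaf.stalk x,
      germComb (fun i => pullSec f F (s i)) x (U := f ⁻¹ᵁ U) hx c =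
        E (l.lTensor (X.presheaf.stalk x) (∑ i, c i ⊗ₜ[Y.presheaf.stalk (f x)] Pi.single i 1)) := by
    intro c
    rw [map_sum, map_sum]
    refine Finset.sum_congr rfl fun i _ => ?_
    rw [LinearMap.lTensor_tmul, Fintype.linearCombination_apply_single, one_smul, IsBaseChange.equiv_tmul]
    exact congrArg (c i • ·) (pullη_germ f F x hx (s i)).symm
  have hrange : ∀ z : X.presheaf.stalk x ⊗[Y.presheaf.stalk (f x)] (Fin n → Y.presheaf.stalk (f x)),
      ∃ c : Fin n → X.presheaf.stalk x, z = ∑ i, c i ⊗ₜ[Y.presheaf.stalk (f x)] Pi.single i 1 := by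
    intro z
    refine ⟨TensorProduct.piScalarRight (Y.presheaf.stalk (f x)) (X.presheaf.stalk x) (X.presheaf.stalk x) (Fin n) z, ?_⟩
    induction z with
    | zero => simp
    | add a b ha hb =>
      rw [map_add]
      simp only [Pi.add_apply, add_tmul, Finset.sum_add_distrib, ← ha, ← hb]
    | tmul r c =>
      simp only [TensorProduct.piScalarRight_apply, TensorProduct.piScalarRightHom_tmul]
      simp_rw [TensorProduct.smul_tmul, ← TensorProduct.tmul_sum]
      congr 1
      conv_lhs => rw [pi_eq_sum_univ c]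
      refine Finset.sum_congr rfl fun i _ => ?_
      congr 1
      funext j
      simp [Pi.single_apply, eq_comm]
  constructor
  · intro h
    refine fun e => ?_
    have : Function.Surjective l := by
      rw [← Module.FaithfullyFlat.lTensor_surjective_iff_surjective (Y.presheaf.stalk (f x)) (X.presheaf.stalk x)]
      intro z
      obtain ⟨c, hc⟩ := h (E z)
      exact ⟨_, E.injective ((key c).symm.trans hc)⟩
    obtain ⟨c, hc⟩ := this e
    exact ⟨c, (hl c).symm.trans hc⟩
  · intro h e
    have : Function.Surjective l := fun e => by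
      obtain ⟨c, hc⟩ := h e
      exact ⟨c, (hl c).trans hc⟩
    obtain ⟨z, hz⟩ := LinearMap.lTensor_surjective (X.presheaf.stalk x) this (E.symm e)
    obtain ⟨c, rfl⟩ := hrange z
    exact ⟨c, (key c).trans (by rw [hz]; exact E.apply_symm_apply e)⟩

theorem isFiniteType_of_pullback_isOpenMap [Flat f] [Surjective f] (hf : IsOpenMap f.base)
    [((Scheme.Modules.pullback f).obj F).IsFiniteType] : F.IsFiniteType := by
  have key : ∀ y : Y, ∃ (V : Y.Opens) (ι : Type u) (_ : Fintype ι) (s : ι → Γ(F, V)),
      y ∈ V ∧ LocGenBy F V s := by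
    intro y
    obtain ⟨x, rfl⟩ := f.surjective y
    have := finite_stalk_of_pullback f F x
    obtain ⟨n, e, he⟩ := Module.Finite.exists_fin (R := Y.presheaf.stalk (f x)) (M := F.presheaf.stalk (f x))
    obtain ⟨U, hU, s, hs⟩ := exists_lift_family (M := F) (f x) e
    have h0 : Function.Surjective (germComb s (f x) hU) := fun z => by
      obtain ⟨c, hc⟩ := (Submodule.mem_span_range_iff_exists_fun _).mp (he.ge (Submodule.mem_top (x := z)))
      refine ⟨c, ?_⟩
      rw [← hc]
      exact Finset.sum_congr rfl fun i _ => by rw [hs]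
    obtain ⟨W, hW, hxW, hWs⟩ := exists_nhd_surjective (M := (Scheme.Modules.pullback f).obj F)
      (fun i => pullSec f F (s i)) hU ((germComb_surjective_iff f F s x hU).mpr h0)
    let V : Y.Opens := ⟨f.base '' W, hf _ W.2⟩
    have hVU : V ≤ U := by
      rintro _ ⟨z, hz, rfl⟩
      exact hW hz
    have hV : ∀ y (hy : y ∈ V), Function.Surjective (germComb s y (hVU hy)) := by
      rintro _ ⟨z, hz, rfl⟩
      exact (germComb_surjective_iff f F s z (hW hz)).mp (hWs z hz)
    refine ⟨V, ULift.{u} (Fin n), inferInstance, fun i => res F hVU (s i.down), ⟨x, hxW, rfl⟩, ?_⟩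
    intro W₂ hW₂ z q hq
    obtain ⟨c, hc⟩ := hV q (hW₂ hq) (germM F W₂ q hq z)
    obtain ⟨W₀, hW₀, hqW₀, a, ha⟩ := exists_common_lift (U := W₂) hq c
    obtain ⟨W', hW', hqW', e'⟩ := exists_comb_eq (s := s) ((hW₀.trans hW₂).trans hVU) a
      (res F hW₀ z) hqW₀ (by rw [funext ha, germM_res]; exact hc)
    refine ⟨W', hW'.trans hW₀, (hW'.trans hW₀).trans hW₂, fun i => resO Y hW' (a i.down), hqW', ?_⟩
    rw [res_res] at e'
    refine e'.symm.trans ?_
    refine Fintype.sum_equiv Equiv.ulift.symm _ _ fun i => ?_
    rw [res_res]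
    rfl
  choose V ι fι s hy hs using key
  exact isFiniteType_of_locGenBy F V
    (IsOpenCover.mk (top_le_iff.mp fun y _ => Opens.mem_iSup.mpr ⟨y, hy y⟩))
    fun y => ⟨ι y, fι y, s y, hs y⟩

end Groth.Agent.Desc59.FTDescArb
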