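import Mathlib.AlgebraicTopology.CechNerve
import Mathlib.AlgebraicTopology.AlternatingFaceMapComplex
import Mathlib.Algebra.Category.Ring.Colimits
import Mathlib.Algebra.Category.Ring.Under.Limits
import Mathlib.Algebra.Category.Grp.Abelian
import Mathlib.Algebra.Homology.ShortComplex.Ab
import Mathlib.Algebra.Homology.ShortComplex.HomologicalComplex
import Mathlib.RingTheory.Flat.FaithfullyFlat.Basic
import Mathlib.RingTheory.TensorProduct.Maps

/-!
Exactness of the Amitsur complex, realised through the Čech conerve.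
-/

set_option autoImplicit false
universe u

open CategoryTheory CategoryTheory.Limits TensorProduct Opposite Simplicial

namespace Groth.Agent.Desc59.AmitsurConerve

section Abstract

variable (R A : Type u) [CommRing R] [CommRing A] [Algebra R A]
  (T : ℕ → Type u) [∀ n, CommRing (T n)] [∀ n, Algebra R (T n)]
  (ι : ∀ n, Fin (n + 1) → A →ₐ[R] T n) (δ : ∀ n, Fin (n + 2) → T n →ₐ[R] T (n + 1))

/-- alternating sum of the cofaces -/
noncomputable def D (n : ℕ) : T n →ₗ[R] T (n + 1) :=
  ∑ i : Fin (n + 2), (-1 : ℤ) ^ (i : ℕ) • (δ n i).toLinearMap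

theorem exact_D [Module.FaithfullyFlat R A]
    (hδ : ∀ n i j, (δ n i).comp (ι n j) = ι (n + 1) (i.succAbove j))
    (hlift : ∀ (n : ℕ) (B : Type u) [CommRing B] [Algebra R B] (f : Fin (n + 1) → A →ₐ[R] B),
      ∃ φ : T n →ₐ[R] B, ∀ j, φ.comp (ι n j) = f j)
    (hext : ∀ (n : ℕ) (B : Type u) [CommRing B] [Algebra R B] (φ ψ : T n →ₐ[R] B),
      (∀ j, φ.comp (ι n j) = ψ.comp (ι n j)) → φ = ψ)
    (hcomp : ∀ n, D R T δ (n + 1) ∘ₗ D R T δ n = 0) (m : ℕ) :
    Function.Exact (D R T δ m) (D R T δ (m + 1)) := by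
  choose ψ hψ using fun n => hlift (n + 1) (A ⊗[R] T n)
    (Fin.cases Algebra.TensorProduct.includeLeft
      fun j => Algebra.TensorProduct.includeRight.comp (ι n j))
  let h : ∀ n, A ⊗[R] T (n + 1) →ₐ[R] A ⊗[R] T n := fun n =>
    Algebra.TensorProduct.lift Algebra.TensorProduct.includeLeft (ψ n) fun _ _ => Commute.all _ _
  have h0 : ∀ n, (h n).comp (Algebra.TensorProduct.map (AlgHom.id R A) (δ n 0)) = AlgHom.id R _ := by
    intro n
    refine Algebra.TensorProduct.ext' fun a t => ?_
    have hc : (ψ n).comp (δ n 0) = Algebra.TensorProduct.includeRight := by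
      refine hext n _ _ _ fun j => ?_
      rw [AlgHom.comp_assoc, hδ, Fin.succAbove_zero, hψ, Fin.cases_succ]
    have := congr($hc t)
    simp only [AlgHom.comp_apply, Algebra.TensorProduct.includeRight_apply] at this
    simp [h, this]
  have hs : ∀ n (i : Fin (n + 2)), (h (n + 1)).comp (Algebra.TensorProduct.map (AlgHom.id R A) (δ (n + 1) i.succ)) =
      (Algebra.TensorProduct.map (AlgHom.id R A) (δ n i)).comp (h n) := by
    intro n i
    refine Algebra.TensorProduct.ext' fun a t => ?_
    have hc : (ψ (n + 1)).comp (δ (n + 1) i.succ) =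
        (Algebra.TensorProduct.map (AlgHom.id R A) (δ n i)).comp (ψ n) := by
      refine hext (n + 1) _ _ _ fun j => ?_
      rw [AlgHom.comp_assoc, hδ, hψ, AlgHom.comp_assoc, hψ]
      refine Fin.cases ?_ (fun j => ?_) j
      · rw [Fin.succ_succAbove_zero, Fin.cases_zero]
        ext a
        simp
      · rw [Fin.succ_succAbove_succ, Fin.cases_succ, Fin.cases_succ, ← hδ]
        ext a
        simp
    have := congr($hc t)
    simp only [AlgHom.comp_apply] at this
    simp [h, this]
  have key : ∀ n (z : A ⊗[R] T (n + 1)),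
      (h (n + 1)) ((D R T δ (n + 1)).lTensor A z) = z - (D R T δ n).lTensor A (h n z) := by
    intro n z
    have e : ∀ (p : ℕ) (i : Fin (p + 2)) (w : A ⊗[R] T p),
        (δ p i).toLinearMap.lTensor A w = Algebra.TensorProduct.map (AlgHom.id R A) (δ p i) w := by
      intro p i w
      induction w with
      | zero => simp
      | tmul a t => simp
      | add x y hx hy => rw [map_add, map_add, hx, hy]
    have e1 : (D R T δ (n + 1)).lTensor A z = ∑ i : Fin (n + 3),
        (-1 : ℤ) ^ (i : ℕ) • Algebra.TensorProduct.map (AlgHom.id R A) (δ (n + 1) i) z := by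
      simp only [D, ← e]
      rw [show LinearMap.lTensor A = ⇑(LinearMap.lTensorHom (R := R) (N := T (n + 1)) (P := T (n + 1 + 1)) A) from
        rfl, map_sum, LinearMap.sum_apply]
      exact Finset.sum_congr rfl fun i _ => by rw [map_zsmul]; rfl
    have e2 : (D R T δ n).lTensor A (h n z) = ∑ i : Fin (n + 2),
        (-1 : ℤ) ^ (i : ℕ) • Algebra.TensorProduct.map (AlgHom.id R A) (δ n i) (h n z) := by
      simp only [D, ← e]
      rw [show LinearMap.lTensor A = ⇑(LinearMap.lTensorHom (R := R) (N := T n) (P := T (n + 1)) A) from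
        rfl, map_sum, LinearMap.sum_apply]
      exact Finset.sum_congr rfl fun i _ => by rw [map_zsmul]; rfl
    rw [e1, e2, map_sum, Fin.sum_univ_succ, sub_eq_add_neg, ← Finset.sum_neg_distrib]
    congr 1
    · have := congr($(h0 (n + 1)) z)
      simpa using this
    · refine Finset.sum_congr rfl fun i _ => ?_
      have := congr($(hs n i) z)
      simp only [AlgHom.comp_apply] at this
      rw [map_zsmul, this, Fin.val_succ, pow_succ, mul_neg_one, neg_smul]
  rw [← Module.FaithfullyFlat.lTensor_exact_iff_exact R A]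
  intro z
  constructor
  · intro hz
    exact ⟨h m z, by
      have := key m z
      rw [hz, map_zero, eq_comm, sub_eq_zero] at this
      exact this.symm⟩
  · rintro ⟨w, rfl⟩
    rw [← LinearMap.comp_apply, ← LinearMap.lTensor_comp, hcomp, LinearMap.lTensor_zero,
      LinearMap.zero_apply]

end Abstract

variable (R A : Type u) [CommRing R] [CommRing A] [Algebra R A]

noncomputable abbrev conerve : CosimplicialObject CommRingCat.{u} :=
  (Arrow.mk (CommRingCat.ofHom (algebraMap R A))).cechConerve

noncomputable abbrev T (n : ℕ) : Type u := (conerve R A).obj ⦋n⦌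

noncomputable instance (n : ℕ) : Algebra R (T R A n) :=
  (WidePushout.head (C := CommRingCat.{u}) fun _ : Fin (n + 1) => CommRingCat.ofHom (algebraMap R A)).hom.toAlgebra

/-- the slots -/
noncomputable def incl (n : ℕ) (j : Fin (n + 1)) : A →ₐ[R] T R A n where
  toRingHom := (WidePushout.ι (fun _ : Fin (n + 1) => CommRingCat.ofHom (algebraMap R A)) j).hom
  commutes' r := congr(($(WidePushout.arrow_ι (fun _ : Fin (n + 1) => CommRingCat.ofHom (algebraMap R A)) j)).hom r)

/-- the cofaces -/
noncomputable def coface (n : ℕ) (i : Fin (n + 2)) : T R A n →ₐ[R] T R A (n + 1) where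
  toRingHom := ((conerve R A).δ i).hom
  commutes' r := by
    have h : WidePushout.head (fun _ : Fin (n + 1) => CommRingCat.ofHom (algebraMap R A)) ≫
        (conerve R A).δ i =
        WidePushout.head (fun _ : Fin (n + 2) => CommRingCat.ofHom (algebraMap R A)) :=
      WidePushout.head_desc _ _ _ _
    exact congr(($h).hom r)

theorem coface_incl (n : ℕ) (i : Fin (n + 2)) (j : Fin (n + 1)) :
    (coface R A n i).comp (incl R A n j) = incl R A (n + 1) (i.succAbove j) := by
  have h : WidePushout.ι (fun _ : Fin (n + 1) => CommRingCat.ofHom (algebraMap R A)) j ≫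
      (conerve R A).δ i =
      WidePushout.ι (fun _ : Fin (n + 2) => CommRingCat.ofHom (algebraMap R A)) (i.succAbove j) :=
    WidePushout.ι_desc _ _ _ _ _
  ext a
  exact congr(($h).hom a)

theorem exists_lift (n : ℕ) (B : Type u) [CommRing B] [Algebra R B] (f : Fin (n + 1) → A →ₐ[R] B) :
    ∃ φ : T R A n →ₐ[R] B, ∀ j, φ.comp (incl R A n j) = f j := by
  let d := WidePushout.desc (arrows := fun _ : Fin (n + 1) => CommRingCat.ofHom (algebraMap R A))
    (X := CommRingCat.of B) (CommRingCat.ofHom (algebraMap R B))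
    (fun j => CommRingCat.ofHom (f j).toRingHom) fun j => by
      ext r
      exact (f j).commutes r
  refine ⟨⟨d.hom, fun r => ?_⟩, fun j => ?_⟩
  · have e : WidePushout.head (fun _ : Fin (n + 1) => CommRingCat.ofHom (algebraMap R A)) ≫ d =
        CommRingCat.ofHom (algebraMap R B) := WidePushout.head_desc _ _ _ _
    exact congr(($e).hom r)
  · have e : WidePushout.ι (fun _ : Fin (n + 1) => CommRingCat.ofHom (algebraMap R A)) j ≫ d =
        CommRingCat.ofHom (f j).toRingHom := WidePushout.ι_desc _ _ _ _ _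
    ext a
    exact congr(($e).hom a)

theorem hom_ext (n : ℕ) (B : Type u) [CommRing B] [Algebra R B] (φ ψ : T R A n →ₐ[R] B)
    (h : ∀ j, φ.comp (incl R A n j) = ψ.comp (incl R A n j)) : φ = ψ := by
  have : CommRingCat.ofHom φ.toRingHom = CommRingCat.ofHom ψ.toRingHom := by
    refine WidePushout.hom_ext _ _ _ (fun j => ?_) ?_
    · ext a
      exact congr($(h j) a)
    · ext r
      exact (φ.commutes r).trans (ψ.commutes r).symm
  ext t
  exact congr(($this).hom t)

theorem hom_sum_zsmul_apply {ι : Type} [Fintype ι] {X Y : AddCommGrpCat.{u}} (c : ι → ℤ)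
    (f : ι → (X ⟶ Y)) (x : X) : (∑ i, c i • f i).hom x = ∑ i, c i • (f i).hom x := by
  have h := map_sum (AddMonoidHom.mk' (fun g : X ⟶ Y => g.hom x) fun _ _ => rfl)
    (fun i => c i • f i) Finset.univ
  exact h.trans (Finset.sum_congr rfl fun i _ => rfl)

theorem exactAt_pos [Module.FaithfullyFlat R A] (n : ℕ) (hn : 0 < n) :
    (AlgebraicTopology.AlternatingCofaceMapComplex.obj
      (conerve R A ⋙ forget₂ CommRingCat RingCat ⋙ forget₂ RingCat AddCommGrpCat)).ExactAt n := by
  obtain ⟨m, rfl⟩ : ∃ m, n = m + 1 := ⟨n - 1, by omega⟩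
  let K := AlgebraicTopology.AlternatingCofaceMapComplex.obj
      (conerve R A ⋙ forget₂ CommRingCat RingCat ⋙ forget₂ RingCat AddCommGrpCat)
  have hd : ∀ (p : ℕ) (x : T R A p), (K.d p (p + 1)).hom x = D R (T R A) (coface R A) p x := by
    intro p x
    simp only [K, AlgebraicTopology.AlternatingCofaceMapComplex.obj, CochainComplex.of_d,
      AlgebraicTopology.AlternatingCofaceMapComplex.objD, D]
    rw [LinearMap.sum_apply]
    refine Eq.trans (hom_sum_zsmul_apply _ _ _) (Finset.sum_congr rfl fun i _ => ?_)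
    rfl
  rw [HomologicalComplex.exactAt_iff' _ m (m + 1) (m + 2) (by simp) (by simp),
    ShortComplex.ab_exact_iff]
  intro x hx
  obtain ⟨w, hw⟩ := (exact_D R A (T R A) (incl R A) (coface R A) (coface_incl R A)
    (exists_lift R A) (hom_ext R A) (fun p => by
      ext t
      show D _ _ _ (p + 1) (D _ _ _ p t) = 0
      rw [← hd, ← hd]
      exact congr(($(K.d_comp_d p (p + 1) (p + 1 + 1))).hom t)) m x).mp ((hd (m + 1) x).symm.trans hx)
  exact ⟨w, (hd m w).trans hw⟩

end Groth.Agent.Desc59.AmitsurConerve
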