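import Groth.Agent.Desc59.FppfRing
import Groth.Agent.SpFP87.SourceInst
import Mathlib.AlgebraicGeometry.Morphisms.UniversallyOpen

/-!
Being locally of finite type is fppf local on the source.
-/

set_option autoImplicit false
set_option backward.isDefEq.respectTransparency false
universe u

open CategoryTheory CategoryTheory.Limits AlgebraicGeometry

namespace Groth.Agent.Desc59

theorem exists_affine_fppf {X X' : Scheme.{u}} [IsAffine X] (c : X' ⟶ X) [Flat c]
    [LocallyOfFinitePresentation c] [Surjective c] :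
    ∃ (W : Scheme.{u}) (σ : W ⟶ X'), IsAffine W ∧ Flat σ ∧ LocallyOfFinitePresentation σ ∧
      Surjective (σ ≫ c) := by
  classical
  have hop : IsOpenMap c.base := c.isOpenMap
  let O : X'.affineOpens → Set X := fun U => c.base '' (U.1 : Set X')
  have hcov : (Set.univ : Set X) ⊆ ⋃ U, O U := by
    intro x _
    obtain ⟨x', rfl⟩ := c.surjective x
    obtain ⟨U, hU, hxU, -⟩ := exists_isAffineOpen_mem_and_subset (U := (⊤ : X'.Opens)) (x := x') trivial
    exact Set.mem_iUnion.2 ⟨⟨U, hU⟩, ⟨x', hxU, rfl⟩⟩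
  obtain ⟨t, ht⟩ := (isCompact_univ (X := ↥X)).elim_finite_subcover O (fun U => hop _ U.1.2) hcov
  have (i : ↥t) : IsAffine (i.1.1 : X'.Opens).toScheme := i.1.2
  refine ⟨∐ fun i : ↥t => (i.1.1 : X'.Opens).toScheme, Sigma.desc fun i => (i.1.1 : X'.Opens).ι,
    inferInstance,
    IsZariskiLocalAtSource.sigmaDesc (P := @Flat) fun i => inferInstance,
    IsZariskiLocalAtSource.sigmaDesc (P := @LocallyOfFinitePresentation) fun i => inferInstance,
    ⟨fun x => ?_⟩⟩
  obtain ⟨U, hU, x', hx', rfl⟩ := Set.mem_iUnion₂.1 (ht (Set.mem_univ x))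
  refine ⟨(Sigma.ι (fun i : ↥t => (i.1.1 : X'.Opens).toScheme) ⟨U, hU⟩).base ⟨x', hx'⟩, ?_⟩
  exact congrArg c.base (congrArg (fun m : (U.1 : X'.Opens).toScheme ⟶ X' => m.base ⟨x', hx'⟩)
    (Sigma.ι_desc (fun i : ↥t => (i.1.1 : X'.Opens).ι) ⟨U, hU⟩))

theorem finiteType_of_comp {R A B : Type u} [CommRing R] [CommRing A] [CommRing B] (φ : R →+* A)
    (ψ : A →+* B) (h1 : ψ.Flat) (h2 : ψ.FinitePresentation)
    (h3 : Function.Surjective (PrimeSpectrum.comap ψ)) (h : (ψ.comp φ).FiniteType) :
    φ.FiniteType := by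
  algebraize [φ, ψ, ψ.comp φ]
  have : Module.Flat A B := h1
  have : Algebra.FinitePresentation A B := h2
  have : Algebra.FiniteType R B := h
  exact finiteType_of_fppf_cover R h3

/-- Descent of "locally of finite type" along a surjective fppf morphism on the source. -/
theorem lft_of_comp {X' X Y : Scheme.{u}} (c : X' ⟶ X) (f : X ⟶ Y) [Flat c]
    [LocallyOfFinitePresentation c] [Surjective c] [LocallyOfFiniteType (c ≫ f)] :
    LocallyOfFiniteType f := by
  refine HasRingHomProperty.iff_appLE.2 fun U V e => ?_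
  let g : (V.1 : X.Opens).toScheme ⟶ (U.1 : Y.Opens).toScheme := f.resLE U.1 V.1 e
  have : IsAffine (V.1 : X.Opens).toScheme := V.2
  have : IsAffine (U.1 : Y.Opens).toScheme := U.2
  have : Surjective (c ∣_ V.1) := IsZariskiLocalAtTarget.restrict ‹Surjective c› _
  have : LocallyOfFiniteType ((c ∣_ V.1) ≫ g) := by
    have : LocallyOfFiniteType (((c ∣_ V.1) ≫ g) ≫ (U.1 : Y.Opens).ι) := by
      rw [Category.assoc, Scheme.Hom.resLE_comp_ι, morphismRestrict_ι_assoc]
      infer_instance
    exact locallyOfFiniteType_of_comp _ (U.1 : Y.Opens).ι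
  obtain ⟨W, σ, _, hσ, hσ', hσs⟩ := exists_affine_fppf (c ∣_ V.1)
  let d := σ ≫ (c ∣_ V.1)
  have hdg : LocallyOfFiniteType (d ≫ g) := by
    rw [Category.assoc]
    infer_instance
  rw [HasRingHomProperty.iff_of_isAffine (P := @LocallyOfFiniteType), Scheme.Hom.comp_appTop,
    CommRingCat.hom_comp] at hdg
  have h1 : RingHom.Flat d.appTop.hom :=
    (HasRingHomProperty.iff_of_isAffine (P := @Flat)).1 (inferInstanceAs (Flat (σ ≫ _)))
  have h2 : RingHom.FinitePresentation d.appTop.hom :=
    (HasRingHomProperty.iff_of_isAffine (P := @LocallyOfFinitePresentation)).1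
      (inferInstanceAs (LocallyOfFinitePresentation (σ ≫ _)))
  have h3 : Function.Surjective (PrimeSpectrum.comap d.appTop.hom) := by
    have : Surjective (Spec.map d.appTop) := by
      have : Spec.map d.appTop = W.isoSpec.inv ≫ d ≫ (V.1 : X.Opens).toScheme.isoSpec.hom := by
        rw [← Scheme.isoSpec_hom_naturality, Iso.inv_hom_id_assoc]
      rw [this]
      infer_instance
    exact (Spec.map d.appTop).surjective
  have := RingHom.toMorphismProperty_respectsIso_iff.mp
    (HasRingHomProperty.isLocal_ringHomProperty @LocallyOfFiniteType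
      (Q := RingHom.FiniteType)).respectsIso
  exact (MorphismProperty.arrow_mk_iso_iff (RingHom.toMorphismProperty RingHom.FiniteType)
    (arrowResLEAppIso f U.1 V.1 e)).1 (finiteType_of_comp _ _ h1 h2 h3 hdg)

theorem lft_isLocalAtSource_fppf :
    MorphismProperty.IsLocalAtSource (@LocallyOfFiniteType : MorphismProperty Scheme.{u})
      Scheme.fppfPrecoverage :=
  haveI : IsZariskiLocalAtSource (@Flat ⊓ @LocallyOfFinitePresentation :
      MorphismProperty Scheme.{u}) := inferInstance
  SpFP87.isLocalAtSource_of_single (Q := (@Flat ⊓ @LocallyOfFinitePresentation :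
      MorphismProperty Scheme.{u})) le_rfl
    (fun c f hc hf => by
      have := hc.2
      exact (inferInstance : LocallyOfFiniteType (c ≫ f)))
    (fun c f hc hs h => by
      have := hc.1
      have := hc.2
      exact lft_of_comp c f)

end Groth.Agent.Desc59
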