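import Mathlib.Algebra.Module.CharacterModule
import Mathlib.LinearAlgebra.TensorProduct.RightExactness
import Mathlib.RingTheory.Flat.FaithfullyFlat.Basic

/-!
Descent of modules along universally injective ring maps, by splitting character modules.
-/

universe u v w

open TensorProduct CharacterModule

namespace Groth.Agent.Desc59

variable {R : Type u} [CommRing R]

/-- A linear map `f` such that the dual of `f` has a linear section. -/
def DualSplit {M : Type v} {N : Type w} [AddCommGroup M] [Module R M] [AddCommGroup N] [Module R N]
    (f : M →ₗ[R] N) : Prop :=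
  ∃ g : CharacterModule M →ₗ[R] CharacterModule N, (CharacterModule.dual f).comp g = LinearMap.id

lemma dualSplit_of_injective_rTensor {M : Type v} {N : Type w} [AddCommGroup M] [Module R M]
    [AddCommGroup N] [Module R N] (f : M →ₗ[R] N)
    (h : Function.Injective (f.rTensor (CharacterModule M))) : DualSplit f := by
  let ev : M →ₗ[R] CharacterModule (CharacterModule M) :=
    { toFun := fun m =>
        { toFun := fun c => c m
          map_zero' := rfl
          map_add' := fun _ _ => rfl }
      map_add' := fun a b => by ext c; exact map_add c a b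
      map_smul' := fun r m => by ext c; rfl }
  obtain ⟨g, hg⟩ := rTensor_injective_iff_lcomp_surjective.mp h ev
  refine ⟨{ toFun := fun c =>
              { toFun := fun n => g n c
                map_zero' := by simp only [map_zero]; rfl
                map_add' := fun a b => by simp only [map_add]; rfl }
            map_add' := fun a b => by ext n; exact map_add (g n) a b
            map_smul' := fun r c => by
              ext n
              have : g (r • n) = r • g n := map_smul g r n
              exact (congr($this c)).symm }, ?_⟩
  ext c m
  exact congr($hg m c)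

lemma dualSplit_of_forall_injective_lTensor {M N : Type u} [AddCommGroup M] [Module R M]
    [AddCommGroup N] [Module R N] (f : M →ₗ[R] N)
    (h : ∀ (P : Type u) [AddCommGroup P] [Module R P], Function.Injective (f.lTensor P)) :
    DualSplit f := by
  refine dualSplit_of_injective_rTensor f ?_
  exact (LinearMap.lTensor_inj_iff_rTensor_inj (CharacterModule M) f).mp (h _)

lemma DualSplit.injective_lTensor {M : Type v} {N : Type w} [AddCommGroup M] [Module R M]
    [AddCommGroup N] [Module R N] {f : M →ₗ[R] N} (h : DualSplit f)
    (P : Type*) [AddCommGroup P] [Module R P] : Function.Injective (f.lTensor P) := by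
  obtain ⟨g, hg⟩ := h
  rw [← CharacterModule.dual_surjective_iff_injective]
  intro χ
  refine ⟨CharacterModule.uncurry (g.comp (CharacterModule.curry χ)), ?_⟩
  ext x
  induction x with
  | zero => simp only [map_zero]
  | tmul p m => exact congr($hg (CharacterModule.curry χ p) m)
  | add x y hx hy => simp only [map_add, hx, hy]

/-- Transport of a map between character modules to tensor products. -/
noncomputable def liftDual (S : Type*) [AddCommGroup S] [Module R S] {A : Type*} {B : Type*}
    [AddCommGroup A] [Module R A] [AddCommGroup B] [Module R B]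
    (t : CharacterModule A →ₗ[R] CharacterModule B) (χ : CharacterModule (S ⊗[R] A)) :
    CharacterModule (S ⊗[R] B) :=
  CharacterModule.uncurry (t.comp (CharacterModule.curry χ))

lemma liftDual_tmul {S : Type*} [AddCommGroup S] [Module R S] {A : Type*} {B : Type*}
    [AddCommGroup A] [Module R A] [AddCommGroup B] [Module R B]
    (t : CharacterModule A →ₗ[R] CharacterModule B) (χ : CharacterModule (S ⊗[R] A)) (s : S) (b : B) :
    liftDual S t χ (s ⊗ₜ[R] b) = t (CharacterModule.curry χ s) b := rfl

variable {S : Type v} [CommRing S] [Algebra R S]

section sigma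

variable (σ : CharacterModule R →ₗ[R] CharacterModule S)

/-- The natural map `C N → C (S ⊗ N)` induced by `σ : C R → C S`. -/
noncomputable def sigmaExt (N : Type*) [AddCommGroup N] [Module R N] :
    CharacterModule N →ₗ[R] CharacterModule (S ⊗[R] N) where
  toFun χ := CharacterModule.uncurry
    { toFun := fun s =>
        { toFun := fun n => σ (CharacterModule.dual (LinearMap.toSpanSingleton R N n) χ) s
          map_zero' := by
            have : CharacterModule.dual (LinearMap.toSpanSingleton R N 0) χ = 0 := by
              ext r
              show χ (r • (0 : N)) = 0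
              rw [smul_zero, map_zero]
            rw [this, map_zero]; rfl
          map_add' := fun a b => by
            have : CharacterModule.dual (LinearMap.toSpanSingleton R N (a + b)) χ
                = CharacterModule.dual (LinearMap.toSpanSingleton R N a) χ
                  + CharacterModule.dual (LinearMap.toSpanSingleton R N b) χ := by
              ext r
              show χ (r • (a + b)) = χ (r • a) + χ (r • b)
              rw [smul_add, map_add]
            rw [this, map_add]; rfl }
      map_add' := fun s t => by ext n; exact map_add (σ _) s t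
      map_smul' := fun r s => by
        ext n
        have : CharacterModule.dual (LinearMap.toSpanSingleton R N (r • n)) χ
            = r • CharacterModule.dual (LinearMap.toSpanSingleton R N n) χ := by
          ext r'
          show χ (r' • r • n) = χ ((r • r') • n)
          rw [smul_eq_mul, ← mul_smul, mul_comm]
        show σ _ (r • s) = σ (CharacterModule.dual (LinearMap.toSpanSingleton R N (r • n)) χ) s
        rw [this, LinearMap.map_smul, CharacterModule.smul_apply] }
  map_add' a b := by
    ext x
    induction x with
    | zero => simp only [map_zero]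
    | tmul s n =>
      show σ _ s = σ _ s + σ _ s
      rw [map_add, map_add]; rfl
    | add x y hx hy =>
      exact (map_add _ x y).trans ((congrArg₂ (· + ·) hx hy).trans (map_add _ x y).symm)
  map_smul' r a := by
    ext x
    induction x with
    | zero => simp only [map_zero]
    | tmul s n =>
      show σ (CharacterModule.dual _ (r • a)) s = (r • _ : CharacterModule (S ⊗[R] N)) (s ⊗ₜ n)
      rw [map_smul, map_smul, CharacterModule.smul_apply, CharacterModule.smul_apply, smul_tmul']
      rfl
    | add x y hx hy => simp only [map_add, hx, hy]

lemma sigmaExt_tmul (N : Type*) [AddCommGroup N] [Module R N] (χ : CharacterModule N) (s : S)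
    (n : N) :
    sigmaExt σ N χ (s ⊗ₜ[R] n) = σ (CharacterModule.dual (LinearMap.toSpanSingleton R N n) χ) s :=
  rfl

lemma sigmaExt_natural {N N' : Type*} [AddCommGroup N] [Module R N] [AddCommGroup N'] [Module R N']
    (f : N →ₗ[R] N') (χ : CharacterModule N') (x : S ⊗[R] N) :
    sigmaExt σ N (CharacterModule.dual f χ) x = sigmaExt σ N' χ (f.lTensor S x) := by
  induction x with
  | zero => simp only [map_zero]
  | tmul s n =>
    rw [LinearMap.lTensor_tmul, sigmaExt_tmul, sigmaExt_tmul]
    congr 2
    ext r
    show χ (f (r • n)) = χ (r • f n)
    rw [map_smul]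
  | add x y hx hy => simp only [map_add, hx, hy]

variable {σ}
variable (hσ : (CharacterModule.dual (Algebra.linearMap R S)).comp σ = LinearMap.id)

include hσ in
lemma sigmaExt_one_tmul (N : Type*) [AddCommGroup N] [Module R N] (χ : CharacterModule N) (n : N) :
    sigmaExt σ N χ ((1 : S) ⊗ₜ[R] n) = χ n := by
  have := congr($hσ (CharacterModule.dual (LinearMap.toSpanSingleton R N n) χ) 1)
  rw [sigmaExt_tmul]
  refine Eq.trans ?_ (this.trans ?_)
  · show _ = σ _ (algebraMap R S 1)
    rw [(algebraMap R S).map_one]
  · show χ ((1 : R) • n) = χ n
    rw [one_smul]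

end sigma

variable (h : DualSplit (Algebra.linearMap R S))

include h in
lemma tmul_one_injective (N : Type*) [AddCommGroup N] [Module R N] :
    Function.Injective (TensorProduct.mk R S N 1) := by
  obtain ⟨σ, hσ⟩ := h
  refine (injective_iff_map_eq_zero _).2 fun n hn => eq_zero_of_character_apply fun χ => ?_
  rw [← sigmaExt_one_tmul hσ N χ n]
  exact congr(sigmaExt σ N χ $hn).trans (map_zero _)

include h in
/-- Exactness of `N → S ⊗ N ⇉ S ⊗ (S ⊗ N)`. -/
lemma mem_range_tmul_one (N : Type*) [AddCommGroup N] [Module R N] (x : S ⊗[R] N)
    (hx : (1 : S) ⊗ₜ[R] x = LinearMap.lTensor S (TensorProduct.mk R S N 1) x) :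
    x ∈ LinearMap.range (TensorProduct.mk R S N 1) := by
  obtain ⟨σ, hσ⟩ := h
  rw [← Submodule.Quotient.mk_eq_zero]
  refine eq_zero_of_character_apply fun c => ?_
  let χ := CharacterModule.dual (Submodule.mkQ (LinearMap.range (TensorProduct.mk R S N 1))) c
  have h0 : CharacterModule.dual (TensorProduct.mk R S N 1) χ = 0 := by
    ext n
    show c (Submodule.mkQ _ (TensorProduct.mk R S N 1 n)) = 0
    rw [Submodule.mkQ_apply, (Submodule.Quotient.mk_eq_zero _).mpr (LinearMap.mem_range.mpr ⟨n, rfl⟩), map_zero]
  show χ x = 0
  rw [← sigmaExt_one_tmul hσ _ χ x, hx, ← sigmaExt_natural, h0, map_zero]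
  rfl

section comodule

variable {V : Type w} [AddCommGroup V] [Module R V] (ψ : V →ₗ[R] S ⊗[R] V)

/-- The invariants of a coaction. -/
noncomputable abbrev invariants : Submodule R V :=
  LinearMap.ker (ψ - TensorProduct.mk R S V 1)

lemma mem_invariants (v : V) : v ∈ invariants ψ ↔ ψ v = (1 : S) ⊗ₜ[R] v := by
  simp [invariants, LinearMap.mem_ker, sub_eq_zero]

variable {ψ}

include h in
/-- Tensoring the invariants sequence of a coassociative coaction with `S` is exact. -/
lemma lTensor_invariants_exact
    (hψ : ∀ v, LinearMap.lTensor S ψ (ψ v) = LinearMap.lTensor S (TensorProduct.mk R S V 1) (ψ v)) :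
    Function.Injective (LinearMap.lTensor S (invariants ψ).subtype) ∧
    ∀ x : S ⊗[R] V, LinearMap.lTensor S ψ x = LinearMap.lTensor S (TensorProduct.mk R S V 1) x →
      x ∈ LinearMap.range (LinearMap.lTensor S (invariants ψ).subtype) := by
  obtain ⟨σ, hσ⟩ := h
  let η := TensorProduct.mk R S V 1
  let e := (invariants ψ).subtype
  let t : CharacterModule V →ₗ[R] CharacterModule V := (CharacterModule.dual ψ).comp (sigmaExt σ V)
  have hψe : ∀ m, ψ (e m) = η (e m) := fun m => (mem_invariants ψ _).1 m.2
  have hησ : ∀ (c : CharacterModule V) (v : V), sigmaExt σ V c (η v) = c v := fun c v =>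
    sigmaExt_one_tmul hσ V c v
  have hker : LinearMap.ker (CharacterModule.dual e) ≤ LinearMap.ker t := by
    intro c hc
    obtain ⟨θ, hθ⟩ := CharacterModule.dual_surjective_of_injective
      ((invariants ψ).liftQ (ψ - η) le_rfl)
      (LinearMap.ker_eq_bot.mp (Submodule.ker_liftQ_eq_bot' _ _ rfl))
      (show CharacterModule (V ⧸ invariants ψ) from
        QuotientAddGroup.lift (invariants ψ).toAddSubgroup c
          (fun v hv => congr($(LinearMap.mem_ker.mp hc) ⟨v, hv⟩)))
    have hc' : c = CharacterModule.dual (ψ - η) θ := by
      ext v
      exact (congr($hθ (Submodule.Quotient.mk v))).symm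
    rw [LinearMap.mem_ker]
    ext v
    show sigmaExt σ V c (ψ v) = 0
    rw [hc', sigmaExt_natural, LinearMap.lTensor_sub, LinearMap.sub_apply, hψ v, sub_self, map_zero]
  have hsurj : Function.Surjective (CharacterModule.dual e) :=
    CharacterModule.dual_surjective_of_injective _ (Submodule.injective_subtype _)
  let t' : CharacterModule (invariants ψ) →ₗ[R] CharacterModule V :=
    ((LinearMap.ker (CharacterModule.dual e)).liftQ t hker).comp
      (LinearMap.quotKerEquivOfSurjective _ hsurj).symm.toLinearMap
  have ht' : ∀ c, t' (CharacterModule.dual e c) = t c := by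
    intro c
    have : (LinearMap.quotKerEquivOfSurjective _ hsurj).symm (CharacterModule.dual e c)
        = Submodule.Quotient.mk c := by
      rw [LinearEquiv.symm_apply_eq]; rfl
    simp only [t', LinearMap.comp_apply, LinearEquiv.coe_coe, this, Submodule.liftQ_apply]
  have het' : ∀ (c : CharacterModule (invariants ψ)) (m : invariants ψ), t' c (e m) = c m := by
    intro c m
    obtain ⟨c, rfl⟩ := hsurj c
    rw [ht']
    show sigmaExt σ V c (ψ (e m)) = c (e m)
    rw [hψe, hησ]
  constructor
  · rw [← CharacterModule.dual_surjective_iff_injective]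
    refine fun χ => ⟨liftDual S t' χ, ?_⟩
    ext x
    induction x with
    | zero => simp only [map_zero]
    | tmul s m => exact het' _ m
    | add x y hx hy => simp only [map_add, hx, hy]
  · intro x hx
    rw [← Submodule.Quotient.mk_eq_zero]
    refine eq_zero_of_character_apply fun c => ?_
    let χ : CharacterModule (S ⊗[R] V) :=
      CharacterModule.dual (Submodule.mkQ (LinearMap.range (LinearMap.lTensor S e))) c
    let τ := liftDual S (sigmaExt σ V) χ
    have h1 : τ (LinearMap.lTensor S η x) = χ x := by
      clear hx
      induction x with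
      | zero => simp only [map_zero]
      | tmul s v => exact hησ _ v
      | add x y hx hy => simp only [map_add, hx, hy]
    have h2 : τ (LinearMap.lTensor S ψ x) = 0 := by
      clear hx h1
      induction x with
      | zero => simp only [map_zero]
      | tmul s v =>
        show t (CharacterModule.curry χ s) v = 0
        rw [← ht']
        have : CharacterModule.dual e (CharacterModule.curry χ s) = 0 := by
          ext m
          show c (Submodule.mkQ _ (s ⊗ₜ[R] e m)) = 0
          rw [Submodule.mkQ_apply,
            (Submodule.Quotient.mk_eq_zero _).mpr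
              (LinearMap.mem_range.mpr ⟨s ⊗ₜ[R] m, LinearMap.lTensor_tmul _ _ _ _⟩),
            map_zero]
        rw [this, map_zero]; rfl
      | add x y hx hy => simp only [map_add, hx, hy, add_zero]
    show χ x = 0
    rw [← h1, ← hx, h2]

variable [Module S V] [IsScalarTower R S V]

include h in
/-- Effectivity: a coassociative injective `S`-linear coaction is the canonical one of its
invariants. -/
theorem lift_invariants_bijective
    (hlin : ∀ (s : S) (v : V), ψ (s • v) = s • ψ v) (hinj : Function.Injective ψ)
    (hψ : ∀ v, LinearMap.lTensor S ψ (ψ v) = LinearMap.lTensor S (TensorProduct.mk R S V 1) (ψ v)) :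
    Function.Bijective
      ((TensorProduct.lift (Algebra.lsmul R R V).toLinearMap) ∘ₗ
        (LinearMap.lTensor S (invariants ψ).subtype) : S ⊗[R] invariants ψ →ₗ[R] V) := by
  let μ : S ⊗[R] V →ₗ[R] V := TensorProduct.lift (Algebra.lsmul R R V).toLinearMap
  have hμ : ∀ (s : S) (v : V), μ (s ⊗ₜ v) = s • v := fun s v => rfl
  obtain ⟨hi, he⟩ := lTensor_invariants_exact h hψ
  have h1 : ∀ w : S ⊗[R] invariants ψ,
      ψ (μ (LinearMap.lTensor S (invariants ψ).subtype w)) =
        LinearMap.lTensor S (invariants ψ).subtype w := by
    intro w
    induction w with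
    | zero => simp
    | tmul s m =>
      rw [LinearMap.lTensor_tmul, hμ, hlin, Submodule.subtype_apply, (mem_invariants ψ _).1 m.2,
        TensorProduct.smul_tmul', smul_eq_mul, mul_one]
    | add x y hx hy => simp [hx, hy]
  constructor
  · intro a b hab
    apply hi
    rw [← h1 a, ← h1 b]
    exact congr(ψ $hab)
  · intro v
    obtain ⟨w, hw⟩ := he (ψ v) (hψ v)
    refine ⟨w, hinj ?_⟩
    exact (h1 w).trans hw

end comodule

end Groth.Agent.Desc59
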