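import Mathlib.RingTheory.Flat.FaithfullyFlat.Algebra
import Groth.Agent.Desc59.UnivInj

universe u v

open TensorProduct

namespace Groth.Agent.Desc59

variable (R : Type u) [CommRing R] (S : Type v) [CommRing S] [Algebra R S]

lemma dualSplit_of_forall_injective_mk
    (h : ∀ (P : Type u) [AddCommGroup P] [Module R P], Function.Injective (TensorProduct.mk R S P 1)) :
    DualSplit (Algebra.linearMap R S) := by
  refine dualSplit_of_injective_rTensor _ ?_
  have e : ∀ x, (Algebra.linearMap R S).rTensor (CharacterModule R) x =
      TensorProduct.mk R S (CharacterModule R) 1 (TensorProduct.lid R _ x) := by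
    intro x
    induction x with
    | zero => simp
    | tmul r c =>
      simp [Algebra.algebraMap_eq_smul_one, TensorProduct.smul_tmul]
    | add x y hx hy => simp only [map_add, hx, hy]
  intro x y hxy
  rw [e, e] at hxy
  exact (TensorProduct.lid R _).injective (h _ hxy)

lemma dualSplit_of_faithfullyFlat [Module.FaithfullyFlat R S] :
    DualSplit (Algebra.linearMap R S) :=
  dualSplit_of_forall_injective_mk R S fun P _ _ =>
    Module.FaithfullyFlat.tensorProduct_mk_injective (A := R) (B := S) P

end Groth.Agent.Desc59
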