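import Groth.Agent.Desc59.DDPull
import Groth.Agent.Desc59.UnivInjFF

/-!
Effectivity of descent data with affine underlying scheme.
-/

set_option backward.isDefEq.respectTransparency false

universe u

open CategoryTheory CategoryTheory.Limits AlgebraicGeometry TensorProduct

namespace Groth.Agent.Desc59

open Desc

section algebra

variable {R A B : Type u} [CommRing R] [CommRing A] [CommRing B] [Algebra R A] [Algebra A B]
  [Algebra R B] [IsScalarTower R A B] (c : B →ₐ[R] A ⊗[R] B)

/-- Invariants of an algebra coaction. -/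
noncomputable abbrev invSubalg : Subalgebra R B :=
  AlgHom.equalizer c Algebra.TensorProduct.includeRight

lemma productMap_bijective [Module.FaithfullyFlat R A]
    (hlin : ∀ a : A, c (algebraMap A B a) = a ⊗ₜ[R] (1 : B))
    (hinj : Function.Injective c)
    (hco : (Algebra.TensorProduct.map (AlgHom.id R A) c).comp c =
      (Algebra.TensorProduct.map (AlgHom.id R A) Algebra.TensorProduct.includeRight).comp c) :
    Function.Bijective
      (Algebra.TensorProduct.productMap (IsScalarTower.toAlgHom R A B) (invSubalg c).val) := by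
  have h := lift_invariants_bijective (dualSplit_of_faithfullyFlat R A) (ψ := c.toLinearMap)
    (fun a v => by
      show c (a • v) = a • c v
      rw [Algebra.smul_def, map_mul, hlin, Algebra.smul_def,
        Algebra.TensorProduct.algebraMap_apply, Algebra.algebraMap_self, RingHom.id_apply])
    hinj (fun v => congr($hco v))
  have hmem : ∀ v, v ∈ invariants c.toLinearMap ↔ v ∈ invSubalg c := fun v => mem_invariants _ _
  let e : invariants c.toLinearMap ≃ₗ[R] invSubalg c :=
    { toFun := fun x => ⟨x.1, (hmem _).mp x.2⟩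
      invFun := fun x => ⟨x.1, (hmem _).mpr x.2⟩
      map_add' := fun _ _ => rfl
      map_smul' := fun _ _ => rfl
      left_inv := fun _ => rfl
      right_inv := fun _ => rfl }
  rw [← Function.Bijective.of_comp_iff _ (LinearEquiv.lTensor A e).bijective]
  convert h using 1
  funext x
  induction x with
  | zero => simp
  | tmul a m =>
    show algebraMap A B a * (m : B) = a • (m : B)
    rw [Algebra.smul_def]
  | add x y hx hy =>
    simp only [Function.comp_apply, map_add] at hx hy ⊢
    rw [hx, hy]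

end algebra

variable {X S : Scheme.{u}} {p : X ⟶ S} (D : SchDD p)

/-- Effectivity for affine schemes over affine schemes. -/
theorem exists_isQuot_of_isAffine' [IsAffine X] [IsAffine S] [Flat p] [Surjective p]
    [IsAffine D.obj.left] :
    ∃ (U : Over S) (π : D.obj.left ⟶ U.left), IsAffine U.left ∧ IsQuot D U π := by
  let R := Γ(S, ⊤)
  let A := Γ(X, ⊤)
  let B := Γ(D.obj.left, ⊤)
  let φ : R ⟶ A := p.appTop
  let ψ : A ⟶ B := D.obj.hom.appTop
  let : Algebra R A := φ.hom.toAlgebra
  let : Algebra A B := ψ.hom.toAlgebra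
  let : Algebra R B := (φ ≫ ψ).hom.toAlgebra
  have : IsScalarTower R A B := .of_algebraMap_eq' rfl
  have : Module.FaithfullyFlat R A :=
    (Flat.flat_and_surjective_iff_faithfullyFlat_of_isAffine p).mp ⟨‹_›, ‹_›⟩
  let iX := X.isoSpec
  let iS := S.isoSpec
  let iV := D.obj.left.isoSpec
  have hsqp : iX.hom ≫ Spec.map φ = p ≫ iS.hom := Scheme.isoSpec_hom_naturality p
  have hsqV : iV.hom ≫ Spec.map ψ = D.obj.hom ≫ iX.hom := Scheme.isoSpec_hom_naturality D.obj.hom
  let iL : A ⟶ CommRingCat.of (A ⊗[R] B) :=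
    CommRingCat.ofHom Algebra.TensorProduct.includeLeftRingHom
  let iR : B ⟶ CommRingCat.of (A ⊗[R] B) :=
    CommRingCat.ofHom Algebra.TensorProduct.includeRight.toRingHom
  have hsq : IsPullback (Spec.map iL ≫ iX.inv) (Spec.map iR ≫ iV.inv) p (D.obj.hom ≫ p) :=
    IsPullback.of_iso (isPullback_SpecMap_of_isPushout _ _ _ _
      (CommRingCat.isPushout_tensorProduct R A B)) (Iso.refl _) iX.symm iV.symm iS.symm
      (by simp [iL]) (by simp [iR])
      (by
        simp only [Iso.symm_hom]
        rw [Iso.comp_inv_eq, Category.assoc, Iso.eq_inv_comp]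
        exact hsqp)
      (by
        simp only [Iso.symm_hom]
        rw [Iso.comp_inv_eq, Category.assoc, Category.assoc, Iso.eq_inv_comp, ← hsqp,
          ← reassoc_of% hsqV]
        rw [← Spec.map_comp]
        rfl)
  let E := hsq.isoPullback
  have hE₁ : E.hom ≫ pullback.fst p (D.obj.hom ≫ p) = Spec.map iL ≫ iX.inv := hsq.isoPullback_hom_fst
  have hE₂ : E.hom ≫ pullback.snd p (D.obj.hom ≫ p) = Spec.map iR ≫ iV.inv := hsq.isoPullback_hom_snd
  let cr : B ⟶ CommRingCat.of (A ⊗[R] B) := Spec.preimage (E.hom ≫ θ D ≫ iV.hom)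
  have hcr : Spec.map cr = E.hom ≫ θ D ≫ iV.hom := Spec.map_preimage _
  have hθ : E.hom ≫ θ D = Spec.map cr ≫ iV.inv := by simp [hcr]
  have hψcr : ψ ≫ cr = iL := by
    apply Spec.map_injective
    rw [Spec.map_comp, hcr, Category.assoc, Category.assoc, hsqV, θ_hom_assoc, reassoc_of% hE₁]
    simp
  have hR : φ ≫ iL = φ ≫ ψ ≫ iR := by
    ext r
    show algebraMap R A r ⊗ₜ[R] (1 : B) = (1 : A) ⊗ₜ[R] algebraMap R B r
    simp [Algebra.algebraMap_eq_smul_one, TensorProduct.smul_tmul]
  let c : B →ₐ[R] A ⊗[R] B :=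
    { cr.hom with
      commutes' := fun r => by
        show (φ ≫ ψ ≫ cr).hom r = algebraMap R A r ⊗ₜ[R] (1 : B)
        rw [hψcr]; rfl }
  have hlin : ∀ a : A, c (algebraMap A B a) = a ⊗ₜ[R] (1 : B) := fun a => congr($(hψcr).hom a)
  let μ : CommRingCat.of (A ⊗[R] B) ⟶ B :=
    CommRingCat.ofHom (Algebra.TensorProduct.productMap (IsScalarTower.toAlgHom R A B) (AlgHom.id R B)).toRingHom
  have hμL : iL ≫ μ = ψ := by
    ext a; simp [iL, μ, RingHom.algebraMap_toAlgebra]
  have hμR : iR ≫ μ = 𝟙 B := by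
    ext b
    exact (Algebra.TensorProduct.productMap_right_apply (IsScalarTower.toAlgHom R A B)
      (AlgHom.id R B) b)
  have hμ : cr ≫ μ = 𝟙 B := by
    apply Spec.map_injective
    have e : Spec.map μ ≫ E.hom = iV.inv ≫ pullback.lift D.obj.hom (𝟙 _) (by simp) := by
      apply pullback.hom_ext
      · rw [Category.assoc, hE₁, ← Spec.map_comp_assoc, hμL, Category.assoc, pullback.lift_fst,
          Iso.comp_inv_eq, Category.assoc, ← hsqV, Iso.inv_hom_id_assoc]
      · rw [Category.assoc, hE₂, ← Spec.map_comp_assoc, hμR, Category.assoc, pullback.lift_snd]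
        simp
    rw [Spec.map_comp, hcr, reassoc_of% e, diag_θ_assoc, Iso.inv_hom_id, Spec.map_id]
  have hinj : Function.Injective c := by
    intro x y hxy
    have hx := congr($(hμ).hom x)
    have hy := congr($(hμ).hom y)
    simp only [CommRingCat.hom_comp, RingHom.comp_apply, CommRingCat.hom_id, RingHom.id_apply] at hx hy
    rw [← hx, ← hy]
    exact congrArg μ.hom hxy
  have hco : (Algebra.TensorProduct.map (AlgHom.id R A) c).comp c =
      (Algebra.TensorProduct.map (AlgHom.id R A) Algebra.TensorProduct.includeRight).comp c := by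
    let mc : CommRingCat.of (A ⊗[R] B) ⟶ CommRingCat.of (A ⊗[R] (A ⊗[R] B)) :=
      CommRingCat.ofHom (Algebra.TensorProduct.map (AlgHom.id R A) c).toRingHom
    let mη : CommRingCat.of (A ⊗[R] B) ⟶ CommRingCat.of (A ⊗[R] (A ⊗[R] B)) :=
      CommRingCat.ofHom (Algebra.TensorProduct.map (AlgHom.id R A)
        (Algebra.TensorProduct.includeRight : B →ₐ[R] A ⊗[R] B)).toRingHom
    let jR : CommRingCat.of (A ⊗[R] B) ⟶ CommRingCat.of (A ⊗[R] (A ⊗[R] B)) :=
      CommRingCat.ofHom Algebra.TensorProduct.includeRight.toRingHom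
    let jL : A ⟶ CommRingCat.of (A ⊗[R] (A ⊗[R] B)) :=
      CommRingCat.ofHom Algebra.TensorProduct.includeLeftRingHom
    have c1 : iL ≫ mc = jL := by ext a; simp [iL, mc, jL]
    have c2 : iR ≫ mc = cr ≫ jR := by ext b; simp [iR, mc, jR]; rfl
    have e1 : iL ≫ mη = jL := by ext a; simp [iL, mη, jL]
    have e2 : iR ≫ mη = iR ≫ jR := by
      ext b
      show Algebra.TensorProduct.map (AlgHom.id R A) Algebra.TensorProduct.includeRight
        ((1 : A) ⊗ₜ[R] b) = (1 : A) ⊗ₜ[R] ((1 : A) ⊗ₜ[R] b)
      simp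
    have key : cr ≫ mc = cr ≫ mη := by
      apply Spec.map_injective
      rw [Spec.map_comp, Spec.map_comp, hcr]
      have h₁ : (Spec.map jR ≫ Spec.map iL ≫ iX.inv) ≫ p =
          (Spec.map jR ≫ Spec.map iR ≫ iV.inv) ≫ D.obj.hom ≫ p := by
        simp only [Category.assoc, hsq.w]
      have h₂ : (Spec.map mη ≫ Spec.map iL ≫ iX.inv) ≫ p =
          (Spec.map mη ≫ Spec.map iR ≫ iV.inv) ≫ D.obj.hom ≫ p := by
        simp only [Category.assoc, hsq.w]
      have htr := lift_θ_trans D (Spec.map jR ≫ Spec.map iR ≫ iV.inv)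
        (Spec.map jR ≫ Spec.map iL ≫ iX.inv) (Spec.map mη ≫ Spec.map iL ≫ iX.inv)
        h₁ (by
          rw [h₂]
          simp only [← Category.assoc, ← Spec.map_comp, e2])
      have f1 : Spec.map mη ≫ E.hom = pullback.lift (Spec.map mη ≫ Spec.map iL ≫ iX.inv)
          (Spec.map jR ≫ Spec.map iR ≫ iV.inv) (by
            rw [h₂]; simp only [← Category.assoc, ← Spec.map_comp, e2]) := by
        apply pullback.hom_ext
        · simp [hE₁]
        · simp only [Category.assoc, hE₂, pullback.lift_snd]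
          simp only [← Category.assoc, ← Spec.map_comp, e2]
      have f0 : Spec.map jR ≫ E.hom = pullback.lift (Spec.map jR ≫ Spec.map iL ≫ iX.inv)
          (Spec.map jR ≫ Spec.map iR ≫ iV.inv) h₁ := by
        apply pullback.hom_ext
        · simp [hE₁]
        · simp [hE₂]
      have f2 : Spec.map mc ≫ E.hom = pullback.lift (Spec.map mη ≫ Spec.map iL ≫ iX.inv)
          (pullback.lift (Spec.map jR ≫ Spec.map iL ≫ iX.inv)
            (Spec.map jR ≫ Spec.map iR ≫ iV.inv) h₁ ≫ θ D) (by
            rw [h₂]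
            simp only [Category.assoc, θ_hom_assoc, pullback.lift_fst_assoc, hsq.w]
            simp only [← Category.assoc, ← Spec.map_comp, e2]) := by
        apply pullback.hom_ext
        · simp only [Category.assoc, hE₁, pullback.lift_fst]
          simp only [← Category.assoc, ← Spec.map_comp, c1, e1]
        · simp only [Category.assoc, hE₂, pullback.lift_snd, ← f0, hθ]
          simp only [← Category.assoc, ← Spec.map_comp, c2]
      rw [reassoc_of% f1, reassoc_of% f2, reassoc_of% htr]
    exact AlgHom.coe_ringHom_injective congr($(key).hom)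
  have hbij := productMap_bijective c hlin hinj hco
  let B₀ := invSubalg c
  let j : CommRingCat.of B₀ ⟶ B := CommRingCat.ofHom B₀.val.toRingHom
  let r₀ : R ⟶ CommRingCat.of B₀ := CommRingCat.ofHom (algebraMap R B₀)
  let P : CommRingCat.of (A ⊗[R] B₀) ≅ B := (RingEquiv.ofBijective
    (Algebra.TensorProduct.productMap (IsScalarTower.toAlgHom R A B) B₀.val).toRingHom hbij).toCommRingCatIso
  have hpush : IsPushout φ r₀ ψ j :=
    (CommRingCat.isPushout_tensorProduct R A B₀).of_iso (Iso.refl _) (Iso.refl _) (Iso.refl _) P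
      (by rfl) (by rfl)
      (by ext a; simp [P, RingHom.algebraMap_toAlgebra])
      (by ext b; simp [P, j])
  refine ⟨Over.mk (Spec.map r₀ ≫ iS.inv), iV.hom ≫ Spec.map j, inferInstanceAs (IsAffine (Spec _)), ?_, ?_⟩
  · refine IsPullback.of_iso (isPullback_SpecMap_of_isPushout _ _ _ _ hpush).flip iV.symm
      (Iso.refl _) iX.symm iS.symm ?_ ?_ ?_ ?_
    · simp
    · simp only [Iso.symm_hom]
      rw [Iso.comp_inv_eq, Category.assoc, Iso.eq_inv_comp]
      exact hsqV
    · simp
    · simp only [Iso.symm_hom]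
      rw [Iso.comp_inv_eq, Category.assoc, Iso.eq_inv_comp]
      exact hsqp
  · rw [IsInvariant, ← cancel_epi E.hom, reassoc_of% hθ, reassoc_of% hE₂, Iso.inv_hom_id_assoc, ← Spec.map_comp, ← Spec.map_comp]
    congr 1
    ext b
    exact b.2

theorem exists_isQuot_of_isAffine [IsAffine X] [IsAffine S] [Flat p] [Surjective p]
    [IsAffine D.obj.left] : ∃ (U : Over S) (π : D.obj.left ⟶ U.left), IsQuot D U π := by
  obtain ⟨U, π, -, h⟩ := exists_isQuot_of_isAffine' D
  exact ⟨U, π, h⟩

theorem effective_of_isAffineHom {X S : Scheme.{u}} (p : X ⟶ S) [Surjective p] [Flat p]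
    [QuasiCompact p] (D : SchDD p) [IsAffineHom D.obj.hom] :
    ∃ U : Over S, Nonempty ((toDD p).obj U ≅ D) := by
  refine effective_of_affine_case @IsAffineHom (fun X S p _ _ _ _ D hD => ?_) p D inferInstance
  have : IsAffineHom D.obj.hom := hD
  have : IsAffine D.obj.left := isAffine_of_isAffineHom D.obj.hom
  exact exists_isQuot_iff.mp (exists_isQuot_of_isAffine D)

end Groth.Agent.Desc59
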