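import Groth.Agent.Desc59.DDIndQA2
import Groth.Agent.S1400
import Groth.Prelude.Def_MoreMor

/-!
Effectivity of ind-quasi-affine descent data relative to fpqc morphisms.
-/

set_option backward.isDefEq.respectTransparency false

universe u

open CategoryTheory CategoryTheory.Limits AlgebraicGeometry

namespace Groth.Agent.Desc59

open Desc

/-- Ind-quasi-affine morphisms as a morphism property. -/
def indQA : MorphismProperty Scheme.{u} := fun _ _ f => MoreMor.IsIndQuasiAffineHom f

instance : (indQA.{u}).IsStableUnderBaseChange :=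
  ⟨fun {_ _ _ _ _ _ _ _} sq hg => S1400.result _ _ _ _ sq.flip.flip hg⟩

lemma qa_of_indQA {V X : Scheme.{u}} [IsAffine X] (f : V ⟶ X)
    (hf : MoreMor.IsIndQuasiAffineHom f) (W : V.Opens) (hW : IsCompact (W : Set V)) :
    W.toScheme.IsQuasiAffine := by
  let U := f ⁻¹ᵁ (⊤ : X.Opens)
  have hU : U = ⊤ := rfl
  have hc : IsCompact ((U.ι ⁻¹ᵁ W : U.toScheme.Opens) : Set U.toScheme) :=
    U.ι.isOpenEmbedding.isInducing.isCompact_preimage' hW
      (fun x _ => by rw [Scheme.Opens.range_ι]; trivial)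
  have h := hf ⊤ (isAffineOpen_top X) (U.ι ⁻¹ᵁ W) hc
  have : CompactSpace W.toScheme := isCompact_iff_compactSpace.mp hW
  have : Surjective U.ι := ⟨fun x => ⟨⟨x, trivial⟩, rfl⟩⟩
  have : IsIso U.ι := isIso_of_isOpenImmersion_of_opensRange_eq_top _ (U.opensRange_ι.trans hU)
  exact Scheme.IsQuasiAffine.of_isImmersion (Y := (U.ι ⁻¹ᵁ W).toScheme) (inv (U.ι ∣_ W))

theorem indQA_affine_case (X S : Scheme.{u}) (p : X ⟶ S) (_ : IsAffine X) (_ : IsAffine S)
    (_ : Flat p) (_ : Surjective p) (D : SchDD p) (hD : indQA D.obj.hom) :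
    ∃ U : Over S, Nonempty ((toDD p).obj U ≅ D) :=
  exists_isQuot_iff.mp (exists_isQuot_of_forall_qa D (qa_of_indQA D.obj.hom hD))

theorem effective_of_isIndQuasiAffineHom {X S : Scheme.{u}} (p : X ⟶ S) [Surjective p] [Flat p]
    [QuasiCompact p] (D : SchDD p) (hD : MoreMor.IsIndQuasiAffineHom D.obj.hom) :
    ∃ U : Over S, Nonempty ((toDD p).obj U ≅ D) :=
  effective_of_affine_case indQA indQA_affine_case p D hD

end Groth.Agent.Desc59
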