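import Groth.Agent.Desc59.DDSubcover
import Groth.Agent.Desc59.DDIndQAEff
import Mathlib.AlgebraicGeometry.Morphisms.UniversallyOpen

/-!
Effectivity relative to one-member fpqc coverings.
-/

set_option backward.isDefEq.respectTransparency false

universe u

open CategoryTheory CategoryTheory.Limits AlgebraicGeometry

namespace Groth.Agent.Desc59

open Desc

theorem effective_of_affine_case_fpqcMor (P : MorphismProperty Scheme.{u}) [P.IsStableUnderBaseChange]
    (h3 : ∀ (X S : Scheme.{u}) (p : X ⟶ S), IsAffine X → IsAffine S → Flat p → Surjective p →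
      ∀ D : SchDD p, P D.obj.hom → ∃ U : Over S, Nonempty ((toDD p).obj U ≅ D))
    {X S : Scheme.{u}} (p : X ⟶ S) [Surjective p] [Flat p] [IsFpqcMor p]
    (D : SchDD p) (hD : P D.obj.hom) : ∃ U : Over S, Nonempty ((toDD p).obj U ≅ D) := by
  have hcov : ∀ v : D.obj.left, ∃ (O : D.obj.left.Opens) (U : Over S) (π : O.toScheme ⟶ U.left),
      v ∈ O ∧ IsQuotOn D O U π := fun v => by
    obtain ⟨_, ⟨W, hW, rfl⟩, hvW, -⟩ :=
      S.isBasis_affineOpens.exists_subset_of_mem_open (Set.mem_univ ((D.obj.hom ≫ p) v)) isOpen_univ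
    change S.Opens at W
    have : IsAffine W.toScheme := hW
    have hps : Surjective (p ∣_ W) :=
      MorphismProperty.of_isPullback (isPullback_morphismRestrict p W).flip inferInstance
    obtain ⟨X', g, hX', hg, hgs⟩ := IsFpqcMor.exists_affine_subcover p hW
    let D₁ := pullDD (morphismRestrict_ι p W).symm D
    have w₂ : g ≫ (p ∣_ W) = (g ≫ (p ∣_ W)) ≫ 𝟙 _ := (Category.comp_id _).symm
    obtain ⟨U, π, hπ⟩ := exists_isQuot_iff.mpr (h3 X' W.toScheme (g ≫ (p ∣_ W)) hX' inferInstance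
      inferInstance hgs (pullDD w₂ D₁) (P.pullback_snd D₁.obj.hom _ (P.pullback_snd D.obj.hom _ hD)))
    obtain ⟨π₁, hπ₁⟩ := exists_isQuot_of_subcover D₁ w₂ hπ
    obtain ⟨π₀, hπ₀⟩ := exists_isQuotOn_of_restrict D W hπ₁
    exact ⟨_, _, π₀, hvW, hπ₀⟩
  exact exists_isQuot_iff.mp (exists_isQuot_of_cover hcov)

theorem effective_of_isIndQuasiAffineHom' {X S : Scheme.{u}} (p : X ⟶ S) [Surjective p] [Flat p]
    [IsFpqcMor p] (D : SchDD p) (hD : MoreMor.IsIndQuasiAffineHom D.obj.hom) :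
    ∃ U : Over S, Nonempty ((toDD p).obj U ≅ D) :=
  effective_of_affine_case_fpqcMor indQA indQA_affine_case p D hD

end Groth.Agent.Desc59
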