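import Mathlib.AlgebraicGeometry.Morphisms.FlatDescent
import Mathlib.AlgebraicGeometry.Sites.Fpqc

universe u
open CategoryTheory Limits MorphismProperty AlgebraicGeometry

namespace Groth.Agent.Desc59.FpqcCover

set_option backward.isDefEq.respectTransparency.types false in
theorem of_fpqcCover (P : MorphismProperty Scheme.{u}) [IsZariskiLocalAtTarget P]
    (hP : P.DescendsAlong (@Surjective ⊓ @Flat ⊓ @QuasiCompact : MorphismProperty Scheme.{u}))
    {X Y : Scheme.{u}} (f : X ⟶ Y) (𝒰 : Scheme.Cover Scheme.fpqcPrecoverage Y)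
    (h : ∀ i : 𝒰.I₀, P (pullback.snd f (𝒰.f i))) : P f := by
  refine IsZariskiLocalAtTarget.of_forall_exists_morphismRestrict (P := P) fun y => ?_
  obtain ⟨_, ⟨V, hV, rfl⟩, hyV, -⟩ := Y.isBasis_affineOpens.exists_subset_of_mem_open (Set.mem_univ y) isOpen_univ
  refine ⟨V, hyV, ?_⟩
  change Y.Opens at V
  have hV' : IsAffineOpen V := hV
  obtain ⟨n, a, W, hW, hcov⟩ :=
    QuasiCompactCover.exists_isAffineOpen_of_isCompact (𝒰 := 𝒰.toPreZeroHypercover) hV'.isCompact
  have hle : ∀ j, Set.range ((W j).ι ≫ 𝒰.f (a j)) ⊆ (V : Set Y) := by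
    rintro j _ ⟨x, rfl⟩
    rw [← hcov]
    exact Set.mem_iUnion_of_mem j ⟨x.1, x.2, rfl⟩
  let q (j : ULift.{u} (Fin n)) : (W j.down).toScheme ⟶ V :=
    IsOpenImmersion.lift V.ι ((W j.down).ι ≫ 𝒰.f (a j.down)) (by simpa using hle j.down)
  have hq : ∀ j, q j ≫ V.ι = (W j.down).ι ≫ 𝒰.f (a j.down) := fun j => IsOpenImmersion.lift_fac _ _ _
  have : ∀ j, Flat (q j) := fun j => by
    have : Flat (𝒰.f (a j.down)) := Scheme.Cover.map_prop 𝒰.forgetQc _
    have : Flat (q j ≫ V.ι) := by rw [hq]; infer_instance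
    exact MorphismProperty.of_postcomp (W := @Flat) (W' := @IsOpenImmersion) _ V.ι inferInstance this
  let p : (∐ fun j => (W (ULift.down.{u} j)).toScheme) ⟶ V := Sigma.desc q
  have : ∀ j : ULift.{u} (Fin n), IsAffine (W j.down).toScheme := fun j => hW _
  have : IsAffine V.toScheme := hV'
  have : Surjective p := ⟨fun v => by
    have hv : v.1 ∈ ⋃ i, 𝒰.f (a i) '' (W i : Set _) := hcov.ge v.2
    obtain ⟨j, x, hx, hxy⟩ := Set.mem_iUnion.mp hv
    refine ⟨Sigma.ι (fun j => (W (ULift.down.{u} j)).toScheme) ⟨j⟩ ⟨x, hx⟩, ?_⟩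
    apply V.ι.injective
    rw [← Scheme.Hom.comp_apply, ← Scheme.Hom.comp_apply]
    simpa [p, hq ⟨j⟩] using hxy⟩
  refine hP.of_isPullback (IsPullback.of_hasPullback (f ∣_ V) p).flip
    ⟨⟨inferInstance, inferInstance⟩, inferInstance⟩ ?_
  rw [IsZariskiLocalAtTarget.iff_of_openCover (P := P) (sigmaOpenCover fun j => (W (ULift.down.{u} j)).toScheme)]
  intro j
  let c := Sigma.ι (fun j => (W (ULift.down.{u} j)).toScheme) j
  have hout : IsPullback (pullback.fst (pullback.snd (f ∣_ V) p) c ≫ pullback.fst (f ∣_ V) p ≫ (f ⁻¹ᵁ V).ι)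
      (pullback.snd (pullback.snd (f ∣_ V) p) c) f ((W j.down).ι ≫ 𝒰.f (a j.down)) := by
    rw [← hq]
    have e : q j = c ≫ p := (Sigma.ι_desc q j).symm
    rw [e, Category.assoc]
    exact (IsPullback.of_hasPullback _ _).paste_horiz
      ((IsPullback.of_hasPullback _ _).paste_horiz (isPullback_morphismRestrict f V).flip)
  exact IsZariskiLocalAtTarget.of_isPullback (P := P) (iY := Scheme.Opens.ι (W j.down))
    (IsPullback.of_right' hout (IsPullback.of_hasPullback f (𝒰.f (a j.down)))) (h _)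

end Groth.Agent.Desc59.FpqcCover
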