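import Mathlib.AlgebraicGeometry.Morphisms.UniversallyOpen
import Mathlib.AlgebraicGeometry.Sites.Fpqc
import Mathlib.AlgebraicGeometry.Limits

/-!
Morphisms forming one-member fpqc coverings.
-/

set_option backward.isDefEq.respectTransparency false

universe u

open CategoryTheory CategoryTheory.Limits AlgebraicGeometry

namespace Groth.Agent.Desc59

variable {X Y : Scheme.{u}}

/-- A morphism whose singleton is an fpqc covering. -/
class IsFpqcMor (f : X ⟶ Y) : Prop where
  mem : Presieve.singleton f ∈ Scheme.fpqcPrecoverage Y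

namespace IsFpqcMor

instance of_quasiCompact (f : X ⟶ Y) [Flat f] [Surjective f] [QuasiCompact f] : IsFpqcMor f :=
  ⟨f.singleton_mem_fpqcPrecoverage⟩

instance of_lfp (f : X ⟶ Y) [Flat f] [Surjective f] [LocallyOfFinitePresentation f] : IsFpqcMor f :=
  ⟨Scheme.fppfPrecoverage_le_fpqcPrecoverage Y f.singleton_mem_fppfPrecoverage⟩

lemma of_isPullback {P Z : Scheme.{u}} {fst : P ⟶ X} {snd : P ⟶ Z} {f : X ⟶ Y} {g : Z ⟶ Y}
    (h : IsPullback fst snd f g) [hf : IsFpqcMor f] : IsFpqcMor snd := by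
  refine ⟨?_⟩
  have := hf.mem
  rw [← Presieve.ofArrows_pUnit.{u + 1}] at this ⊢
  exact Precoverage.mem_coverings_of_isPullback (fun _ : PUnit.{u + 2} => f) this g
    (fun _ => snd) (fun _ => fst) fun _ => h.flip

instance (f : X ⟶ Y) {Z : Scheme.{u}} (g : Z ⟶ Y) [IsFpqcMor f] :
    IsFpqcMor (pullback.snd f g) :=
  of_isPullback (IsPullback.of_hasPullback f g)

instance (f : X ⟶ Y) {Z : Scheme.{u}} (g : Z ⟶ Y) [IsFpqcMor f] :
    IsFpqcMor (pullback.fst g f) :=
  of_isPullback (IsPullback.of_hasPullback g f).flip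

variable (f : X ⟶ Y) [hf : IsFpqcMor f]

include hf in
lemma exists_compact_image_eq {U : Y.Opens} (hU : IsCompact (U : Set Y)) :
    ∃ K : X.Opens, IsCompact (K : Set X) ∧ f '' K = U := by
  have : QuasiCompactCover (PreZeroHypercover.singleton.{u} f) := by
    rw [← Scheme.presieve₀_mem_qcPrecoverage_iff, PreZeroHypercover.presieve₀_singleton]
    exact hf.mem.1
  obtain ⟨n, a, V, hV, hcov⟩ := QuasiCompactCover.exists_isAffineOpen_of_isCompact
    (𝒰 := PreZeroHypercover.singleton.{u} f) hU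
  let V' : Fin n → X.Opens := fun i => V i
  refine ⟨⨆ i, V' i, ?_, ?_⟩
  · rw [TopologicalSpace.Opens.coe_iSup]
    exact isCompact_iUnion fun i => (hV i).isCompact
  · rw [TopologicalSpace.Opens.coe_iSup, Set.image_iUnion]
    exact hcov

include hf in
/-- An affine scheme mapping surjectively and flatly onto an affine open. -/
lemma exists_affine_subcover [Flat f] {W : Y.Opens} (hW : IsAffineOpen W) :
    ∃ (X' : Scheme.{u}) (g : X' ⟶ (f ⁻¹ᵁ W).toScheme),
      IsAffine X' ∧ Flat g ∧ Surjective (g ≫ f ∣_ W) := by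
  obtain ⟨K, hK, hKW⟩ := exists_compact_image_eq f hW.isCompact
  have hKle : K ≤ f ⁻¹ᵁ W := fun x hx => hKW.le ⟨x, hx, rfl⟩
  have : CompactSpace K.toScheme := isCompact_iff_compactSpace.mp hK
  let 𝒰 := K.toScheme.affineCover.finiteSubcover
  let c := Sigma.desc fun i => 𝒰.f i
  let g : (∐ fun i => 𝒰.X i) ⟶ (f ⁻¹ᵁ W).toScheme := c ≫ X.homOfLE hKle
  have : Flat c := (IsZariskiLocalAtSource.iff_of_openCover (P := @Flat) (sigmaOpenCover _)).mpr
    fun i => by simp only [c, sigmaOpenCover_f, Sigma.ι_desc]; infer_instance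
  refine ⟨_, g, inferInstance, inferInstanceAs (Flat (c ≫ _)), ⟨fun w => ?_⟩⟩
  obtain ⟨x, hx, e⟩ := hKW.ge w.2
  obtain ⟨i, z, hz⟩ := 𝒰.exists_eq (⟨x, hx⟩ : K.toScheme)
  refine ⟨Sigma.ι (fun i => 𝒰.X i) i z, ?_⟩
  apply W.ι.isOpenEmbedding.injective
  simp only [← Scheme.Hom.comp_apply, g, c, Category.assoc, morphismRestrict_ι,
    Sigma.ι_desc_assoc, Scheme.homOfLE_ι_assoc]
  rw [Scheme.Hom.comp_apply, hz]
  exact e

include hf in
lemma effectiveEpi : EffectiveEpi f := by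
  rw [← Sieve.effectiveEpimorphic_singleton,
    Presieve.EffectiveEpimorphic.iff_forall_isSheafFor_yoneda]
  intro Z
  exact (GrothendieckTopology.Subcanonical.isSheaf_of_isRepresentable _).isSheafFor _
    (Precoverage.generate_mem_toGrothendieck hf.mem)

instance (priority := low) : EffectiveEpi f := effectiveEpi f

include hf in
lemma isQuotientMap [Flat f] [Surjective f] : Topology.IsQuotientMap f := by
  rw [Topology.isQuotientMap_iff]
  refine ⟨.of_isOpen_preimage_iff_isOpen fun s =>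
    ⟨fun hs => ?_, fun hs => hs.preimage f.continuous⟩, f.surjective⟩
  refine isOpen_iff_forall_mem_open.mpr fun y hy => ?_
  obtain ⟨_, ⟨W, hW, rfl⟩, hyW, -⟩ :=
    Y.isBasis_affineOpens.exists_subset_of_mem_open (Set.mem_univ y) isOpen_univ
  change Y.Opens at W
  obtain ⟨X', g, _, _, _⟩ := exists_affine_subcover f hW
  have : IsAffine W.toScheme := hW
  have hpre : (g ≫ f ∣_ W) ⁻¹' (W.ι ⁻¹' s) = (g ≫ (f ⁻¹ᵁ W).ι) ⁻¹' (f ⁻¹' s) := by
    simp only [← Set.preimage_comp, ← TopCat.coe_comp, ← Scheme.Hom.comp_base, Category.assoc,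
      morphismRestrict_ι]
  have hopen : IsOpen (W.ι ⁻¹' s) :=
    (Flat.isQuotientMap_of_surjective (g ≫ f ∣_ W)).isOpen_preimage.mp
      (hpre ▸ hs.preimage (g ≫ (f ⁻¹ᵁ W).ι).continuous)
  refine ⟨W.ι '' (W.ι ⁻¹' s), Set.image_preimage_subset _ _,
    W.ι.isOpenEmbedding.isOpenMap _ hopen, ⟨⟨y, hyW⟩, hy, rfl⟩⟩

end IsFpqcMor

end Groth.Agent.Desc59
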