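import Groth.Agent.Sga84.Top
import Groth.Agent.SpPts86.Props
import Groth.Agent.Desc59.FpqcMor
import Mathlib.AlgebraicGeometry.Morphisms.Immersion

/-!
Descent of immersions.
-/

set_option autoImplicit false
set_option backward.isDefEq.respectTransparency false
universe u

open CategoryTheory CategoryTheory.Limits AlgebraicGeometry

namespace Groth.Agent.Desc59

variable {X X' S S' : Scheme.{u}} {f : X ⟶ S} {f' : X' ⟶ S'} {p : S' ⟶ S} {q : X' ⟶ X}

lemma range_baseChange (sq : IsPullback q f' f p) : Set.range f' = p ⁻¹' (Set.range f) := by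
  ext y
  refine ⟨?_, ?_⟩
  · rintro ⟨x, rfl⟩
    exact ⟨q x, by rw [← Scheme.Hom.comp_apply, sq.w, Scheme.Hom.comp_apply]⟩
  · rintro ⟨x, hx⟩
    obtain ⟨z, -, hz⟩ := Scheme.exists_preimage_of_isPullback sq x y hx
    exact ⟨z, hz⟩

/-- An open over which a morphism with locally closed base change has closed range. -/
theorem exists_open_isClosed_range (sq : IsPullback q f' f p)
    (hcl : p ⁻¹' closure (Set.range f) ⊆ closure (p ⁻¹' Set.range f))
    (hq : Topology.IsQuotientMap p) (hf' : IsLocallyClosed (Set.range f')) :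
    ∃ U : S.Opens, Set.range f ⊆ U ∧ IsClosed (((↑) : U → S) ⁻¹' Set.range f) := by
  have e : p ⁻¹' (coborder (Set.range f)) = coborder (Set.range f') := by
    rw [range_baseChange sq, coborder, coborder, Set.preimage_compl, Set.preimage_sdiff,
      subset_antisymm hcl (p.continuous.closure_preimage_subset _)]
  refine ⟨⟨coborder (Set.range f), hq.isOpen_preimage.mp (e ▸ hf'.isOpen_coborder)⟩,
    subset_coborder, isClosed_preimage_val_coborder⟩

theorem preimage_closure_range_of_flat [QuasiCompact f] [Flat p] :
    p ⁻¹' closure (Set.range f) ⊆ closure (p ⁻¹' Set.range f) := by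
  intro y hy
  obtain ⟨z, -, hz⟩ := Sga84.exists_specializes_of_mem_closure f isClosed_univ
    (y := p y) (by rw [Set.image_univ]; exact hy)
  obtain ⟨y'', hyy, hy''⟩ := Flat.generalizingMap (f := p) hz
  exact hyy.mem_closed isClosed_closure (subset_closure ⟨z, hy''.symm⟩)

/-- Immersions descend once the closure of the range commutes with the base change. -/
theorem isImmersion_of_isPullback (Q : MorphismProperty Scheme.{u}) [Q.IsStableUnderBaseChange]
    [hQ : MorphismProperty.DescendsAlong (@IsClosedImmersion : MorphismProperty Scheme.{u}) Q]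
    (sq : IsPullback q f' f p) (hp : Q p)
    (hcl : p ⁻¹' closure (Set.range f) ⊆ closure (p ⁻¹' Set.range f))
    (hquot : Topology.IsQuotientMap p) [IsImmersion f'] : IsImmersion f := by
  obtain ⟨U, hU, hcls⟩ := exists_open_isClosed_range sq hcl hquot f'.isLocallyClosed_range
  let g : X ⟶ U.toScheme := IsOpenImmersion.lift U.ι f (by rwa [Scheme.Opens.range_ι])
  have hg : g ≫ U.ι = f := IsOpenImmersion.lift_fac _ _ _
  let U' := p ⁻¹ᵁ U
  let g' : X' ⟶ U'.toScheme := IsOpenImmersion.lift U'.ι f' (by
    rw [Scheme.Opens.range_ι, range_baseChange sq]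
    exact Set.preimage_mono hU)
  have hg' : g' ≫ U'.ι = f' := IsOpenImmersion.lift_fac _ _ _
  have sq' : IsPullback q g' g (p ∣_ U) := by
    refine IsPullback.of_bot (v₂₁ := U'.ι) (v₂₂ := U.ι) (h₃₁ := p) ?_ ?_
      (isPullback_morphismRestrict p U)
    · simpa [hg, hg'] using sq
    · rw [← cancel_mono U.ι]
      simp only [Category.assoc, hg, morphismRestrict_ι, sq.w]
      exact ((reassoc_of% hg') p).symm
  have : IsClosedImmersion g' := by
    have : IsPreimmersion (g' ≫ U'.ι) := by rw [hg']; infer_instance
    have : IsPreimmersion g' := .of_comp g' U'.ι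
    refine .of_isPreimmersion _ ?_
    have : Set.range g' = (p ∣_ U) ⁻¹' Set.range g := range_baseChange sq'
    rw [this]
    refine IsClosed.preimage (p ∣_ U).continuous ?_
    have : Set.range g = ((↑) : U → S) ⁻¹' Set.range f := by
      ext z
      refine ⟨?_, ?_⟩
      · rintro ⟨x, rfl⟩
        exact ⟨x, (congrArg (fun k : X ⟶ S => k x) hg).symm.trans (Scheme.Hom.comp_apply g U.ι x)⟩
      · rintro ⟨x, hx⟩
        exact ⟨x, U.ι.injective (by rw [← Scheme.Hom.comp_apply, hg]; exact hx)⟩
    rw [this]
    exact hcls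
  have : IsClosedImmersion g := MorphismProperty.of_isPullback_of_descendsAlong
    (P := @IsClosedImmersion) (Q := Q) sq'.flip
    (MorphismProperty.of_isPullback (isPullback_morphismRestrict p U).flip hp) inferInstance
  rw [← hg]
  infer_instance

theorem descendsAlong_quasiCompact_immersion :
    MorphismProperty.DescendsAlong (@IsImmersion ⊓ @QuasiCompact : MorphismProperty Scheme.{u})
      (@Surjective ⊓ @Flat ⊓ @QuasiCompact : MorphismProperty Scheme.{u}) := by
  have := Unr55.quasiCompact.{u}
  have := Unr55.isClosedImmersion.{u}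
  refine MorphismProperty.DescendsAlong.mk' fun {X Y Z f g} _ hf hfst => ?_
  obtain ⟨hf1, hf2⟩ := hfst
  have : IsImmersion (pullback.fst f g) := hf1
  have hg : QuasiCompact g := MorphismProperty.of_pullback_fst_of_descendsAlong
    (P := @QuasiCompact) (Q := Unr55.fpqc.{u}) hf hf2
  obtain ⟨⟨hs, hfl⟩, hqc⟩ := hf
  have : Surjective f := hs
  have : Flat f := hfl
  have : QuasiCompact f := hqc
  exact ⟨isImmersion_of_isPullback Unr55.fpqc.{u} (IsPullback.of_hasPullback f g).flip
    ⟨⟨hs, hfl⟩, hqc⟩ preimage_closure_range_of_flat (Flat.isQuotientMap_of_surjective f), hg⟩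

theorem descendsAlong_immersion_fppf :
    MorphismProperty.DescendsAlong (@IsImmersion : MorphismProperty Scheme.{u})
      (@Surjective ⊓ @Flat ⊓ @LocallyOfFinitePresentation : MorphismProperty Scheme.{u}) := by
  have := Unr55.isClosedImmersion.{u}
  have hd := SpPts86.descends_fppf_of_fpqc (@IsClosedImmersion : MorphismProperty Scheme.{u})
    Unr55.isClosedImmersion
  refine MorphismProperty.DescendsAlong.mk' fun {X Y Z f g} _ hf hfst => ?_
  have : IsImmersion (pullback.fst f g) := hfst
  have := hf.1.1
  have := hf.1.2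
  have := hf.2
  exact isImmersion_of_isPullback (hQ := hd) (@Surjective ⊓ @Flat ⊓ @LocallyOfFinitePresentation : MorphismProperty Scheme.{u}) (IsPullback.of_hasPullback f g).flip
    hf f.isOpenMap.preimage_closure_subset_closure_preimage
    (f.isOpenMap.isQuotientMap f.continuous f.surjective)

end Groth.Agent.Desc59
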