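import Mathlib.AlgebraicGeometry.Morphisms.Flat
import Mathlib.AlgebraicGeometry.Morphisms.Affine
import Mathlib.AlgebraicGeometry.QuasiAffine

/-!
Flat base change of affine hulls.
-/

set_option backward.isDefEq.respectTransparency false

universe u

open CategoryTheory CategoryTheory.Limits AlgebraicGeometry

namespace Groth.Agent.Desc59

variable {X S V : Scheme.{u}} [IsAffine S]

/-- The structure map of the affine hull. -/
noncomputable def hullHom (g : V ⟶ S) : Spec Γ(V, ⊤) ⟶ S := Spec.map g.appTop ≫ S.isoSpec.inv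

@[reassoc (attr := simp)]
lemma toSpecΓ_hullHom (g : V ⟶ S) : V.toSpecΓ ≫ hullHom g = g := by
  rw [hullHom, ← Scheme.toSpecΓ_naturality_assoc]
  simp [Scheme.isoSpec]

omit [IsAffine S] in
instance isIso_toSpecΓ_appTop : IsIso V.toSpecΓ.appTop := by
  rw [Scheme.toSpecΓ_appTop]
  infer_instance

omit [IsAffine S] in
lemma appTop_cancel {H Z : Scheme.{u}} [IsAffine Z] (j : V ⟶ H) [IsIso j.appTop]
    {a b : H ⟶ Z} (h : j ≫ a = j ≫ b) : a = b := by
  have h' := congr(Scheme.Hom.appTop $h)
  simp only [Scheme.Hom.comp_appTop] at h'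
  exact ext_of_isAffine ((cancel_mono _).mp h')

omit [IsAffine S] in
lemma exists_appTop_fac {H Z : Scheme.{u}} [IsAffine Z] (j : V ⟶ H) [IsIso j.appTop]
    (f : V ⟶ Z) : ∃ f' : H ⟶ Z, j ≫ f' = f := by
  refine ⟨H.toSpecΓ ≫ Spec.map (f.appTop ≫ inv j.appTop) ≫ Z.isoSpec.inv, ?_⟩
  rw [Scheme.toSpecΓ_naturality_assoc, ← Spec.map_comp_assoc, Category.assoc, IsIso.inv_hom_id,
    Category.comp_id, ← Scheme.toSpecΓ_naturality_assoc]
  simp [Scheme.isoSpec]

variable [IsAffine X] (p : X ⟶ S) {g : V ⟶ S} {H : Scheme.{u}} {h : H ⟶ S} {j : V ⟶ H}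
  (w : j ≫ h = g)

/-- The map on base changes. -/
noncomputable def baseMap : pullback p g ⟶ pullback p h :=
  pullback.map p g p h (𝟙 X) j (𝟙 S) (by simp) (by simp [w])

omit [IsAffine X] [IsAffine S] in
@[reassoc (attr := simp)]
lemma baseMap_fst : baseMap p w ≫ pullback.fst p h = pullback.fst p g := by
  simp [baseMap]

omit [IsAffine X] [IsAffine S] in
@[reassoc (attr := simp)]
lemma baseMap_snd : baseMap p w ≫ pullback.snd p h = pullback.snd p g ≫ j := by
  simp [baseMap]

theorem isIso_baseMap_appTop [Flat p] [IsAffine H] [IsIso j.appTop] [CompactSpace V]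
    [QuasiSeparatedSpace V] : IsIso (baseMap p w).appTop := by
  let t := j.appTop
  have : IsIso t := ‹_›
  have h1 : IsPushout g.appTop p.appTop (pullback.snd p g).appTop (pullback.fst p g).appTop := by
    have H := (isIso_pushoutSection_iff (IsPullback.of_hasPullback p g).flip (US := ⊤) (UT := ⊤)
      (UX := ⊤) (UY := ⊤) le_top le_top (by simp)).mp
      (isIso_pushoutSection_of_isQuasiSeparated_of_flat_right _ _ _ _ (isAffineOpen_top S)
        (isAffineOpen_top X) isCompact_univ isQuasiSeparated_univ)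
    simpa [Scheme.Hom.appLE, Scheme.Hom.appTop] using H
  have h2 : IsPushout g.appTop p.appTop ((inv t) ≫ (pullback.snd p h).appTop)
      (pullback.fst p h).appTop := by
    refine (isPushout_appTop_of_isPullback (IsPullback.of_hasPullback p h)).flip.of_iso
      (Iso.refl _) (asIso t) (Iso.refl _) (Iso.refl _) ?_ ?_ ?_ ?_
    · show h.appTop ≫ t = (𝟙 _) ≫ g.appTop
      rw [Category.id_comp, ← Scheme.Hom.comp_appTop, w]
    · simp
    · simp
    · simp
  have e : (baseMap p w).appTop = (h2.isoIsPushout _ _ h1).hom := by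
    apply h2.hom_ext
    · rw [IsPushout.inl_isoIsPushout_hom, Category.assoc, IsIso.inv_comp_eq,
        ← Scheme.Hom.comp_appTop, baseMap_snd, Scheme.Hom.comp_appTop]
    · rw [IsPushout.inr_isoIsPushout_hom, ← Scheme.Hom.comp_appTop, baseMap_fst]
  rw [e]
  infer_instance

end Groth.Agent.Desc59
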