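import Groth.Agent.Desc59.DescImm
import Groth.Agent.Desc59.FlatHull
import Groth.Agent.FlatMor66.IndQA
import Groth.Prelude.Def_Mor2
import Mathlib.AlgebraicGeometry.Morphisms.UnderlyingMap

/-!
Quasi-affine morphisms descend along fpqc morphisms.
-/

set_option autoImplicit false
set_option backward.isDefEq.respectTransparency false
universe u

open CategoryTheory CategoryTheory.Limits AlgebraicGeometry

namespace Groth.Agent.Desc59

theorem isSeparated_of_isQuasiAffine {X Y : Scheme.{u}} (f : X ⟶ Y) (h : Mor2.IsQuasiAffine f) :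
    IsSeparated f := by
  refine (IsZariskiLocalAtTarget.iff_of_iSup_eq_top (P := @IsSeparated)
    (fun U : Y.affineOpens => U.1) (iSup_affineOpens_eq_top Y)).mpr fun U => ?_
  have : Scheme.IsQuasiAffine (f ⁻¹ᵁ U.1).toScheme := h.2 U.1 U.2
  have : IsAffine U.1.toScheme := U.2
  exact IsSeparated.of_comp (f ∣_ U.1) (terminal.from _)

theorem descendsAlong_quasiAffine :
    MorphismProperty.DescendsAlong (fun _ _ f => Mor2.IsQuasiAffine f : MorphismProperty Scheme.{u})
      (@Surjective ⊓ @Flat ⊓ @QuasiCompact : MorphismProperty Scheme.{u}) := by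
  haveI : MorphismProperty.RespectsIso
      (fun _ _ f => Mor2.IsQuasiAffine f : MorphismProperty Scheme.{u}) := by
    refine MorphismProperty.RespectsIso.mk _ (fun {X Y Z} e f hf => ⟨?_, fun V hV => ?_⟩)
      (fun {X Y Z} e f hf => ⟨?_, fun V hV => ?_⟩)
    · have := hf.1; infer_instance
    · exact FlatMor66.qa_congr (asIso (e.hom ∣_ (f ⁻¹ᵁ V))) (hf.2 V hV)
    · have := hf.1; infer_instance
    · exact hf.2 (e.hom ⁻¹ᵁ V) (hV.preimage e.hom)
  refine MorphismProperty.DescendsAlong.mk' fun {X Y Z f g} _ hf hfst => ?_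
  have := Unr55.quasiCompact.{u}
  have := Unr55.isSeparated.{u}
  have := descendsAlong_quasiCompact_immersion.{u}
  have hgc : QuasiCompact g := MorphismProperty.of_pullback_fst_of_descendsAlong
    (P := @QuasiCompact) (Q := Unr55.fpqc.{u}) hf hfst.1
  have hgs : IsSeparated g := MorphismProperty.of_pullback_fst_of_descendsAlong
    (P := @IsSeparated) (Q := Unr55.fpqc.{u}) hf (isSeparated_of_isQuasiAffine _ hfst)
  refine ⟨hgc, fun V hV => ?_⟩
  have : IsAffine V.toScheme := hV
  let gV := g ∣_ V
  let p := f ∣_ V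
  have hgV : QuasiCompact gV := inferInstance
  have : IsSeparated gV := IsZariskiLocalAtTarget.restrict hgs V
  let YV := (g ⁻¹ᵁ V).toScheme
  have : CompactSpace YV := QuasiCompact.compactSpace_of_compactSpace gV
  have : QuasiSeparatedSpace YV :=
    (quasiSeparated_iff_quasiSeparatedSpace gV).mp inferInstance
  let j := YV.toSpecΓ
  have w : j ≫ hullHom gV = gV := toSpecΓ_hullHom gV
  have hb : ∀ (U : (f ⁻¹ᵁ V).toScheme.Opens), IsAffineOpen U →
      IsImmersion (baseMap (U.ι ≫ p) w) := by
    intro U hU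
    have : IsAffine U.toScheme := hU
    have : Flat f := hf.1.2
    have : Flat p := IsZariskiLocalAtTarget.restrict hf.1.2 V
    have := isIso_baseMap_appTop (U.ι ≫ p) w
    -- the source is quasi-affine
    let e := U.ι ≫ (f ⁻¹ᵁ V).ι
    have hee : e ≫ f = (U.ι ≫ p) ≫ V.ι := by simp [e, p]
    let m : pullback (U.ι ≫ p) gV ⟶ pullback f g :=
      pullback.map _ _ _ _ e (g ⁻¹ᵁ V).ι V.ι hee.symm (morphismRestrict_ι g V)
    have sq : IsPullback m (pullback.fst (U.ι ≫ p) gV) (pullback.fst f g) e := by
      refine IsPullback.of_right (h₁₂ := pullback.snd f g) (v₁₃ := g) (h₂₂ := f) ?_ (by simp [m]) ?_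
      · rw [hee, pullback.lift_snd]
        exact (IsPullback.of_hasPullback (U.ι ≫ p) gV).flip.paste_horiz
          (isPullback_morphismRestrict g V).flip
      · exact (IsPullback.of_hasPullback f g).flip
    have : IsOpenImmersion m := MorphismProperty.of_isPullback sq.flip (inferInstanceAs (IsOpenImmersion e))
    have hme : Set.range m = pullback.fst f g ⁻¹' Set.range e := range_baseChange sq.flip
    have hA : IsAffineOpen e.opensRange := isAffineOpen_opensRange e
    let iA : pullback (U.ι ≫ p) gV ≅ (pullback.fst f g ⁻¹ᵁ e.opensRange).toScheme :=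
      IsOpenImmersion.isoOfRangeEq m (pullback.fst f g ⁻¹ᵁ e.opensRange).ι
        (by rw [Scheme.Opens.range_ι, hme]; rfl)
    have hW : Scheme.IsQuasiAffine (pullback (U.ι ≫ p) gV) :=
      FlatMor66.qa_congr iA (hfst.2 _ hA)
    have e1 : baseMap (U.ι ≫ p) w ≫ (pullback (U.ι ≫ p) (hullHom gV)).toSpecΓ =
        (pullback (U.ι ≫ p) gV).toSpecΓ ≫ Spec.map (baseMap (U.ι ≫ p) w).appTop :=
      Scheme.toSpecΓ_naturality _
    rw [← MorphismProperty.cancel_right_of_respectsIso (P := @IsImmersion) _
      (pullback (U.ι ≫ p) (hullHom gV)).toSpecΓ, e1]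
    infer_instance
  have hB : IsImmersion (baseMap p w) := by
    let 𝒰 := (f ⁻¹ᵁ V).toScheme.openCoverOfIsOpenCover
      (fun U : (f ⁻¹ᵁ V).toScheme.affineOpens => U.1) (iSup_affineOpens_eq_top _)
    refine IsZariskiLocalAtTarget.of_openCover (P := @IsImmersion)
      (𝒰.pullback₁ (pullback.fst p (hullHom gV))) fun i => ?_
    let ι := (show (f ⁻¹ᵁ V).toScheme.affineOpens from i).1.ι
    show IsImmersion (pullback.snd (baseMap p w) (pullback.fst (pullback.fst p (hullHom gV)) ι))
    let a : pullback (ι ≫ p) gV ⟶ pullback p gV :=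
      pullback.map _ _ _ _ ι (𝟙 _) (𝟙 _) (by simp) (by simp)
    let b : pullback (ι ≫ p) (hullHom gV) ⟶ pullback p (hullHom gV) :=
      pullback.map _ _ _ _ ι (𝟙 _) (𝟙 _) (by simp) (by simp)
    have ha : IsPullback a (pullback.fst (ι ≫ p) gV) (pullback.fst p gV) ι := by
      refine IsPullback.of_right (h₁₂ := pullback.snd p gV) (v₁₃ := gV) (h₂₂ := p) ?_ (by simp [a]) ?_
      · simpa [a] using (IsPullback.of_hasPullback (ι ≫ p) gV).flip
      · exact (IsPullback.of_hasPullback p gV).flip
    have hb' : IsPullback b (pullback.fst (ι ≫ p) (hullHom gV)) (pullback.fst p (hullHom gV)) ι := by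
      refine IsPullback.of_right (h₁₂ := pullback.snd p (hullHom gV)) (v₁₃ := hullHom gV) (h₂₂ := p)
        ?_ (by simp [b]) ?_
      · simpa [b] using (IsPullback.of_hasPullback (ι ≫ p) (hullHom gV)).flip
      · exact (IsPullback.of_hasPullback p (hullHom gV)).flip
    have hab : IsPullback a (baseMap (ι ≫ p) w) (baseMap p w) b := by
      refine IsPullback.of_bot (v₂₁ := pullback.fst (ι ≫ p) (hullHom gV))
        (v₂₂ := pullback.fst p (hullHom gV)) (h₃₁ := ι) ?_ ?_ hb'
      · simpa using ha
      · apply pullback.hom_ext <;> simp [a, b, baseMap]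
    have hc : hb'.isoPullback.hom ≫ pullback.fst (pullback.fst p (hullHom gV)) ι = b :=
      hb'.isoPullback_hom_fst
    have hsnd : IsPullback a (baseMap (ι ≫ p) w ≫ hb'.isoPullback.hom) (baseMap p w)
        (pullback.fst (pullback.fst p (hullHom gV)) ι) :=
      IsPullback.of_iso hab (Iso.refl _) (Iso.refl _) hb'.isoPullback (Iso.refl _)
        (by simp) (by simp) (by simp) (by simp [hc])
    rw [← hsnd.isoPullback_inv_snd, MorphismProperty.cancel_left_of_respectsIso (P := @IsImmersion),
      MorphismProperty.cancel_right_of_respectsIso (P := @IsImmersion)]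
    exact hb _ (show (f ⁻¹ᵁ V).toScheme.affineOpens from i).2
  have sqj : IsPullback (pullback.snd p gV) (baseMap p w) j (pullback.snd p (hullHom gV)) := by
    refine IsPullback.of_bot (v₂₁ := pullback.fst p (hullHom gV)) (v₂₂ := hullHom gV) (h₃₁ := p)
      ?_ (by simp) (IsPullback.of_hasPullback p (hullHom gV)).flip
    simpa [w] using (IsPullback.of_hasPullback p gV).flip
  have hq : Unr55.fpqc.{u} (pullback.snd p (hullHom gV)) :=
    MorphismProperty.pullback_snd (P := Unr55.fpqc.{u}) _ _
      (MorphismProperty.of_isPullback (isPullback_morphismRestrict f V).flip hf)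
  have : QuasiCompact j := (quasiCompact_iff_compactSpace j).mpr inferInstance
  have hjq : QuasiCompact (baseMap p w) := MorphismProperty.of_isPullback sqj this
  have := (MorphismProperty.of_isPullback_of_descendsAlong
    (P := (@IsImmersion ⊓ @QuasiCompact : MorphismProperty Scheme.{u})) (Q := Unr55.fpqc.{u})
    sqj.flip hq ⟨hB, hjq⟩).1
  exact { }

end Groth.Agent.Desc59
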