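import Groth.Agent.Desc59.DDFamEff
import Groth.Agent.FlatMor66.IndQA2

/-!
Effectivity of ind-quasi-affine descent data relative to fpqc families.
-/

set_option backward.isDefEq.respectTransparency false

universe u

open CategoryTheory CategoryTheory.Limits AlgebraicGeometry

namespace Groth.Agent.Desc59

open Desc

lemma indQA_sigmaMap {ι : Type u} {Y V : ι → Scheme.{u}} (q : ∀ j, Y j ⟶ V j)
    (hq : ∀ j, indQA (q j)) : indQA (Limits.Sigma.map q) := by
  refine (FlatMor66.isIndQuasiAffineHom_iff _).mpr fun A hA W hWA hW => ?_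
  refine FlatMor66.qa_opens_of_over_affine (Limits.Sigma.map q) A hA W hW hWA fun y _ => ?_
  obtain ⟨⟨j, y'⟩, rfl⟩ := (sigmaMk V).surjective y
  refine ⟨(Sigma.ι V j).opensRange, ⟨y', (sigmaMk_mk _ _ _).symm⟩, fun A' hA'le hA' W' hW'A' _ hW' => ?_⟩
  have hp := Sigma'.isPullback_map q j
  have hr : W' ≤ (Sigma.ι Y j).opensRange := fun z hz => by
    obtain ⟨w, hw⟩ := hA'le (hW'A' hz)
    obtain ⟨t, ht, -⟩ := Scheme.Pullback.exists_preimage_pullback (f := Limits.Sigma.map q)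
      (g := Sigma.ι V j) z w hw.symm
    refine ⟨hp.isoPullback.inv t, ?_⟩
    rw [← Scheme.Hom.comp_apply, IsPullback.isoPullback_inv_fst, ht]
  let W'' := Sigma.ι Y j ⁻¹ᵁ W'
  have himg : Sigma.ι Y j ''ᵁ W'' = W' := by
    rw [Scheme.Hom.image_preimage_eq_opensRange_inf, inf_eq_right]
    exact hr
  have hW'' : IsCompact (W'' : Set (Y j)) :=
    (Sigma.ι Y j).isOpenEmbedding.isInducing.isCompact_preimage' hW' hr
  have hA'' : IsAffineOpen (Sigma.ι V j ⁻¹ᵁ A') := hA'.preimage_of_isOpenImmersion _ hA'le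
  have := (FlatMor66.isIndQuasiAffineHom_iff (q j)).mp (hq j) _ hA'' W'' (fun z hz => by
    show Sigma.ι V j (q j z) ∈ A'
    rw [← Scheme.Hom.comp_apply, ← hp.w, Scheme.Hom.comp_apply]
    exact hW'A' hz) hW''
  exact himg ▸ FlatMor66.qa_congr ((Sigma.ι Y j).isoImage W'').symm this

theorem indQA_h2 (m : ℕ) (Y V : Fin m → Scheme.{u}) (q : ∀ j, Y j ⟶ V j) (hq : ∀ j, indQA (q j)) :
    indQA (Limits.Sigma.map q) := by
  have key := indQA_sigmaMap (fun j : ULift.{u} (Fin m) => q j.down) fun j => hq j.down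
  let eY : (∐ Y) ≅ ∐ fun j : ULift.{u} (Fin m) => Y j.down :=
    Sigma.reindex Equiv.ulift.symm fun j : ULift.{u} (Fin m) => Y j.down
  let eV : (∐ V) ≅ ∐ fun j : ULift.{u} (Fin m) => V j.down :=
    Sigma.reindex Equiv.ulift.symm fun j : ULift.{u} (Fin m) => V j.down
  have : Limits.Sigma.map q =
      eY.hom ≫ (Limits.Sigma.map fun j : ULift.{u} (Fin m) => q j.down) ≫ eV.inv := by
    rw [← Category.assoc, Iso.eq_comp_inv]
    refine Sigma.hom_ext _ _ fun k => ?_
    have z1 : Sigma.ι Y k ≫ eY.hom = Sigma.ι (fun j : ULift.{u} (Fin m) => Y j.down) ⟨k⟩ :=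
      Sigma.ι_reindex_hom Equiv.ulift.symm (fun j : ULift.{u} (Fin m) => Y j.down) k
    have y1 : Sigma.ι V k ≫ eV.hom = Sigma.ι (fun j : ULift.{u} (Fin m) => V j.down) ⟨k⟩ :=
      Sigma.ι_reindex_hom Equiv.ulift.symm (fun j : ULift.{u} (Fin m) => V j.down) k
    rw [reassoc_of% z1, Limits.Sigma.ι_map, Limits.Sigma.ι_map_assoc, y1]
  rw [this, (indQA.{u}).cancel_left_of_respectsIso, (indQA.{u}).cancel_right_of_respectsIso]
  exact key

theorem isEffective_of_isIndQuasiAffineHom {ι : Type u} {S : Scheme.{u}} {U : ι → Scheme.{u}}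
    {u : ∀ i, U i ⟶ S} (hu : Presieve.ofArrows U u ∈ Scheme.fpqcPrecoverage S) (D : SchDDFam u)
    (hD : ∀ i, MoreMor.IsIndQuasiAffineHom (D.obj i).hom) : D.IsEffective :=
  isEffective_of_affine_case indQA indQA_h2 indQA_affine_case hu D hD

end Groth.Agent.Desc59
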