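import Mathlib.AlgebraicGeometry.Morphisms.Etale
import Mathlib.AlgebraicGeometry.Fiber
import Mathlib.AlgebraicGeometry.Morphisms.QuasiFinite
import Mathlib.RingTheory.Etale.Field
import Mathlib.RingTheory.AlgebraicIndependent.TranscendenceBasis
import Groth.Agent.TopDim50.Basic
import Groth.Agent.FlatMor66.OnePoint
import Groth.Prelude.Def_Flat

/-!
Etale squares: maps of fibres are étale, residue degrees and local dimensions are preserved.
-/

set_option autoImplicit false
universe u

open CategoryTheory CategoryTheory.Limits AlgebraicGeometry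

namespace Groth.Agent.Desc59.EtaleDim

variable {X Y : Scheme.{u}} (f : X ⟶ Y)

theorem essFiniteType_residueFieldMap [LocallyOfFiniteType f] (x : X) :
    (f.residueFieldMap x).hom.EssFiniteType := by
  have h1 : (f.stalkMap x).hom.EssFiniteType := LocallyOfFiniteType.stalkMap f x
  have h2 : (X.residue x).hom.EssFiniteType :=
    (RingHom.FiniteType.of_surjective _ (X.residue_surjective x)).essFiniteType
  have h3 := h1.comp h2
  rw [← CommRingCat.hom_comp, ← Scheme.residue_residueFieldMap, CommRingCat.hom_comp] at h3
  exact RingHom.EssFiniteType.of_comp (f := (Y.residue (f x)).hom) h3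

theorem finite_residueFieldMap [LocallyOfFiniteType f] [FormallyUnramified f] (x : X) :
    (f.residueFieldMap x).hom.Finite := by
  have h := essFiniteType_residueFieldMap f x
  let := (f.residueFieldMap x).hom.toAlgebra
  have : Algebra.EssFiniteType (Y.residueField (f x)) (X.residueField x) := h
  have : Algebra.IsSeparable (Y.residueField (f x)) (X.residueField x) := inferInstanceAs
    (Algebra.IsSeparable (Y.residueField (f.base x)) (X.residueField x))
  exact Algebra.finite_of_essFiniteType_of_isAlgebraic

theorem etale_specMap_residueFieldMap [Etale f] (x : X) : Etale (Spec.map (f.residueFieldMap x)) := by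
  rw [HasRingHomProperty.Spec_iff (P := @Etale)]
  let := (f.residueFieldMap x).hom.toAlgebra
  have : Module.Finite (Y.residueField (f x)) (X.residueField x) := finite_residueFieldMap f x
  have : Algebra.IsSeparable (Y.residueField (f x)) (X.residueField x) := inferInstanceAs
    (Algebra.IsSeparable (Y.residueField (f.base x)) (X.residueField x))
  have : Algebra.FormallyEtale (Y.residueField (f x)) (X.residueField x) :=
    Algebra.FormallyEtale.of_isSeparable _ _
  have : Algebra.FinitePresentation (Y.residueField (f x)) (X.residueField x) :=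
    Algebra.FinitePresentation.of_finiteType.mp inferInstance
  exact (show Algebra.Etale (Y.residueField (f x)) (X.residueField x) from { })

theorem etale_fiberMap {U U' V V' : Scheme.{u}} (h : U ⟶ V) (h' : U' ⟶ V') (a : U' ⟶ U)
    (b : V' ⟶ V) [Etale a] [Etale b] (comm : h' ≫ b = a ≫ h) (v' : V')
    (φ : h'.fiber v' ⟶ h.fiber (b v')) (hφ1 : φ ≫ h.fiberι (b v') = h'.fiberι v' ≫ a)
    (hφ2 : φ ≫ h.fiberToSpecResidueField (b v') =
      h'.fiberToSpecResidueField v' ≫ Spec.map (b.residueFieldMap v')) :
    Etale φ := by
  let m : U' ⟶ pullback h b := pullback.lift a h' comm.symm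
  have hm1 : m ≫ pullback.fst h b = a := pullback.lift_fst _ _ _
  have hm2 : m ≫ pullback.snd h b = h' := pullback.lift_snd _ _ _
  have : Etale (m ≫ pullback.fst h b) := hm1 ▸ ‹Etale a›
  have hm : Etale m := Etale.of_comp m (pullback.fst h b)
  have sq0 : IsPullback (h'.fiberι v') (h'.fiberToSpecResidueField v') h' (V'.fromSpecResidueField v') :=
    IsPullback.of_hasPullback _ _
  have sqF : IsPullback ((pullback.snd h b).fiberι v') ((pullback.snd h b).fiberToSpecResidueField v')
      (pullback.snd h b) (V'.fromSpecResidueField v') := IsPullback.of_hasPullback _ _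
  let μ : h'.fiber v' ⟶ (pullback.snd h b).fiber v' :=
    sqF.lift (h'.fiberι v' ≫ m) (h'.fiberToSpecResidueField v') (by rw [Category.assoc, hm2, sq0.w])
  have sqμ : IsPullback (h'.fiberι v') μ m ((pullback.snd h b).fiberι v') := by
    refine IsPullback.of_bot ?_ (sqF.lift_fst _ _ _).symm sqF
    rw [sqF.lift_snd, hm2]
    exact sq0
  have hμ : Etale μ := MorphismProperty.of_isPullback sqμ hm
  have sqP := sqF.paste_horiz (IsPullback.of_hasPullback h b)
  rw [← Scheme.Hom.SpecMap_residueFieldMap_fromSpecResidueField] at sqP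
  have sqU : IsPullback (h.fiberι (b v')) (h.fiberToSpecResidueField (b v')) h
      (V.fromSpecResidueField (b v')) := IsPullback.of_hasPullback _ _
  have hw : ((pullback.snd h b).fiberι v' ≫ pullback.fst h b) ≫ h =
      ((pullback.snd h b).fiberToSpecResidueField v' ≫ Spec.map (b.residueFieldMap v')) ≫
        V.fromSpecResidueField (b v') := by
    simpa using sqP.w
  let ν : (pullback.snd h b).fiber v' ⟶ h.fiber (b v') := sqU.lift _ _ hw
  have sqν : IsPullback ν ((pullback.snd h b).fiberToSpecResidueField v')
      (h.fiberToSpecResidueField (b v')) (Spec.map (b.residueFieldMap v')) := by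
    refine IsPullback.of_right ?_ (sqU.lift_snd _ _ _) sqU
    rw [sqU.lift_fst]
    exact sqP
  have hν : Etale ν :=
    MorphismProperty.of_isPullback sqν.flip (etale_specMap_residueFieldMap b v')
  have : φ = μ ≫ ν := by
    apply sqU.hom_ext
    · rw [hφ1, Category.assoc, sqU.lift_fst, sqF.lift_fst_assoc, Category.assoc, hm1]
    · rw [hφ2, Category.assoc, sqU.lift_snd, sqF.lift_snd_assoc]
  rw [this]
  exact inferInstance

theorem trdeg_eq {U U' V V' : Scheme.{u}} (h : U ⟶ V) (h' : U' ⟶ V') (a : U' ⟶ U)
    (b : V' ⟶ V) [Etale a] [Etale b] (comm : h' ≫ b = a ≫ h) (u' : U') :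
    @Algebra.trdeg (V.residueField (h (a u'))) (U.residueField (a u')) _ _
        (h.residueFieldMap (a u')).hom.toAlgebra =
      @Algebra.trdeg (V'.residueField (h' u')) (U'.residueField u') _ _
        (h'.residueFieldMap u').hom.toAlgebra := by
  have hv : b (h' u') = h (a u') := by rw [← Scheme.Hom.comp_apply, comm, Scheme.Hom.comp_apply]
  let c := (V.residueFieldCongr hv.symm).hom ≫ b.residueFieldMap (h' u')
  have key : h.residueFieldMap (a u') ≫ a.residueFieldMap u' = c ≫ h'.residueFieldMap u' := by
    rw [← Scheme.residueFieldMap_comp, Category.assoc, ← Scheme.residueFieldMap_comp,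
      Scheme.Hom.residueFieldMap_congr comm.symm u']
    rfl
  let K := V.residueField (h (a u'))
  let L := U.residueField (a u')
  let K' := V'.residueField (h' u')
  let L' := U'.residueField u'
  let := (h.residueFieldMap (a u')).hom.toAlgebra
  let := (h'.residueFieldMap u').hom.toAlgebra
  let := (a.residueFieldMap u').hom.toAlgebra
  let := c.hom.toAlgebra
  let : Algebra K L' := (c ≫ h'.residueFieldMap u').hom.toAlgebra
  have : IsScalarTower K L L' := IsScalarTower.of_algebraMap_eq fun r => by
    exact (congrArg (fun φ => φ.hom r) key).symm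
  have : IsScalarTower K K' L' := IsScalarTower.of_algebraMap_eq fun r => rfl
  have hc : c.hom.Finite := by
    rw [CommRingCat.hom_comp]
    exact (finite_residueFieldMap b (h' u')).comp
      (RingHom.Finite.of_surjective _ (V.residueFieldCongr hv.symm).commRingCatIsoToRingEquiv.surjective)
  have : Module.Finite K K' := hc
  have : Module.Finite L L' := finite_residueFieldMap a u'
  have h1 := trdeg_add_eq K L (A := L')
  have h2 := trdeg_add_eq K K' (A := L')
  rw [trdeg_eq_zero (R := L) (A := L'), add_zero] at h1
  rw [trdeg_eq_zero (R := K) (A := K'), zero_add] at h2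
  exact h1.trans h2.symm

theorem discrete_fibre [Etale f] {a b : X} (hs : a ⤳ b) (he : f a = f b) : a = b := by
  have := FlatMor66.lqf_of_etale f
  have : DiscreteTopology (f ⁻¹' {f b} : Set X) := (f.isDiscrete_preimage_singleton (f b)).to_subtype
  have h : (⟨a, he⟩ : (f ⁻¹' {f b} : Set X)) ⤳ ⟨b, rfl⟩ := (subtype_specializes_iff _ _).mpr hs
  exact congrArg Subtype.val h.eq

attribute [local instance] specializationOrder
attribute [-instance] Subtype.preorder Subtype.partialOrder Subtype.instLinearOrder Subtype.instLT Subtype.instLE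

theorem topologicalKrullDim_eq_points (T : Type u) [TopologicalSpace T] [QuasiSober T] [T0Space T] :
    topologicalKrullDim T = Order.krullDim T :=
  Order.krullDim_eq_of_orderIso (irreducibleSetEquivPoints (α := T))

/-- An étale morphism preserves the dimension of opens. -/
theorem dim_image [Etale f] (W : X.Opens) :
    topologicalKrullDim ((W : Set X)) = topologicalKrullDim (f '' (W : Set X) : Set Y) := by
  have hopen : IsOpen (f '' (W : Set X)) := f.isOpenMap _ W.2
  have : QuasiSober (W : Set X) := W.2.isOpenEmbedding_subtypeVal.quasiSober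
  have : QuasiSober (f '' (W : Set X) : Set Y) := hopen.isOpenEmbedding_subtypeVal.quasiSober
  rw [topologicalKrullDim_eq_points, topologicalKrullDim_eq_points]
  refine le_antisymm (Order.krullDim_le_of_strictMono
    (fun p : (W : Set X) => (⟨f p, p.1, p.2, rfl⟩ : (f '' (W : Set X) : Set Y))) ?_)
    (iSup_le fun l => ?_)
  · intro p q hpq
    have h1 : (q : X) ⤳ p := (subtype_specializes_iff q p).mp hpq.le
    refine lt_of_le_of_ne ((subtype_specializes_iff _ _).mpr (h1.map f.continuous)) fun h => ?_
    exact hpq.ne (Subtype.ext (discrete_fibre f h1 (congrArg Subtype.val h).symm).symm)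
  · suffices key : ∀ (n : ℕ) (l : LTSeries (f '' (W : Set X) : Set Y)), l.length = n →
        ∀ x : (W : Set X), f x.1 = l.head.1 →
        ∃ L : LTSeries (W : Set X), L.length = n ∧ L.head = x by
      obtain ⟨x, hx, hxe⟩ := l.head.2
      obtain ⟨L, hL, -⟩ := key l.length l rfl ⟨x, hx⟩ hxe
      rw [← hL]
      exact Order.LTSeries.length_le_krullDim L
    intro n
    induction n with
    | zero => exact fun l hl x hx => ⟨RelSeries.singleton _ x, rfl, rfl⟩
    | succ n ih =>
      intro l hl x hx
      have hl0 : l.length ≠ 0 := by omega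
      have hlt : l.head < (RelSeries.tail l hl0).head := by
        rw [RelSeries.head_tail]
        have : NeZero l.length := ⟨hl0⟩
        refine l.strictMono ?_
        simp
      obtain ⟨x₁, hsp, hx₁⟩ := Flat.generalizingMap f
        (show (RelSeries.tail l hl0).head.1 ⤳ f x.1 by
          rw [hx]
          exact (subtype_specializes_iff _ _).mp hlt.le)
      obtain ⟨L, hL, hLh⟩ := ih (RelSeries.tail l hl0)
        (by simp only [RelSeries.tail_length]; omega) ⟨x₁, hsp.mem_open W.2 x.2⟩ hx₁
      refine ⟨RelSeries.cons L x ?_, (RelSeries.cons_length L x _).trans (by rw [hL]), RelSeries.head_cons _ _ _⟩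
      simp only [Set.mem_setOf_eq]
      rw [hLh]
      refine lt_of_le_of_ne ((subtype_specializes_iff _ _).mpr hsp) fun he => hlt.ne (Subtype.ext ?_)
      rw [← hx, ← hx₁, he]

theorem localDim_eq [Etale f] (x : X) : FlatMor.localDim X x = FlatMor.localDim Y (f x) := by
  refine le_antisymm (le_iInf fun V => ?_) (le_iInf fun U => ?_)
  · refine (iInf_le _ ⟨f ⁻¹ᵁ V.1, V.2⟩).trans ?_
    exact (dim_image f (f ⁻¹ᵁ V.1)).trans_le (TopDim50.dim_mono (Set.image_preimage_subset f _))
  · exact (iInf_le _ ⟨⟨f '' (U.1 : Set X), f.isOpenMap _ U.1.2⟩, x, U.2, rfl⟩).trans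
      (dim_image f U.1).ge

theorem fibreDimAt_eq {U U' V V' : Scheme.{u}} (h : U ⟶ V) (h' : U' ⟶ V') (a : U' ⟶ U)
    (b : V' ⟶ V) [Etale a] [Etale b] (comm : h' ≫ b = a ≫ h) (u' : U') :
    FlatMor.fibreDimAt h (a u') = FlatMor.fibreDimAt h' u' := by
  have hv : b (h' u') = h (a u') := by rw [← Scheme.Hom.comp_apply, comm, Scheme.Hom.comp_apply]
  have sqU : IsPullback (h.fiberι (b (h' u'))) (h.fiberToSpecResidueField (b (h' u'))) h
      (V.fromSpecResidueField (b (h' u'))) := IsPullback.of_hasPullback _ _
  have hw : (h'.fiberι (h' u') ≫ a) ≫ h = (h'.fiberToSpecResidueField (h' u') ≫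
      Spec.map (b.residueFieldMap (h' u'))) ≫ V.fromSpecResidueField (b (h' u')) := by
    rw [Category.assoc, ← comm, Category.assoc, Scheme.Hom.SpecMap_residueFieldMap_fromSpecResidueField,
      ← Category.assoc, ← Category.assoc]
    congr 1
    exact (IsPullback.of_hasPullback h' (V'.fromSpecResidueField (h' u'))).w
  let φ := sqU.lift _ _ hw
  have : Etale φ := etale_fiberMap h h' a b comm (h' u') φ (sqU.lift_fst _ _ _) (sqU.lift_snd _ _ _)
  have key : ∀ (v : V) (hv : v = h (a u')) (y : h.fiber v) (hy : h.fiberι v y = a u'),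
      FlatMor.localDim (h.fiber v) y = FlatMor.fibreDimAt h (a u') := by
    intro v hv y hy
    subst hv
    have : y = h.asFiber (a u') :=
      (h.fiberι (h (a u'))).isEmbedding.injective (hy.trans (h.fiberι_asFiber _).symm)
    rw [this]
    rfl
  rw [← key _ hv (φ (h'.asFiber u'))]
  · exact (localDim_eq φ (h'.asFiber u')).symm
  · show (φ ≫ h.fiberι _) (h'.asFiber u') = a u'
    rw [sqU.lift_fst, Scheme.Hom.comp_apply, h'.fiberι_asFiber]

end Groth.Agent.Desc59.EtaleDim
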