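import Groth.Agent.Desc59.ModPFBridge
import Groth.Agent.FlatMor68.PullbackDescent

/-!
Descent of morphisms of quasi-coherent modules along fpqc families.
-/

set_option autoImplicit false
set_option backward.isDefEq.respectTransparency false
set_option backward.isDefEq.respectTransparency.types false
set_option backward.defeqAttrib.useBackward true

noncomputable section

universe u

open CategoryTheory AlgebraicGeometry Opposite TopologicalSpace
open Groth.Agent.QC70 Groth.Agent.QCPull72 Groth.Agent.LimTop61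

namespace Groth.Agent.Desc59.QCohFF

variable {ι : Type u} {S : Scheme.{u}} {X : ι → Scheme.{u}} (f : ∀ i, X i ⟶ S)

/-- transition sections are natural in the module -/
theorem tr_map {W P : Scheme.{u}} {g : W ⟶ S} {T : Scheme.{u}} {a : T ⟶ W} {h : T ⟶ S} (ea : a ≫ g = h)
    {M N : S.Modules} (φ : (Scheme.Modules.pullback g).obj M ⟶ (Scheme.Modules.pullback g).obj N)
    {V : W.Opens} {O : T.Opens} (hO : O ≤ a ⁻¹ᵁ V) (y : Γ((Scheme.Modules.pullback g).obj M, V)) :
    QSheaf.tr ea N hO (φ.app V y) =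
      ((pullbackCompIso g a ea).inv.app M ≫ (Scheme.Modules.pullback a).map φ ≫
        (pullbackCompIso g a ea).hom.app N).app O (QSheaf.tr ea M hO y) := by
  have h1 : unitSec a ((Scheme.Modules.pullback g).obj N) hO (φ.app V y) =
      ((Scheme.Modules.pullback a).map φ).app O (unitSec a ((Scheme.Modules.pullback g).obj M) hO y) := by
    rw [unitSec, unitSec, app_res]
    exact congrArg _ (congr(Scheme.Modules.Hom.app $((Scheme.Modules.pullbackPushforwardAdjunction a).unit.naturality φ) V y))
  show ((pullbackCompIso g a ea).hom.app N).app O _ =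
    ((pullbackCompIso g a ea).hom.app N).app O (((Scheme.Modules.pullback a).map φ).app O
      (((pullbackCompIso g a ea).inv.app M).app O (((pullbackCompIso g a ea).hom.app M).app O _)))
  rw [h1]
  refine congrArg _ (congrArg _ ?_)
  exact (congr(Scheme.Modules.Hom.app $((pullbackCompIso g a ea).hom_inv_id_app M) O
    (unitSec a ((Scheme.Modules.pullback g).obj M) hO y))).symm

/-- reshuffling of a commutation relation -/
theorem comm_aux {C : Type*} [Category C] {A₁ A₂ A₃ B₁ B₂ B₃ : C} (e₁ : A₁ ≅ A₂) (e₂ : A₃ ≅ A₂)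
    (e₃ : B₁ ≅ B₂) (e₄ : B₃ ≅ B₂) (P : A₁ ⟶ B₁) (Q : A₃ ⟶ B₃)
    (h : P ≫ (e₃.hom ≫ e₄.inv) = (e₁.hom ≫ e₂.inv) ≫ Q) :
    e₁.inv ≫ P ≫ e₃.hom = e₂.inv ≫ Q ≫ e₄.hom := by
  calc e₁.inv ≫ P ≫ e₃.hom = e₁.inv ≫ (P ≫ (e₃.hom ≫ e₄.inv)) ≫ e₄.hom := by simp
    _ = _ := by rw [h]; simp

theorem comm_pci {M N : S.Modules}
    (Φ : (Desc.modPF.{u}.toDescentData f).obj M ⟶ (Desc.modPF.{u}.toDescentData f).obj N)
    (i j : ι) {T : Scheme.{u}} (a : T ⟶ X i) (b : T ⟶ X j) {h : T ⟶ S} (ea : a ≫ f i = h) (eb : b ≫ f j = h) :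
    (pullbackCompIso (f i) a ea).inv.app M ≫ (Scheme.Modules.pullback a).map (Φ.hom i) ≫
        (pullbackCompIso (f i) a ea).hom.app N =
      (pullbackCompIso (f j) b eb).inv.app M ≫ (Scheme.Modules.pullback b).map (Φ.hom j) ≫
        (pullbackCompIso (f j) b eb).hom.app N := by
  have h0 := Φ.comm h a b ea eb
  dsimp only [Pseudofunctor.toDescentData, Pseudofunctor.DescentData.ofObj] at h0
  rw [ModPFBridge.mapComp'_inv_app (f i) a ea N, ModPFBridge.mapComp'_hom_app (f j) b eb N,
    ModPFBridge.mapComp'_inv_app (f i) a ea M, ModPFBridge.mapComp'_hom_app (f j) b eb M] at h0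
  exact comm_aux ((pullbackCompIso (f i) a ea).app M) ((pullbackCompIso (f j) b eb).app M)
    ((pullbackCompIso (f i) a ea).app N) ((pullbackCompIso (f j) b eb).app N) _ _ h0

variable [QuasiCompactCover (⟨ι, X, f⟩ : PreZeroHypercover.{u} S)] [∀ i, Flat (f i)]

theorem bijective_map (M N : S.Modules) [N.IsQuasicoherent] :
    Function.Bijective ((Desc.modPF.{u}.toDescentData f).map : (M ⟶ N) → _) := by
  constructor
  · intro (φ : M ⟶ N) (φ' : M ⟶ N) e
    refine (sub_eq_zero (a := φ) (b := φ')).mp ((FlatMor68.PullbackDescent.zero_iff (φ - φ')).mpr fun x z => ?_)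
    obtain ⟨i, y, rfl⟩ := QSheaf.exists_point f x
    obtain ⟨U, hU, s, rfl⟩ := germM_exist z
    rw [stalkMapM_germ]
    have hi : (Scheme.Modules.pullback (f i)).map φ = (Scheme.Modules.pullback (f i)).map φ' :=
      congrArg (fun Φ => Pseudofunctor.DescentData.Hom.hom Φ i) e
    refine AmpleDesc.pullη_injective (f i) y ?_
    rw [map_zero]
    have h1 := QCohDesc.pullη_natural (f i) φ y (germM M U (f i y) hU s)
    have h2 := QCohDesc.pullη_natural (f i) φ' y (germM M U (f i y) hU s)
    rw [stalkMapM_germ] at h1 h2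
    rw [show (φ - φ').app U s = φ.app U s - φ'.app U s from rfl,
      show germM N U (f i y) hU (φ.app U s - φ'.app U s) =
        germM N U (f i y) hU (φ.app U s) - germM N U (f i y) hU (φ'.app U s) from map_sub _ _ _,
      map_sub, ← h1, ← h2, hi, sub_self]
  · intro Φ
    let φ : ∀ i, (Scheme.Modules.pullback (f i)).obj M ⟶ (Scheme.Modules.pullback (f i)).obj N := Φ.hom
    let y : ∀ (U : S.Opens) (m : Γ(M, U)) (i : ι), Γ((Scheme.Modules.pullback (f i)).obj N, f i ⁻¹ᵁ U) :=
      fun U m i => (φ i).app _ (unitSec (f i) M (le_refl (f i ⁻¹ᵁ U)) m)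
    have hψ : ∀ i j (T : Scheme.{u}) (a : T ⟶ X i) (b : T ⟶ X j) (h : T ⟶ S) (ea : a ≫ f i = h) (eb : b ≫ f j = h),
        (pullbackCompIso (f i) a ea).inv.app M ≫ (Scheme.Modules.pullback a).map (φ i) ≫
            (pullbackCompIso (f i) a ea).hom.app N =
          (pullbackCompIso (f j) b eb).inv.app M ≫ (Scheme.Modules.pullback b).map (φ j) ≫
            (pullbackCompIso (f j) b eb).hom.app N := fun i j T a b h ea eb => comm_pci f Φ i j a b ea eb
    have hn : ∀ (U : S.Opens) (m : Γ(M, U)), ∃! n : Γ(N, U), ∀ i, unitSec (f i) N (le_refl (f i ⁻¹ᵁ U)) n = y U m i :=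
      fun U m => QSheaf.existsUnique_descend f N U (y U m) fun i j T a b h ea eb => by
        have hO : h ⁻¹ᵁ U ≤ h ⁻¹ᵁ U := le_rfl
        rw [tr_map (P := S) ea, tr_map (P := S) eb, hψ i j T a b h ea eb,
          QSheaf.tr_unitSec ea M (le_refl _) (preimage_comp_le (f i) a ea U) hO,
          QSheaf.tr_unitSec eb M (le_refl _) (preimage_comp_le (f j) b eb U) hO]
    choose n hn huniq using hn
    have hadd : ∀ U m m', n U (m + m') = n U m + n U m' := fun U m m' => by
      refine (huniq U (m + m') _ fun i => ?_).symm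
      rw [unitSec_add, hn, hn]
      show _ = (φ i).app _ (unitSec (f i) M _ (m + m'))
      rw [unitSec_add, map_add]
    have hsmul : ∀ U (r : Γ(S, U)) m, n U (r • m) = r • n U m := fun U r m => by
      refine (huniq U (r • m) _ fun i => ?_).symm
      rw [unitSec_smul, hn]
      show _ = (φ i).app _ (unitSec (f i) M _ (r • m))
      rw [unitSec_smul, Scheme.Modules.Hom.app_smul]
    have hnat : ∀ (U V : S.Opens) (hVU : V ≤ U) m, n V (res M hVU m) = res N hVU (n U m) := fun U V hVU m => by
      refine (huniq V (res M hVU m) _ fun i => ?_).symm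
      rw [unitSec_res (f i) N (le_refl _) (le_refl _) hVU ((f i).preimage_mono hVU), hn]
      show _ = (φ i).app _ (unitSec (f i) M _ (res M hVU m))
      rw [unitSec_res (f i) M (le_refl _) (le_refl _) hVU ((f i).preimage_mono hVU), app_res]
    let ψ : M ⟶ N :=
      ⟨PresheafOfModules.homMk (M₁ := M.val) (M₂ := N.val)
        { app := fun U => AddCommGrpCat.ofHom (AddMonoidHom.mk' (n U.unop) (hadd U.unop))
          naturality := fun U V k => by
            ext m
            exact hnat U.unop V.unop k.unop.le m }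
        fun U r m => hsmul U.unop r m⟩
    refine ⟨ψ, Pseudofunctor.DescentData.hom_ext fun i => ?_⟩
    show (Scheme.Modules.pullback (f i)).map ψ = φ i
    apply ((Scheme.Modules.pullbackPushforwardAdjunction (f i)).homEquiv _ _).injective
    refine Scheme.Modules.hom_ext _ _ fun U => ?_
    ext m
    rw [Adjunction.homEquiv_unit, Adjunction.homEquiv_unit]
    have h1 := congr(Scheme.Modules.Hom.app $((Scheme.Modules.pullbackPushforwardAdjunction (f i)).unit.naturality ψ) U m)
    refine h1.symm.trans ?_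
    have h2 := hn U m i
    simp only [y, unitSec, res_self] at h2
    exact h2

end Groth.Agent.Desc59.QCohFF
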