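import Groth.Agent.Unr55.SmoothStalkCor

/-!
Local rings of smooth algebras: normality and regularity, ring-theoretic form of `Unr55.SmoothStalkCor`.
-/

set_option autoImplicit false
universe u

open AlgebraicGeometry CategoryTheory

namespace Groth.Agent.Desc59.SmoothRing

variable (A B : Type u) [CommRing A] [CommRing B] [Algebra A B] [Algebra.Smooth A B]

noncomputable def stalkEquiv (R : Type u) [CommRing R] (p : PrimeSpectrum R) :
    (Spec (CommRingCat.of R)).presheaf.stalk p ≃+* Localization.AtPrime p.asIdeal :=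
  (Spec.stalkIso (CommRingCat.of R) p).commRingCatIsoToRingEquiv

theorem smooth_specMap : Smooth (Spec.map (CommRingCat.ofHom (algebraMap A B))) := by
  rw [HasRingHomProperty.Spec_iff (P := @Smooth)]
  exact (RingHom.smooth_algebraMap).mpr inferInstance

theorem smooth_at (q : PrimeSpectrum B) :
    ((Spec.map (CommRingCat.ofHom (algebraMap A B))).stalkMap q).hom.FormallySmooth := by
  have := smooth_specMap A B
  exact Scheme.Hom.mem_smoothLocus.mp ((Scheme.Hom.smoothLocus_eq_top _).ge (Set.mem_univ q))

theorem normal_iff (q : Ideal B) [q.IsPrime] :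
    (IsDomain (Localization.AtPrime q) ∧ IsIntegrallyClosed (Localization.AtPrime q)) ↔
      (IsDomain (Localization.AtPrime (q.under A)) ∧
        IsIntegrallyClosed (Localization.AtPrime (q.under A))) := by
  have := smooth_specMap A B
  have key := Unr55.isNormalDomain_stalk_iff_of_smooth
    (Spec.map (CommRingCat.ofHom (algebraMap A B))) (⟨q, inferInstance⟩ : PrimeSpectrum B)
    (smooth_at A B _)
  let eB := stalkEquiv B ⟨q, inferInstance⟩
  let eA := stalkEquiv A (Spec.map (CommRingCat.ofHom (algebraMap A B)) (⟨q, inferInstance⟩ : PrimeSpectrum B))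
  constructor
  · rintro ⟨_, _⟩
    obtain ⟨_, _⟩ := key.mp ⟨eB.toMulEquiv.isDomain _, IsIntegrallyClosed.of_equiv eB.symm⟩
    exact ⟨eA.symm.toMulEquiv.isDomain _, IsIntegrallyClosed.of_equiv eA⟩
  · rintro ⟨h1, h2⟩
    have : IsDomain ((Spec (CommRingCat.of A)).presheaf.stalk
        (Spec.map (CommRingCat.ofHom (algebraMap A B)) (⟨q, inferInstance⟩ : PrimeSpectrum B))) :=
      eA.toMulEquiv.isDomain (B := Localization.AtPrime (q.under A))
    obtain ⟨_, _⟩ := key.mpr ⟨this,
      IsIntegrallyClosed.of_equiv (R := Localization.AtPrime (q.under A)) eA.symm⟩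
    exact ⟨eB.symm.toMulEquiv.isDomain _, IsIntegrallyClosed.of_equiv eB⟩

theorem regular_iff [IsNoetherianRing A] (q : Ideal B) [q.IsPrime] :
    IsRegularLocalRing (Localization.AtPrime q) ↔
      IsRegularLocalRing (Localization.AtPrime (q.under A)) := by
  have := smooth_specMap A B
  have key := Unr55.isRegularLocalRing_stalk_iff_of_smooth
    (Spec.map (CommRingCat.ofHom (algebraMap A B))) (⟨q, inferInstance⟩ : PrimeSpectrum B)
    (smooth_at A B _)
  let eB := stalkEquiv B ⟨q, inferInstance⟩
  let eA := stalkEquiv A (Spec.map (CommRingCat.ofHom (algebraMap A B)) (⟨q, inferInstance⟩ : PrimeSpectrum B))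
  constructor
  · intro h
    have := key.mp (IsRegularLocalRing.of_ringEquiv eB.symm)
    exact IsRegularLocalRing.of_ringEquiv eA
  · intro h
    have h' : IsRegularLocalRing ((Spec (CommRingCat.of A)).presheaf.stalk
        (Spec.map (CommRingCat.ofHom (algebraMap A B)) (⟨q, inferInstance⟩ : PrimeSpectrum B))) :=
      IsRegularLocalRing.of_ringEquiv (R := Localization.AtPrime (q.under A)) eA.symm
    have := key.mpr h'
    exact IsRegularLocalRing.of_ringEquiv eB

end Groth.Agent.Desc59.SmoothRing
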