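import Groth.Agent.Desc59.DDOpen

/-!
Descent data from a gluing morphism `X ×_S V ⟶ V`; restriction to saturated opens;
quotients from open immersions into a base change.
-/

set_option backward.isDefEq.respectTransparency false

universe u

open CategoryTheory CategoryTheory.Limits AlgebraicGeometry

namespace Groth.Agent.Desc59

open Desc

variable {X S : Scheme.{u}} {p : X ⟶ S}

section ofθ

variable (V : Over X) (t : pullback p (V.hom ≫ p) ⟶ V.left)
  (ht : t ≫ V.hom = pullback.fst p (V.hom ≫ p))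
  (hd : pullback.lift V.hom (𝟙 V.left) (by simp) ≫ t = 𝟙 V.left)
  (hc : ∀ {T : Scheme.{u}} (v : T ⟶ V.left) (x₁ x₂ : T ⟶ X) (h₁ : x₁ ≫ p = v ≫ V.hom ≫ p)
    (h₂ : x₂ ≫ p = v ≫ V.hom ≫ p),
    pullback.lift x₂ (pullback.lift x₁ v h₁ ≫ t)
        (by rw [Category.assoc, reassoc_of% ht, pullback.lift_fst_assoc, h₁, h₂]) ≫ t =
      pullback.lift x₂ v h₂ ≫ t)

/-- A descent datum from its gluing morphism. -/
noncomputable def ofθ : SchDD p where
  obj := V
  φ T x₀ x₁ h :=
    { toFun := fun v => ⟨pullback.lift x₁ v.1 (by rw [← Category.assoc, v.2, h]) ≫ t,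
        by rw [Category.assoc, ht, pullback.lift_fst]⟩
      invFun := fun v => ⟨pullback.lift x₀ v.1 (by rw [← Category.assoc, v.2, h]) ≫ t,
        by rw [Category.assoc, ht, pullback.lift_fst]⟩
      left_inv := fun v => by
        obtain ⟨v, rfl⟩ := v
        apply Subtype.ext
        refine (hc v x₁ (v ≫ V.hom) (by rw [← h, Category.assoc]) (Category.assoc _ _ _)).trans ?_
        have e : pullback.lift (f := p) (g := V.hom ≫ p) (v ≫ V.hom) v (Category.assoc _ _ _) =
            v ≫ pullback.lift V.hom (𝟙 V.left) (by simp) := by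
          apply pullback.hom_ext <;> simp
        rw [e, Category.assoc, hd, Category.comp_id]
      right_inv := fun v => by
        obtain ⟨v, rfl⟩ := v
        apply Subtype.ext
        refine (hc v x₀ (v ≫ V.hom) (by rw [h, Category.assoc]) (Category.assoc _ _ _)).trans ?_
        have e : pullback.lift (f := p) (g := V.hom ≫ p) (v ≫ V.hom) v (Category.assoc _ _ _) =
            v ≫ pullback.lift V.hom (𝟙 V.left) (by simp) := by
          apply pullback.hom_ext <;> simp
        rw [e, Category.assoc, hd, Category.comp_id] }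
  φ_natural T T' g x₀ x₁ h h' v v' hv := by
    simp only [Equiv.coe_fn_mk]
    refine Eq.trans (congrArg (· ≫ t) ?_) (Category.assoc _ _ _)
    apply pullback.hom_ext <;> simp [hv]
  φ_self T x v := by
    obtain ⟨v, rfl⟩ := v
    apply Subtype.ext
    simp only [Equiv.coe_fn_mk]
    have e : pullback.lift (f := p) (g := V.hom ≫ p) (v ≫ V.hom) v (Category.assoc _ _ _) =
        v ≫ pullback.lift V.hom (𝟙 V.left) (by simp) := by
      apply pullback.hom_ext <;> simp
    rw [e, Category.assoc, hd, Category.comp_id]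
  φ_comp T x₀ x₁ x₂ h₀₁ h₁₂ v := by
    obtain ⟨v, rfl⟩ := v
    apply Subtype.ext
    exact hc v x₁ x₂ (by rw [← h₀₁, Category.assoc]) (by rw [← h₁₂, ← h₀₁, Category.assoc])

lemma ofθ_obj : (ofθ V t ht hd hc).obj = V := rfl

lemma θ_ofθ : θ (ofθ V t ht hd hc) = t := by
  show pullback.lift (pullback.fst p (V.hom ≫ p)) (pullback.snd p (V.hom ≫ p)) _ ≫ t = t
  have e : pullback.lift (f := p) (g := V.hom ≫ p) (pullback.fst p (V.hom ≫ p))
      (pullback.snd p (V.hom ≫ p)) pullback.condition = 𝟙 _ := by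
    apply pullback.hom_ext <;> simp
  exact (congrArg (· ≫ t) e).trans (Category.id_comp t)

end ofθ

section restrict

variable (D : SchDD p) {O : D.obj.left.Opens}

/-- The inclusion on sources of a saturated open. -/
noncomputable def srcι (O : D.obj.left.Opens) :
    pullback p ((O.ι ≫ D.obj.hom) ≫ p) ⟶ src D :=
  pullback.map p ((O.ι ≫ D.obj.hom) ≫ p) p (D.obj.hom ≫ p) (𝟙 X) O.ι (𝟙 S)
    (by simp) (by simp)

lemma range_srcι_θ (hO : IsSat D O) : Set.range (srcι D O ≫ θ D) ⊆ Set.range O.ι := by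
  rw [Scheme.Opens.range_ι, hO.range_iff]
  rintro _ ⟨z, rfl⟩
  rw [show srcι D O ≫ pullback.snd p (D.obj.hom ≫ p) = pullback.snd _ _ ≫ O.ι from
    pullback.lift_snd _ _ _, Scheme.Hom.comp_apply]
  exact (pullback.snd p ((O.ι ≫ D.obj.hom) ≫ p) z).2

/-- The gluing morphism of a saturated open. -/
noncomputable def restrictθ (hO : IsSat D O) :
    pullback p ((O.ι ≫ D.obj.hom) ≫ p) ⟶ O.toScheme :=
  IsOpenImmersion.lift O.ι (srcι D O ≫ θ D) (range_srcι_θ D hO)

@[reassoc (attr := simp)]
lemma restrictθ_ι (hO : IsSat D O) : restrictθ D hO ≫ O.ι = srcι D O ≫ θ D :=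
  IsOpenImmersion.lift_fac _ _ _

/-- Restriction of a descent datum to a saturated open. -/
noncomputable def restrictDD (hO : IsSat D O) : SchDD p :=
  ofθ (Over.mk (O.ι ≫ D.obj.hom)) (restrictθ D hO)
    (by
      show restrictθ D hO ≫ O.ι ≫ D.obj.hom = pullback.fst p ((O.ι ≫ D.obj.hom) ≫ p)
      rw [restrictθ_ι_assoc, θ_hom]
      simp [srcι])
    (by
      dsimp
      rw [← cancel_mono O.ι, Category.assoc, restrictθ_ι]
      have e : pullback.lift (f := p) (g := (O.ι ≫ D.obj.hom) ≫ p) (O.ι ≫ D.obj.hom) (𝟙 _) (by simp)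
          ≫ srcι D O = O.ι ≫ pullback.lift D.obj.hom (𝟙 D.obj.left) (by simp) := by
        apply pullback.hom_ext
        · simp [srcι]
        · simp [srcι]
          exact Category.id_comp O.ι
      exact ((reassoc_of% e) (θ D)).trans
        ((congrArg (O.ι ≫ ·) (diag_θ D)).trans ((Category.comp_id _).trans (Category.id_comp _).symm)))
    (fun {T} v x₁ x₂ h₁ h₂ => by
      dsimp at v h₁ h₂ ⊢
      have e1 : ∀ (x : T ⟶ X) (w : T ⟶ O.toScheme) (h : x ≫ p = w ≫ (O.ι ≫ D.obj.hom) ≫ p),
          (pullback.lift x w h ≫ restrictθ D hO) ≫ O.ι =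
            pullback.lift x (w ≫ O.ι) (by simpa using h) ≫ θ D := fun x w h => by
        refine (Category.assoc _ _ _).trans ((congrArg (pullback.lift x w h ≫ ·)
          (restrictθ_ι D hO)).trans ?_)
        refine (Category.assoc _ _ _).symm.trans (congrArg (· ≫ θ D) ?_)
        apply pullback.hom_ext <;> simp [srcι]
      refine (cancel_mono O.ι).mp ?_
      refine (e1 x₂ _ _).trans (Eq.trans ?_ (e1 x₂ v h₂).symm)
      refine Eq.trans (congrArg (· ≫ θ D) ?_)
        (lift_θ_trans D (v ≫ O.ι) x₁ x₂ (by simpa using h₁) (by simpa using h₂))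
      apply pullback.hom_ext
      · simp
      · simp [e1 x₁ v h₁])

/-- The inclusion of the restriction. -/
noncomputable def restrictDDι (hO : IsSat D O) : restrictDD D hO ⟶ D :=
  ⟨Over.homMk O.ι rfl, fun T x₀ x₁ h v w hw => by
    obtain ⟨w, hw'⟩ := w
    simp only [Over.homMk_left] at hw ⊢
    subst hw
    rw [φ_eq]
    show _ = (pullback.lift x₁ v.1 _ ≫ restrictθ D hO) ≫ O.ι
    refine Eq.trans ?_ (Category.assoc _ _ _).symm
    refine Eq.trans ?_ (congrArg (_ ≫ ·) (restrictθ_ι D hO)).symm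
    refine Eq.trans (congrArg (· ≫ θ D) ?_) (Category.assoc _ _ _)
    apply pullback.hom_ext
    · simp [srcι]
    · simp [srcι]⟩

instance (hO : IsSat D O) : IsOpenImmersion (restrictDDι D hO).hom.left :=
  inferInstanceAs (IsOpenImmersion O.ι)

lemma opensRange_restrictDDι (hO : IsSat D O) : (restrictDDι D hO).hom.left.opensRange = O :=
  O.opensRange_ι

end restrict

/-- An invariant map to `U₀` whose induced map to `X ×_S U₀` is an open immersion gives a quotient. -/
theorem exists_isQuot_of_isOpenImmersion [Flat p] [Surjective p] [QuasiCompact p] (D : SchDD p)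
    (U₀ : Over S) (π₀ : D.obj.left ⟶ U₀.left) (hw : π₀ ≫ U₀.hom = D.obj.hom ≫ p)
    (hinv : IsInvariant D π₀)
    [IsOpenImmersion (pullback.lift D.obj.hom π₀ hw.symm : D.obj.left ⟶ pullback p U₀.hom)] :
    ∃ (U : Over S) (π : D.obj.left ⟶ U.left), IsQuot D U π := by
  let ι : D.obj.left ⟶ pullback p U₀.hom := pullback.lift D.obj.hom π₀ hw.symm
  let pr := pullback.snd p U₀.hom
  have : Flat pr := inferInstanceAs (Flat (pullback.snd p U₀.hom))
  have : Surjective pr := inferInstanceAs (Surjective (pullback.snd p U₀.hom))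
  have : QuasiCompact pr := inferInstanceAs (QuasiCompact (pullback.snd p U₀.hom))
  let A := ι.opensRange
  have hpre : pr ⁻¹' (pr '' (A : Set ↑(pullback p U₀.hom))) = A := by
    refine Set.Subset.antisymm ?_ (Set.subset_preimage_image _ _)
    rintro z ⟨o, ⟨v, rfl⟩, e⟩
    have e' : pr z = π₀ v := by
      rw [← e, ← Scheme.Hom.comp_apply]
      simp [ι, pr]
    obtain ⟨t, ht1, ht2⟩ := Scheme.Pullback.exists_preimage_pullback (f := pr) (g := π₀) z v e'
    let k : pullback pr π₀ ⟶ src D :=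
      pullback.lift (pullback.fst pr π₀ ≫ pullback.fst p U₀.hom) (pullback.snd pr π₀) (by
        rw [Category.assoc, pullback.condition, ← hw, ← Category.assoc, pullback.condition,
          Category.assoc])
    have hk : k ≫ θ D ≫ ι = pullback.fst pr π₀ := by
      apply pullback.hom_ext
      · simp [k, ι]
      · simp only [k, ι, Category.assoc, pullback.lift_snd]
        rw [hinv, pullback.lift_snd_assoc, ← pullback.condition]
    refine ⟨(k ≫ θ D) t, ?_⟩
    rw [← Scheme.Hom.comp_apply, Category.assoc, hk, ht1]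
  let Uo : U₀.left.Opens := ⟨pr '' A,
    (Flat.isQuotientMap_of_surjective pr).isOpen_preimage.mp (by rw [hpre]; exact A.2)⟩
  have hA : pr ⁻¹ᵁ Uo = A := TopologicalSpace.Opens.ext hpre
  let e : D.obj.left ≅ (pr ⁻¹ᵁ Uo).toScheme :=
    IsOpenImmersion.isoOfRangeEq ι (pr ⁻¹ᵁ Uo).ι (by rw [hA, Scheme.Opens.range_ι]; rfl)
  have he : e.hom ≫ (pr ⁻¹ᵁ Uo).ι = ι := by simp [e]
  refine ⟨Over.mk (Uo.ι ≫ U₀.hom), e.hom ≫ pr ∣_ Uo, ?_, ?_⟩
  · refine IsPullback.of_iso
      ((isPullback_morphismRestrict pr Uo).paste_vert (IsPullback.of_hasPullback p U₀.hom).flip)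
      e.symm (Iso.refl _) (Iso.refl _) (Iso.refl _) ?_ ?_ ?_ ?_
    · simp
    · simp only [Iso.symm_hom, Iso.refl_hom, Category.comp_id]
      rw [Iso.eq_inv_comp, reassoc_of% he]
      simp [ι]
    · simp
    · simp
  · rw [IsInvariant, ← cancel_mono Uo.ι]
    simp only [Category.assoc, morphismRestrict_ι, reassoc_of% he]
    have e : ι ≫ pr = π₀ := by simp [ι, pr]
    simpa [e, IsInvariant] using hinv

end Groth.Agent.Desc59
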