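import Groth.Prelude.Def_DescFam
import Groth.Agent.Desc59.DDOfTheta
import Mathlib.AlgebraicGeometry.Limits

/-!
Descent data relative to a family and relative to its disjoint union.
-/

set_option backward.isDefEq.respectTransparency false

universe u

open CategoryTheory CategoryTheory.Limits AlgebraicGeometry

namespace Groth.Agent.Desc59

open Desc

namespace Sigma'

variable {ι : Type u} {X : ι → Scheme.{u}}

lemma hom_ext {T Z : Scheme.{u}} (x : T ⟶ ∐ X) {g g' : T ⟶ Z}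
    (h : ∀ (i : ι) {T' : Scheme.{u}} (a : T' ⟶ T) (x' : T' ⟶ X i), a ≫ x = x' ≫ Sigma.ι X i →
      a ≫ g = a ≫ g') : g = g' := by
  refine Scheme.Cover.hom_ext ((sigmaOpenCover X).pullback₁ x) _ _ fun i => ?_
  exact h i _ _ pullback.condition

lemma exists_glue {T Z : Scheme.{u}} (x : T ⟶ ∐ X) (f : ∀ i, pullback x (Sigma.ι X i) ⟶ Z) :
    ∃ g : T ⟶ Z, ∀ i, pullback.fst x (Sigma.ι X i) ≫ g = f i := by
  let 𝒰 := (sigmaOpenCover X).pullback₁ x
  refine ⟨Scheme.Cover.glueMorphisms 𝒰 f ?_, fun i => Scheme.Cover.ι_glueMorphisms 𝒰 _ _ i⟩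
  intro i j
  by_cases hij : i = j
  · subst hij
    have : Mono (pullback.fst x (Sigma.ι X i)) := inferInstance
    congr 1
    exact (cancel_mono (pullback.fst x (Sigma.ι X i))).mp pullback.condition
  · have h : CommSq (pullback.fst (𝒰.f i) (𝒰.f j) ≫ pullback.snd x (Sigma.ι X i))
        (pullback.snd (𝒰.f i) (𝒰.f j) ≫ pullback.snd x (Sigma.ι X j)) (Sigma.ι X i) (Sigma.ι X j) := by
      refine ⟨?_⟩
      simp only [Category.assoc, ← pullback.condition]
      exact (reassoc_of% (pullback.condition (f := 𝒰.f i) (g := 𝒰.f j))) x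
    have := isEmpty_of_commSq_sigmaι_of_ne h hij
    exact isInitialOfIsEmpty.hom_ext _ _

lemma isPullback_map {V : ι → Scheme.{u}} (q : ∀ i, V i ⟶ X i) (i : ι) :
    IsPullback (Sigma.ι V i) (q i) (Limits.Sigma.map q) (Sigma.ι X i) := by
  refine IsPullback.flip ?_
  refine IsOpenImmersion.isPullback _ _ _ _ (by simp [Limits.Sigma.ι_map]) ?_
  apply le_antisymm
  · intro z hz
    obtain ⟨y, hy⟩ := hz
    obtain ⟨⟨j, w⟩, rfl⟩ := (sigmaMk V).surjective z
    rw [sigmaMk_mk, ← Scheme.Hom.comp_apply, Limits.Sigma.ι_map, Scheme.Hom.comp_apply] at hy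
    by_cases hij : i = j
    · subst hij; exact ⟨w, by simp⟩
    · exact absurd (show Sigma.ι X j (q j w) ∈ (⊥ : (∐ X : Scheme.{u}).Opens) from
        disjoint_iff.mp (disjoint_opensRange_sigmaι X i j hij) ▸ ⟨⟨y, hy⟩, ⟨q j w, rfl⟩⟩) (by simp)
  · rintro z ⟨w, rfl⟩
    exact ⟨q i w, by rw [← Scheme.Hom.comp_apply, ← Scheme.Hom.comp_apply, Limits.Sigma.ι_map]⟩

end Sigma'

variable {ι : Type u} {S : Scheme.{u}} {X : ι → Scheme.{u}} (f : ∀ i, X i ⟶ S)

section forward

variable {f} (D : SchDDFam f)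

/-- The disjoint union over the disjoint union. -/
noncomputable def sigmaOver : Over (∐ X) := Over.mk (Limits.Sigma.map fun i => (D.obj i).hom)

@[reassoc]
lemma ι_sigmaOver_desc (j : ι) :
    Sigma.ι (fun i => (D.obj i).left) j ≫ (sigmaOver D).hom ≫ Sigma.desc f = (D.obj j).hom ≫ f j := by
  show Sigma.ι (fun i => (D.obj i).left) j ≫ Limits.Sigma.map (fun i => (D.obj i).hom) ≫ _ = _
  simp

lemma φFam_congr {T : Scheme.{u}} {i j : ι} {x₀ x₀' : T ⟶ X i} {x₁ x₁' : T ⟶ X j} (h0 : x₀ = x₀')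
    (h1 : x₁ = x₁') (h : x₀ ≫ f i = x₁ ≫ f j) (h' : x₀' ≫ f i = x₁' ≫ f j)
    (v : Lifts (D.obj i) x₀) (v' : Lifts (D.obj i) x₀') (hv : v.1 = v'.1) :
    (D.φ x₀ x₁ h v).1 = (D.φ x₀' x₁' h' v').1 := by
  subst h0 h1; rw [Subtype.ext hv]

/-- The transported point. -/
noncomputable def ψ {T : Scheme.{u}} {i j : ι} (x' : T ⟶ X i) (v' : T ⟶ (D.obj j).left)
    (h : x' ≫ f i = v' ≫ (D.obj j).hom ≫ f j) : T ⟶ (D.obj i).left :=
  (D.φ (v' ≫ (D.obj j).hom) x' (by rw [Category.assoc, h]) ⟨v', rfl⟩).1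

lemma ψ_hom {T : Scheme.{u}} {i j : ι} (x' : T ⟶ X i) (v' : T ⟶ (D.obj j).left)
    (h : x' ≫ f i = v' ≫ (D.obj j).hom ≫ f j) : ψ D x' v' h ≫ (D.obj i).hom = x' :=
  (D.φ _ _ _ _).2

lemma comp_ψ {T T' : Scheme.{u}} (g : T' ⟶ T) {i j : ι} (x' : T ⟶ X i) (v' : T ⟶ (D.obj j).left)
    (h : x' ≫ f i = v' ≫ (D.obj j).hom ≫ f j) :
    g ≫ ψ D x' v' h = ψ D (g ≫ x') (g ≫ v') (by simp [h]) :=
  (D.φ_natural g _ _ _ _ _ (Category.assoc _ _ _).symm rfl _ _ _ rfl).symm

lemma ψ_congr {T : Scheme.{u}} {i j : ι} {x' x'' : T ⟶ X i} {v' v'' : T ⟶ (D.obj j).left}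
    (hx : x' = x'') (hv : v' = v'') (h : x' ≫ f i = v' ≫ (D.obj j).hom ≫ f j) :
    ψ D x' v' h = ψ D x'' v'' (hx ▸ hv ▸ h) := by
  subst hx hv; rfl

/-- Characterisation of the gluing morphism on the disjoint union. -/
def IsSigmaAction {T : Scheme.{u}} (x : T ⟶ ∐ X) (v : T ⟶ (sigmaOver D).left)
    (w : T ⟶ (sigmaOver D).left) : Prop :=
  ∀ (i j : ι) {T' : Scheme.{u}} (a : T' ⟶ T) (x' : T' ⟶ X i) (v' : T' ⟶ (D.obj j).left)
    (h : x' ≫ f i = v' ≫ (D.obj j).hom ≫ f j), a ≫ x = x' ≫ Sigma.ι X i →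
      a ≫ v = v' ≫ Sigma.ι (fun i => (D.obj i).left) j →
        a ≫ w = ψ D x' v' h ≫ Sigma.ι (fun i => (D.obj i).left) i

lemma exists_sigmaAction {T : Scheme.{u}} (x : T ⟶ ∐ X) (v : T ⟶ (sigmaOver D).left)
    (h : x ≫ Sigma.desc f = v ≫ (sigmaOver D).hom ≫ Sigma.desc f) :
    ∃ w, IsSigmaAction D x v w := by
  have hinner : ∀ i, ∃ g : pullback x (Sigma.ι X i) ⟶ (sigmaOver D).left,
      ∀ j, ∀ hj, pullback.fst (pullback.fst x (Sigma.ι X i) ≫ v)
        (Sigma.ι (fun i => (D.obj i).left) j) ≫ g =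
          ψ D (pullback.fst _ _ ≫ pullback.snd x (Sigma.ι X i)) (pullback.snd _ _) hj ≫
            Sigma.ι (fun i => (D.obj i).left) i := by
    intro i
    have hij : ∀ j, (pullback.fst (pullback.fst x (Sigma.ι X i) ≫ v)
        (Sigma.ι (fun i => (D.obj i).left) j) ≫ pullback.snd x (Sigma.ι X i)) ≫ f i =
          pullback.snd (pullback.fst x (Sigma.ι X i) ≫ v) (Sigma.ι (fun i => (D.obj i).left) j) ≫
            (D.obj j).hom ≫ f j := by
      intro j
      have e := congr(pullback.fst (pullback.fst x (Sigma.ι X i) ≫ v)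
        (Sigma.ι (fun i => (D.obj i).left) j) ≫ pullback.fst x (Sigma.ι X i) ≫ $h)
      rw [pullback.condition_assoc, Sigma.ι_desc] at e
      rw [Category.assoc]
      refine e.trans ?_
      have e2 := pullback.condition (f := pullback.fst x (Sigma.ι X i) ≫ v)
        (g := Sigma.ι (fun i => (D.obj i).left) j)
      rw [reassoc_of% e2]
      exact congrArg (_ ≫ ·) (ι_sigmaOver_desc D j)
    obtain ⟨g, hg⟩ := Sigma'.exists_glue (pullback.fst x (Sigma.ι X i) ≫ v) (fun j =>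
      ψ D _ _ (hij j) ≫ Sigma.ι (fun i => (D.obj i).left) i)
    exact ⟨g, fun j _ => hg j⟩
  choose g hg using hinner
  obtain ⟨w, hw⟩ := Sigma'.exists_glue x g
  refine ⟨w, fun i j T' a x' v' h' hx hv => ?_⟩
  let b : T' ⟶ pullback x (Sigma.ι X i) := pullback.lift a x' hx
  let c : T' ⟶ pullback (pullback.fst x (Sigma.ι X i) ≫ v) (Sigma.ι (fun i => (D.obj i).left) j) :=
    pullback.lift b v' (by simp [b, hv])
  have hc : c ≫ pullback.fst _ _ = b := pullback.lift_fst _ _ _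
  have hb : b ≫ pullback.fst _ _ = a := pullback.lift_fst _ _ _
  have hcomm : (pullback.fst (pullback.fst x (Sigma.ι X i) ≫ v)
        (Sigma.ι (fun i => (D.obj i).left) j) ≫ pullback.snd x (Sigma.ι X i)) ≫ f i =
          pullback.snd (pullback.fst x (Sigma.ι X i) ≫ v) (Sigma.ι (fun i => (D.obj i).left) j) ≫
            (D.obj j).hom ≫ f j := by
    have e := congr(pullback.fst (pullback.fst x (Sigma.ι X i) ≫ v)
      (Sigma.ι (fun i => (D.obj i).left) j) ≫ pullback.fst x (Sigma.ι X i) ≫ $h)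
    rw [pullback.condition_assoc, Sigma.ι_desc] at e
    rw [Category.assoc]
    refine e.trans ?_
    have e2 := pullback.condition (f := pullback.fst x (Sigma.ι X i) ≫ v)
      (g := Sigma.ι (fun i => (D.obj i).left) j)
    rw [reassoc_of% e2]
    exact congrArg (_ ≫ ·) (ι_sigmaOver_desc D j)
  rw [← hb, Category.assoc, hw, ← hc, Category.assoc, hg i j hcomm, ← Category.assoc, comp_ψ]
  congr 1
  exact ψ_congr D (by simp [c, b]) (by simp [c]) _

lemma IsSigmaAction.unique {T : Scheme.{u}} {x : T ⟶ ∐ X} {v w w' : T ⟶ (sigmaOver D).left}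
    (h : x ≫ Sigma.desc f = v ≫ (sigmaOver D).hom ≫ Sigma.desc f)
    (hw : IsSigmaAction D x v w) (hw' : IsSigmaAction D x v w') : w = w' := by
  refine Sigma'.hom_ext x fun i T' a x' hx => ?_
  refine Sigma'.hom_ext (a ≫ v) fun j T'' b v' hv => ?_
  have e : (b ≫ x') ≫ f i = v' ≫ (D.obj j).hom ≫ f j := by
    have := congr((b ≫ a) ≫ $h)
    simp only [Category.assoc] at this hv
    rw [reassoc_of% hx, Sigma.ι_desc, reassoc_of% hv] at this
    simpa [sigmaOver] using this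
  rw [← Category.assoc, hw i j (b ≫ a) (b ≫ x') v' e (by simp [hx]) (by simpa using hv),
    ← Category.assoc, hw' i j (b ≫ a) (b ≫ x') v' e (by simp [hx]) (by simpa using hv)]

lemma IsSigmaAction.comp {T T' : Scheme.{u}} {x : T ⟶ ∐ X} {v w : T ⟶ (sigmaOver D).left}
    (hw : IsSigmaAction D x v w) (g : T' ⟶ T) :
    IsSigmaAction D (g ≫ x) (g ≫ v) (g ≫ w) := fun i j T'' a x' v' h hx hv => by
  rw [← Category.assoc]
  exact hw i j (a ≫ g) x' v' h (by simpa using hx) (by simpa using hv)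

lemma sigma_src_cond :
    pullback.fst (Sigma.desc f) ((sigmaOver D).hom ≫ Sigma.desc f) ≫ Sigma.desc f =
      pullback.snd (Sigma.desc f) ((sigmaOver D).hom ≫ Sigma.desc f) ≫
        (sigmaOver D).hom ≫ Sigma.desc f := pullback.condition

/-- The gluing morphism. -/
noncomputable def sigmaθ :
    pullback (Sigma.desc f) ((sigmaOver D).hom ≫ Sigma.desc f) ⟶ (sigmaOver D).left :=
  (exists_sigmaAction D _ _ (sigma_src_cond D)).choose

lemma sigmaθ_spec : IsSigmaAction D (pullback.fst (Sigma.desc f) ((sigmaOver D).hom ≫ Sigma.desc f))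
    (pullback.snd _ _) (sigmaθ D) :=
  (exists_sigmaAction D _ _ (sigma_src_cond D)).choose_spec

lemma lift_sigmaθ {T : Scheme.{u}} (x : T ⟶ ∐ X) (v : T ⟶ (sigmaOver D).left)
    (h : x ≫ Sigma.desc f = v ≫ (sigmaOver D).hom ≫ Sigma.desc f) :
    IsSigmaAction D x v (pullback.lift x v h ≫ sigmaθ D) := by
  simpa using (sigmaθ_spec D).comp (D := D) (pullback.lift x v h)

lemma sigmaθ_hom : sigmaθ D ≫ (sigmaOver D).hom =
    pullback.fst (Sigma.desc f) ((sigmaOver D).hom ≫ Sigma.desc f) := by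
  refine Sigma'.hom_ext (pullback.fst _ _) fun i T' a x' hx => ?_
  refine Sigma'.hom_ext (a ≫ pullback.snd _ _) fun j T'' b v' hv => ?_
  have e : (b ≫ x') ≫ f i = v' ≫ (D.obj j).hom ≫ f j := by
    have := congr((b ≫ a) ≫ $(sigma_src_cond D))
    simp only [Category.assoc] at this hv
    rw [reassoc_of% hx, Sigma.ι_desc, reassoc_of% hv] at this
    simpa [sigmaOver] using this
  have key := sigmaθ_spec D i j (b ≫ a) (b ≫ x') v' e (by simp [hx]) (by simpa using hv)
  simp only [Category.assoc] at key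
  rw [reassoc_of% key, hx]
  simp [sigmaOver, reassoc_of% (ψ_hom D)]

/-- The descent datum on the disjoint union. -/
noncomputable def sigmaDD : SchDD (Sigma.desc f) :=
  ofθ (sigmaOver D) (sigmaθ D) (sigmaθ_hom D)
    (by
      have h := lift_sigmaθ D (sigmaOver D).hom (𝟙 _) (by simp)
      refine IsSigmaAction.unique D (by simp) h fun i j T' a x' v' h' hx hv => ?_
      simp only [Category.comp_id] at hv ⊢
      have hx' : a ≫ (sigmaOver D).hom = (v' ≫ (D.obj j).hom) ≫ Sigma.ι X j := by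
        rw [hv]; simp [sigmaOver]
      by_cases hij : i = j
      · subst hij
        obtain rfl : x' = v' ≫ (D.obj i).hom := (cancel_mono (Sigma.ι X i)).mp (hx.symm.trans hx')
        rw [ψ, D.φ_self]
        exact hv
      · have := isEmpty_of_commSq_sigmaι_of_ne (g := X) ⟨hx.symm.trans hx'⟩ hij
        exact isInitialOfIsEmpty.hom_ext _ _)
    (fun {T} v x₁ x₂ h₁ h₂ => by
      refine Sigma'.hom_ext x₂ fun k T₁ a₁ z₂ hz₂ => ?_
      refine Sigma'.hom_ext (a₁ ≫ x₁) fun i T₂ a₂ z₁ hz₁ => ?_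
      refine Sigma'.hom_ext ((a₂ ≫ a₁) ≫ v) fun j T₃ a₃ v' hv => ?_
      simp only [Category.assoc] at hz₁ hv
      have e1 : (a₃ ≫ z₁) ≫ f i = v' ≫ (D.obj j).hom ≫ f j := by
        have := congr((a₃ ≫ a₂ ≫ a₁) ≫ $h₁)
        simp only [Category.assoc] at this
        rw [reassoc_of% hz₁, Sigma.ι_desc, reassoc_of% hv] at this
        simpa [sigmaOver] using this
      have e2 : (a₃ ≫ a₂ ≫ z₂) ≫ f k = v' ≫ (D.obj j).hom ≫ f j := by
        have := congr((a₃ ≫ a₂ ≫ a₁) ≫ $h₂)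
        simp only [Category.assoc] at this
        rw [reassoc_of% hz₂, Sigma.ι_desc, reassoc_of% hv] at this
        simpa [sigmaOver] using this
      let w := ψ D (a₃ ≫ z₁) v' e1
      have hw := lift_sigmaθ D x₁ v h₁ i j (a₃ ≫ a₂ ≫ a₁) (a₃ ≫ z₁) v' e1
        (by simp [hz₁]) (by simpa using hv)
      have e3 : (a₃ ≫ a₂ ≫ z₂) ≫ f k = w ≫ (D.obj i).hom ≫ f i := by
        rw [← Category.assoc w, ψ_hom, e2, e1]
      have h₂' : x₂ ≫ Sigma.desc f =
          (pullback.lift x₁ v h₁ ≫ sigmaθ D) ≫ (sigmaOver D).hom ≫ Sigma.desc f := by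
        rw [Category.assoc, reassoc_of% (sigmaθ_hom D), pullback.lift_fst_assoc, h₁, h₂]
      have L := lift_sigmaθ D x₂ _ h₂' k i (a₃ ≫ a₂ ≫ a₁) (a₃ ≫ a₂ ≫ z₂) w e3
        (by simp [hz₂]) hw
      have R := lift_sigmaθ D x₂ v h₂ k j (a₃ ≫ a₂ ≫ a₁) (a₃ ≫ a₂ ≫ z₂) v' e2
        (by simp [hz₂]) (by simpa using hv)
      have hψ : ψ D (a₃ ≫ a₂ ≫ z₂) w e3 = ψ D (a₃ ≫ a₂ ≫ z₂) v' e2 := by
        have := congr(Subtype.val $(D.φ_comp (v' ≫ (D.obj j).hom) (a₃ ≫ z₁) (a₃ ≫ a₂ ≫ z₂)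
          (by rw [Category.assoc, e1]) (e1.trans e2.symm) ⟨v', rfl⟩))
        refine Eq.trans ?_ this
        exact φFam_congr D (ψ_hom D _ _ e1) rfl _ _ _ _ rfl
      simp only [Category.assoc] at L R ⊢
      rw [L, R, hψ])

lemma θ_sigmaDD : θ (sigmaDD D) = sigmaθ D := by
  show pullback.lift (pullback.fst (Sigma.desc f) ((sigmaOver D).hom ≫ Sigma.desc f))
    (pullback.snd _ _) _ ≫ sigmaθ D = _
  refine (congrArg (· ≫ sigmaθ D) ?_).trans (Category.id_comp _)
  apply pullback.hom_ext <;> simp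

end forward

/-- Pulling back along the coprojections. -/
noncomputable abbrev ofSigma : SchDD (Sigma.desc f) ⥤ SchDDFam f :=
  SchDDFam.ofSchDD (Sigma.desc f) ⋙
    pullDDFam (f := fun _ : PUnit.{u + 1} => Sigma.desc f) (f' := f) (α := fun _ => PUnit.unit)
      (p := 𝟙 S) (p' := fun i => Sigma.ι X i)
      (fun i => (Sigma.ι_desc f i).trans (Category.comp_id (f i)).symm)

variable {f}

lemma sigma_cond {T : Scheme.{u}} {i j : ι} {x₀ : T ⟶ X i} {x₁ : T ⟶ X j}
    (h : x₀ ≫ f i = x₁ ≫ f j) :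
    (x₀ ≫ Sigma.ι X i) ≫ Sigma.desc f = (x₁ ≫ Sigma.ι X j) ≫ Sigma.desc f := by simp [h]

lemma ofSigma_φ_fst (E : SchDD (Sigma.desc f)) {T : Scheme.{u}} {i j : ι} (x₀ : T ⟶ X i)
    (x₁ : T ⟶ X j) (h : x₀ ≫ f i = x₁ ≫ f j) (v : Lifts (((ofSigma f).obj E).obj i) x₀)
    (hv : (v.1 ≫ pullback.fst E.obj.hom (Sigma.ι X i)) ≫ E.obj.hom = x₀ ≫ Sigma.ι X i) :
    (((ofSigma f).obj E).φ x₀ x₁ h v).1 ≫ pullback.fst E.obj.hom (Sigma.ι X j) =
      (E.φ (x₀ ≫ Sigma.ι X i) (x₁ ≫ Sigma.ι X j) (sigma_cond h)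
        ⟨v.1 ≫ pullback.fst E.obj.hom (Sigma.ι X i), hv⟩).1 := by
  simp [ofSigma, pullDDFam, pullDDFamObj, SchDDFam.ofSchDD, liftsPullbackEquiv]

lemma ofSigma_map_fst {E E' : SchDD (Sigma.desc f)} (a : E ⟶ E') (i : ι) :
    (((ofSigma f).map a).hom i).left ≫ pullback.fst E'.obj.hom (Sigma.ι X i) =
      pullback.fst E.obj.hom (Sigma.ι X i) ≫ a.hom.left := by
  simp [ofSigma, pullDDFam, SchDDFam.ofSchDD]

/-- The comparison isomorphism on a component. -/
noncomputable def componentIso (D : SchDDFam f) (i : ι) :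
    D.obj i ≅ ((ofSigma f).obj (sigmaDD D)).obj i :=
  Over.isoMk (Sigma'.isPullback_map (fun i => (D.obj i).hom) i).isoPullback (by
    show (Sigma'.isPullback_map (fun i => (D.obj i).hom) i).isoPullback.hom ≫
      pullback.snd (Limits.Sigma.map fun i => (D.obj i).hom) (Sigma.ι X i) = _
    simp)

lemma componentIso_hom_fst (D : SchDDFam f) (i : ι) :
    (componentIso D i).hom.left ≫ pullback.fst (sigmaDD D).obj.hom (Sigma.ι X i) =
      Sigma.ι (fun i => (D.obj i).left) i :=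
  (Sigma'.isPullback_map (fun i => (D.obj i).hom) i).isoPullback_hom_fst

lemma componentIso_comm (D : SchDDFam f) {T : Scheme.{u}} {i j : ι} (x₀ : T ⟶ X i) (x₁ : T ⟶ X j)
    (h : x₀ ≫ f i = x₁ ≫ f j) (v : Lifts (D.obj i) x₀)
    (w : Lifts (((ofSigma f).obj (sigmaDD D)).obj i) x₀) (hw : w.1 = v.1 ≫ (componentIso D i).hom.left) :
    (((ofSigma f).obj (sigmaDD D)).φ x₀ x₁ h w).1 =
      (D.φ x₀ x₁ h v).1 ≫ (componentIso D j).hom.left := by
  obtain ⟨v, rfl⟩ := v
  have hv : (w.1 ≫ pullback.fst (sigmaDD D).obj.hom (Sigma.ι X i)) ≫ (sigmaDD D).obj.hom =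
      (v ≫ (D.obj i).hom) ≫ Sigma.ι X i := by
    rw [hw, Category.assoc, Category.assoc, reassoc_of% componentIso_hom_fst]
    show v ≫ Sigma.ι (fun i => (D.obj i).left) i ≫ Limits.Sigma.map (fun i => (D.obj i).hom) = _
    rw [Limits.Sigma.ι_map, Category.assoc]
  apply pullback.hom_ext
  · refine (ofSigma_φ_fst (sigmaDD D) _ x₁ h w hv).trans ?_
    rw [φ_eq, θ_sigmaDD]
    have key := lift_sigmaθ D (x₁ ≫ Sigma.ι X j) (w.1 ≫ pullback.fst (sigmaDD D).obj.hom (Sigma.ι X i))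
      (by
        refine Eq.trans ?_ (Category.assoc _ _ _)
        rw [show (w.1 ≫ pullback.fst (sigmaDD D).obj.hom (Sigma.ι X i)) ≫ (sigmaOver D).hom =
          (v ≫ (D.obj i).hom) ≫ Sigma.ι X i from hv]
        exact (sigma_cond h).symm)
      j i (𝟙 T) x₁ v (h.symm.trans (Category.assoc _ _ _)) (by simp)
      (by rw [Category.id_comp, hw, Category.assoc, componentIso_hom_fst])
    simp only [Category.id_comp] at key
    refine key.trans ?_
    exact ((Category.assoc _ _ _).trans (congrArg (_ ≫ ·) (componentIso_hom_fst D j))).symm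
  · rw [Category.assoc]
    refine ((((ofSigma f).obj (sigmaDD D)).φ (v ≫ (D.obj i).hom) x₁ h w).2).trans ?_
    have e := Over.w (componentIso D j).hom
    refine Eq.trans ?_ (congrArg (_ ≫ ·) e).symm
    exact (D.φ _ _ h ⟨v, rfl⟩).2.symm

/-- The family descent datum is the pullback of the one on the disjoint union. -/
theorem nonempty_ofSigma_sigmaDD (D : SchDDFam f) : Nonempty ((ofSigma f).obj (sigmaDD D) ≅ D) := by
  let e := componentIso D
  let hom : D ⟶ (ofSigma f).obj (sigmaDD D) :=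
    ⟨fun i => (e i).hom, fun T i j x₀ x₁ h v w hw => componentIso_comm D x₀ x₁ h v w hw⟩
  let inv : (ofSigma f).obj (sigmaDD D) ⟶ D :=
    ⟨fun i => (e i).inv, fun T i j x₀ x₁ h w v hv => by
      have hi : ∀ k, (e k).inv.left ≫ (e k).hom.left = 𝟙 _ := fun k => by
        simp [← Over.comp_left]
      have hw : w.1 = v.1 ≫ (e i).hom.left := by rw [hv, Category.assoc, hi, Category.comp_id]
      rw [componentIso_comm D x₀ x₁ h v w hw, Category.assoc, ← Over.comp_left, (componentIso D j).hom_inv_id]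
      simp⟩
  exact ⟨⟨inv, hom, by ext1; funext i; simp [hom, inv], by ext1; funext i; simp [hom, inv]⟩⟩

instance essSurj_ofSigma : (ofSigma f).EssSurj :=
  ⟨fun D => ⟨sigmaDD D, nonempty_ofSigma_sigmaDD D⟩⟩

instance faithful_ofSigma : (ofSigma f).Faithful where
  map_injective {E E' a b} h := by
    ext1
    ext
    refine Sigma'.hom_ext E.obj.hom fun i T' t x' hx => ?_
    have hh := congr(Over.Hom.left (($h).hom i) ≫ pullback.fst E'.obj.hom (Sigma.ι X i))
    have e := ((ofSigma_map_fst a i).symm.trans hh).trans (ofSigma_map_fst b i)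
    have := congr(pullback.lift (f := E.obj.hom) (g := Sigma.ι X i) t x' hx ≫ $e)
    simpa using this

instance full_ofSigma : (ofSigma f).Full where
  map_surjective {E E'} a := by
    obtain ⟨g, hg⟩ := Sigma'.exists_glue E.obj.hom
      (fun i => (a.hom i).left ≫ pullback.fst E'.obj.hom (Sigma.ι X i))
    have hgw : g ≫ E'.obj.hom = E.obj.hom := by
      refine Sigma'.hom_ext E.obj.hom fun i T' t x' hx => ?_
      rw [show t = pullback.lift t x' hx ≫ pullback.fst E.obj.hom (Sigma.ι X i) from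
        (pullback.lift_fst _ _ _).symm, Category.assoc, Category.assoc, reassoc_of% hg,
        pullback.condition]
      have e : (a.hom i).left ≫ pullback.snd E'.obj.hom (Sigma.ι X i) =
          pullback.snd E.obj.hom (Sigma.ι X i) := Over.w (a.hom i)
      rw [reassoc_of% e, pullback.condition]
    let m : E.obj ⟶ E'.obj := Over.homMk g hgw
    refine ⟨⟨m, fun T x₀ x₁ h v w hw => ?_⟩, ?_⟩
    · obtain ⟨v, rfl⟩ := v
      obtain ⟨w, hw'⟩ := w
      simp only [m, Over.homMk_left] at hw ⊢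
      subst hw
      refine Sigma'.hom_ext (v ≫ E.obj.hom) fun i T' t z₀ hz₀ => ?_
      refine Sigma'.hom_ext (t ≫ x₁) fun j T'' s z₁ hz₁ => ?_
      let u := s ≫ t
      have hu0 : u ≫ v ≫ E.obj.hom = (s ≫ z₀) ≫ Sigma.ι X i := by simp [u, hz₀]
      have hu1 : u ≫ x₁ = z₁ ≫ Sigma.ι X j := by simpa [u] using hz₁
      have hf : (s ≫ z₀) ≫ f i = z₁ ≫ f j := by
        have := congr(u ≫ $h)
        simp only [Category.assoc] at this
        rw [reassoc_of% hu0, reassoc_of% hu1] at this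
        simpa using this
      let v' : Lifts (((ofSigma f).obj E).obj i) (s ≫ z₀) :=
        ⟨pullback.lift (u ≫ v) (s ≫ z₀) ((Category.assoc _ _ _).trans hu0), pullback.lift_snd _ _ _⟩
      let w' : Lifts (((ofSigma f).obj E').obj i) (s ≫ z₀) :=
        ⟨v'.1 ≫ (a.hom i).left, by rw [Category.assoc, Over.w (a.hom i)]; exact v'.2⟩
      have key := congr($(a.comm (s ≫ z₀) z₁ hf v' w' rfl) ≫ pullback.fst E'.obj.hom (Sigma.ι X j))
      have hp : ∀ {Z : Scheme.{u}} (z : Z ⟶ pullback E.obj.hom (Sigma.ι X j)),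
          (z ≫ (a.hom j).left) ≫ pullback.fst E'.obj.hom (Sigma.ι X j) =
            (z ≫ pullback.fst E.obj.hom (Sigma.ι X j)) ≫ g := fun z => by
        rw [Category.assoc, Category.assoc, hg]
      have hv0 : v'.1 ≫ pullback.fst E.obj.hom (Sigma.ι X i) = u ≫ v := pullback.lift_fst _ _ _
      have hw0 : (w'.1 ≫ pullback.fst E'.obj.hom (Sigma.ι X i)) = u ≫ v ≫ g :=
        (Category.assoc _ _ _).trans ((congrArg (v'.1 ≫ ·) (hg i).symm).trans
          ((Category.assoc _ _ _).symm.trans ((congrArg (· ≫ g) hv0).trans (Category.assoc _ _ _))))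
      rw [hp, ofSigma_φ_fst E' _ _ hf w' (by rw [hw0]; simp [hgw, hu0]),
        ofSigma_φ_fst E _ _ hf v' (by rw [hv0]; simpa using hu0)] at key
      have hhu : (u ≫ v ≫ E.obj.hom) ≫ Sigma.desc f = (u ≫ x₁) ≫ Sigma.desc f := by
        simp only [Category.assoc]; exact congrArg (u ≫ ·) ((Category.assoc _ _ _).symm.trans h)
      have nE := E.φ_natural u (v ≫ E.obj.hom) x₁ h hhu ⟨v, rfl⟩ ⟨u ≫ v, Category.assoc _ _ _⟩ rfl
      have nE' := E'.φ_natural u (v ≫ E.obj.hom) x₁ h hhu ⟨v ≫ g, hw'⟩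
        ⟨u ≫ v ≫ g, by rw [Category.assoc, Category.assoc]; exact congrArg (u ≫ ·) ((Category.assoc _ _ _).symm.trans hw')⟩ rfl
      refine (Category.assoc _ _ _).symm.trans (Eq.trans ?_ (Category.assoc _ _ _))
      change u ≫ _ = u ≫ _
      rw [← Category.assoc u, ← nE', ← nE]
      exact ((φ_congr E' hu0 hu1 _ (sigma_cond hf) _ _ hw0.symm).trans key).trans
        (congrArg (· ≫ g) (φ_congr E hu0 hu1 _ (sigma_cond hf) _ _ hv0.symm).symm)
    · ext i
      apply pullback.hom_ext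
      · exact (ofSigma_map_fst _ i).trans (hg i)
      · exact (Over.w (((ofSigma f).map ⟨m, _⟩).hom i)).trans (Over.w (a.hom i)).symm

theorem isEquivalence_ofSigma : (ofSigma f).IsEquivalence where

end Groth.Agent.Desc59
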