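import Groth.Prelude.Def_DescFam

/-!
Pullback functors of descent data for schemes: independence of the morphism of families, composition.
-/

set_option backward.isDefEq.respectTransparency false

universe w w' w'' u

open CategoryTheory CategoryTheory.Limits AlgebraicGeometry

namespace Groth.Agent.Desc59.PullIso

open Desc

variable {S : Scheme.{u}} {ι : Type w} {X : ι → Scheme.{u}} {f : ∀ i, X i ⟶ S}

lemma φ_congr (D : SchDDFam f) {T : Scheme.{u}} {i j : ι} {x₀ x₀' : T ⟶ X i} {x₁ x₁' : T ⟶ X j}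
    (h0 : x₀ = x₀') (h1 : x₁ = x₁') (h : x₀ ≫ f i = x₁ ≫ f j) (h' : x₀' ≫ f i = x₁' ≫ f j)
    (v : Lifts (D.obj i) x₀) (v' : Lifts (D.obj i) x₀') (hv : v.1 = v'.1) :
    (D.φ x₀ x₁ h v).1 = (D.φ x₀' x₁' h' v').1 := by
  subst h0 h1; rw [Subtype.ext hv]

lemma comp_φ (D : SchDDFam f) {T T' : Scheme.{u}} (g : T' ⟶ T) {i j : ι} (x₀ : T ⟶ X i)
    (x₁ : T ⟶ X j) (h : x₀ ≫ f i = x₁ ≫ f j) (v : Lifts (D.obj i) x₀) :
    g ≫ (D.φ x₀ x₁ h v).1 = (D.φ (g ≫ x₀) (g ≫ x₁) (by simp [h])
      ⟨g ≫ v.1, (Category.assoc _ _ _).trans (congrArg (g ≫ ·) v.2)⟩).1 :=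
  (D.φ_natural g x₀ x₁ h _ _ rfl rfl _ _ _ rfl).symm

lemma φ_id (D : SchDDFam f) {T : Scheme.{u}} {i : ι} (x₀ x₁ : T ⟶ X i) (e : x₀ = x₁)
    (v : Lifts (D.obj i) x₀) : (D.φ x₀ x₁ (by rw [e]) v).1 = v.1 := by
  subst e; rw [D.φ_self]

section self

variable {α : ι → ι} {p' : ∀ i, X i ⟶ X (α i)} (w : ∀ i, p' i ≫ f (α i) = f i ≫ 𝟙 S)

include w in
lemma self_cond {T : Scheme.{u}} {i : ι} (x : T ⟶ X i) : (x ≫ p' i) ≫ f (α i) = x ≫ f i := by
  rw [Category.assoc, w, Category.comp_id]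

/-- The comparison map of a component of the pullback along a self-map. -/
noncomputable def selfHom (D : SchDDFam f) (i : ι) :
    pullback (D.obj (α i)).hom (p' i) ⟶ (D.obj i).left :=
  (D.φ (pullback.snd (D.obj (α i)).hom (p' i) ≫ p' i) (pullback.snd (D.obj (α i)).hom (p' i))
    (self_cond w _) ⟨pullback.fst _ _, pullback.condition⟩).1

lemma selfHom_over (D : SchDDFam f) (i : ι) :
    selfHom w D i ≫ (D.obj i).hom = pullback.snd _ _ :=
  (D.φ (pullback.snd (D.obj (α i)).hom (p' i) ≫ p' i) (pullback.snd (D.obj (α i)).hom (p' i))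
    (self_cond w _) ⟨pullback.fst _ _, pullback.condition⟩).2

lemma comp_selfHom (D : SchDDFam f) {i : ι} {T : Scheme.{u}}
    (v : T ⟶ pullback (D.obj (α i)).hom (p' i)) (x : T ⟶ X i) (hx : v ≫ pullback.snd _ _ = x)
    (b : Lifts (D.obj (α i)) (x ≫ p' i)) (hb : b.1 = v ≫ pullback.fst _ _) :
    v ≫ selfHom w D i = (D.φ (x ≫ p' i) x (self_cond w x) b).1 :=
  (comp_φ D v _ _ _ _).trans
    (φ_congr D (by rw [← hx, Category.assoc]) hx _ _ _ _ hb.symm)

/-- The inverse of the comparison map. -/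
noncomputable def selfInv (D : SchDDFam f) (i : ι) :
    (D.obj i).left ⟶ pullback (D.obj (α i)).hom (p' i) :=
  pullback.lift
    (D.φ (D.obj i).hom ((D.obj i).hom ≫ p' i) (self_cond w _).symm ⟨𝟙 _, Category.id_comp _⟩).1
    (D.obj i).hom
    (D.φ (D.obj i).hom ((D.obj i).hom ≫ p' i) (self_cond w _).symm ⟨𝟙 _, Category.id_comp _⟩).2

lemma selfInv_snd (D : SchDDFam f) (i : ι) : selfInv w D i ≫ pullback.snd _ _ = (D.obj i).hom :=
  pullback.lift_snd _ _ _

lemma selfInv_fst (D : SchDDFam f) (i : ι) : selfInv w D i ≫ pullback.fst _ _ =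
    (D.φ (D.obj i).hom ((D.obj i).hom ≫ p' i) (self_cond w _).symm ⟨𝟙 _, Category.id_comp _⟩).1 :=
  pullback.lift_fst _ _ _

lemma selfHom_selfInv (D : SchDDFam f) (i : ι) : selfHom w D i ≫ selfInv w D i = 𝟙 _ := by
  apply pullback.hom_ext
  · rw [Category.assoc, selfInv_fst, Category.id_comp, comp_φ]
    refine (φ_congr D (selfHom_over w D i)
      ((Category.assoc _ _ _).symm.trans (congrArg (· ≫ p' i) (selfHom_over w D i))) _
      (self_cond w _).symm _
      (D.φ (pullback.snd (D.obj (α i)).hom (p' i) ≫ p' i) (pullback.snd (D.obj (α i)).hom (p' i))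
        (self_cond w _) ⟨pullback.fst _ _, pullback.condition⟩) (Category.comp_id _)).trans ?_
    rw [D.φ_comp, D.φ_self]
  · rw [Category.assoc, selfInv_snd, selfHom_over, Category.id_comp]

lemma selfInv_selfHom (D : SchDDFam f) (i : ι) : selfInv w D i ≫ selfHom w D i = 𝟙 _ := by
  rw [comp_selfHom w D _ _ (selfInv_snd w D i)
    (D.φ (D.obj i).hom ((D.obj i).hom ≫ p' i) (self_cond w _).symm ⟨𝟙 _, Category.id_comp _⟩)
    (selfInv_fst w D i).symm, D.φ_comp, D.φ_self]

/-- The isomorphism on a component between the pullback along a self-map and the identity. -/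
noncomputable def selfComponent (D : SchDDFam f) (i : ι) :
    ((pullDDFam w).obj D).obj i ≅ D.obj i :=
  Over.isoMk ⟨selfHom w D i, selfInv w D i, selfHom_selfInv w D i, selfInv_selfHom w D i⟩
    (selfHom_over w D i)

lemma selfComponent_comm (D : SchDDFam f) {T : Scheme.{u}} {i j : ι}
    (x₀ : T ⟶ X i) (x₁ : T ⟶ X j) (h : x₀ ≫ f i = x₁ ≫ f j)
    (v : Lifts (((pullDDFam w).obj D).obj i) x₀) (u : Lifts (D.obj i) x₀)
    (hu : u.1 = v.1 ≫ (selfComponent w D i).hom.left) :
    (D.φ x₀ x₁ h u).1 = (((pullDDFam w).obj D).φ x₀ x₁ h v).1 ≫ (selfComponent w D j).hom.left := by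
  let v₀ : T ⟶ pullback (D.obj (α i)).hom (p' i) := v.1
  have hv₀ : v₀ ≫ pullback.snd _ _ = x₀ := v.2
  let W := ((pullDDFam w).obj D).φ x₀ x₁ h v
  let v₁ : T ⟶ pullback (D.obj (α j)).hom (p' j) := W.1
  have hv₁ : v₁ ≫ pullback.snd _ _ = x₁ := W.2
  have hb : (v₀ ≫ pullback.fst _ _) ≫ (D.obj (α i)).hom = x₀ ≫ p' i := by
    rw [Category.assoc, pullback.condition, reassoc_of% hv₀]
  have hv₁' : v₁ ≫ pullback.fst _ _ =
      (D.φ (x₀ ≫ p' i) (x₁ ≫ p' j) (pull_compat w x₀ x₁ h) ⟨v₀ ≫ pullback.fst _ _, hb⟩).1 :=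
    pullback.lift_fst _ _ _
  have e0 : u.1 = (D.φ (x₀ ≫ p' i) x₀ (self_cond w x₀) ⟨v₀ ≫ pullback.fst _ _, hb⟩).1 :=
    hu.trans (comp_selfHom w D v₀ x₀ hv₀ _ rfl)
  refine Eq.trans ?_ (comp_selfHom w D v₁ x₁ hv₁ _ hv₁'.symm).symm
  rw [D.φ_comp, Subtype.ext e0, D.φ_comp]

end self

/-- Pullback along a self-map over the base is isomorphic to the identity. -/
noncomputable def pullSelfIso {α : ι → ι} {p' : ∀ i, X i ⟶ X (α i)}
    (w : ∀ i, p' i ≫ f (α i) = f i ≫ 𝟙 S) : pullDDFam w ≅ 𝟭 (SchDDFam f) :=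
  NatIso.ofComponents
    (fun D =>
      { hom := ⟨fun i => (selfComponent w D i).hom,
          fun T i j x₀ x₁ h v u hu => selfComponent_comm w D x₀ x₁ h v u hu⟩
        inv := ⟨fun i => (selfComponent w D i).inv, fun T i j x₀ x₁ h u v hv => by
          have hi : ∀ k, (selfComponent w D k).inv.left ≫ (selfComponent w D k).hom.left = 𝟙 _ :=
            fun k => by simp [← Over.comp_left]
          have hu : u.1 = v.1 ≫ (selfComponent w D i).hom.left := by
            rw [hv, Category.assoc, hi]; exact (Category.comp_id _).symm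
          simp only [Functor.id_obj] at *
          rw [selfComponent_comm w D x₀ x₁ h v u hu, Category.assoc, ← Over.comp_left,
            (selfComponent w D j).hom_inv_id]
          simp⟩
        hom_inv_id := by ext1; funext i; exact (selfComponent w D i).hom_inv_id
        inv_hom_id := by ext1; funext i; exact (selfComponent w D i).inv_hom_id })
    (fun {D D'} a => by
      ext1
      funext i
      ext
      let Y₀ := pullback (D.obj (α i)).hom (p' i)
      have hb : (pullback.fst (D.obj (α i)).hom (p' i) ≫ (a.hom (α i)).left) ≫ (D'.obj (α i)).hom =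
          pullback.snd _ _ ≫ p' i := by
        rw [Category.assoc, Over.w (a.hom (α i))]
        exact pullback.condition
      show (pullback.map (D.obj (α i)).hom (p' i) (D'.obj (α i)).hom (p' i) (a.hom (α i)).left
        (𝟙 _) (𝟙 _) (by simp) (by simp) : Y₀ ⟶ _) ≫ selfHom w D' i =
        selfHom w D i ≫ (a.hom i).left
      rw [comp_selfHom w D' _ (pullback.snd _ _) ((pullback.lift_snd _ _ _).trans (Category.comp_id _))
        ⟨_, hb⟩ (pullback.lift_fst _ _ _).symm]
      exact a.comm _ _ _ ⟨pullback.fst _ _, pullback.condition⟩ _ rfl)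

section comp

variable {S' : Scheme.{u}} {ι' : Type w'} {X' : ι' → Scheme.{u}} {f' : ∀ j, X' j ⟶ S'}
  {α : ι' → ι} {p : S' ⟶ S} {p' : ∀ j, X' j ⟶ X (α j)} (w : ∀ j, p' j ≫ f (α j) = f' j ≫ p)
  {S'' : Scheme.{u}} {ι'' : Type w''} {X'' : ι'' → Scheme.{u}} {f'' : ∀ j, X'' j ⟶ S''}
  {β : ι'' → ι'} {q : S'' ⟶ S'} {q' : ∀ j, X'' j ⟶ X' (β j)}
  (w' : ∀ j, q' j ≫ f' (β j) = f'' j ≫ q)

include w w' in
lemma comp_cond (j : ι'') : (q' j ≫ p' (β j)) ≫ f (α (β j)) = f'' j ≫ q ≫ p := by
  rw [Category.assoc, w, reassoc_of% w']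

/-- The composition isomorphism on a component. -/
noncomputable def compComponent (D : SchDDFam f) (j : ι'') :
    ((pullDDFam w').obj ((pullDDFam w).obj D)).obj j ≅
      ((pullDDFam (comp_cond w w')).obj D).obj j :=
  Over.isoMk (pullbackLeftPullbackSndIso (D.obj (α (β j))).hom (p' (β j)) (q' j))
    (pullbackLeftPullbackSndIso_hom_snd _ _ _)

lemma compComponent_comm (D : SchDDFam f) {T : Scheme.{u}} {i j : ι''} (x₀ : T ⟶ X'' i)
    (x₁ : T ⟶ X'' j) (h : x₀ ≫ f'' i = x₁ ≫ f'' j)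
    (v : Lifts (((pullDDFam w').obj ((pullDDFam w).obj D)).obj i) x₀)
    (u : Lifts (((pullDDFam (comp_cond w w')).obj D).obj i) x₀)
    (hu : u.1 = v.1 ≫ (compComponent w w' D i).hom.left) :
    (((pullDDFam (comp_cond w w')).obj D).φ x₀ x₁ h u).1 =
      (((pullDDFam w').obj ((pullDDFam w).obj D)).φ x₀ x₁ h v).1 ≫
        (compComponent w w' D j).hom.left := by
  let v₁ : T ⟶ pullback (pullback.snd (D.obj (α (β j))).hom (p' (β j))) (q' j) :=
    (((pullDDFam w').obj ((pullDDFam w).obj D)).φ x₀ x₁ h v).1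
  show _ = v₁ ≫ (pullbackLeftPullbackSndIso _ _ _).hom
  apply pullback.hom_ext
  · rw [Category.assoc, pullbackLeftPullbackSndIso_hom_fst]
    refine (pullback.lift_fst _ _ _).trans (Eq.trans ?_ ((congrArg
      (· ≫ pullback.fst (D.obj (α (β j))).hom (p' (β j))) (pullback.lift_fst _ _ _).symm).trans
      (Category.assoc _ _ _)))
    refine Eq.trans ?_ (pullback.lift_fst _ _ _).symm
    refine φ_congr D (Category.assoc _ _ _).symm (Category.assoc _ _ _).symm _ _ _ _ ?_
    show u.1 ≫ pullback.fst _ _ = (v.1 ≫ pullback.fst _ _) ≫ pullback.fst _ _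
    rw [hu, Category.assoc, Category.assoc]
    exact congrArg (v.1 ≫ ·) (pullbackLeftPullbackSndIso_hom_fst _ _ _)
  · rw [Category.assoc, pullbackLeftPullbackSndIso_hom_snd]
    exact (pullback.lift_snd _ _ _).trans (pullback.lift_snd _ _ _).symm

/-- Pullbacks compose. -/
noncomputable def pullCompIso :
    pullDDFam w ⋙ pullDDFam w' ≅ pullDDFam (comp_cond w w') :=
  NatIso.ofComponents
    (fun D =>
      { hom := ⟨fun i => (compComponent w w' D i).hom,
          fun T i j x₀ x₁ h v u hu => compComponent_comm w w' D x₀ x₁ h v u hu⟩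
        inv := ⟨fun i => (compComponent w w' D i).inv, fun T i j x₀ x₁ h u v hv => by
          have hi : ∀ k, (compComponent w w' D k).inv.left ≫ (compComponent w w' D k).hom.left = 𝟙 _ :=
            fun k => by simp [← Over.comp_left]
          have hu : u.1 = v.1 ≫ (compComponent w w' D i).hom.left := by
            rw [hv, Category.assoc, hi]; exact (Category.comp_id _).symm
          simp only [Functor.comp_obj] at *
          rw [compComponent_comm w w' D x₀ x₁ h v u hu, Category.assoc, ← Over.comp_left,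
            (compComponent w w' D j).hom_inv_id]
          simp⟩
        hom_inv_id := by ext1; funext i; exact (compComponent w w' D i).hom_inv_id
        inv_hom_id := by ext1; funext i; exact (compComponent w w' D i).inv_hom_id })
    (fun {D D'} a => by
      ext1
      funext i
      ext
      show (pullback.map (pullback.snd (D.obj (α (β i))).hom (p' (β i))) (q' i)
          (pullback.snd (D'.obj (α (β i))).hom (p' (β i))) (q' i)
          (pullback.map _ _ _ _ (a.hom (α (β i))).left (𝟙 _) (𝟙 _) (by simp) (by simp))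
          (𝟙 _) (𝟙 _) (by simp) (by simp)) ≫ (pullbackLeftPullbackSndIso _ _ _).hom =
        (pullbackLeftPullbackSndIso _ _ _).hom ≫ pullback.map _ _ _ _ (a.hom (α (β i))).left (𝟙 _) (𝟙 _)
          (by simp) (by simp)
      apply pullback.hom_ext <;> simp)

/-- Pullback functors along morphisms admitting a morphism back are equivalences. -/
theorem isEquivalence_of_back {ι' : Type w'} {X' : ι' → Scheme.{u}} {f' : ∀ j, X' j ⟶ S}
    {α : ι' → ι} {p' : ∀ j, X' j ⟶ X (α j)} (w : ∀ j, p' j ≫ f (α j) = f' j ≫ 𝟙 S)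
    {β : ι → ι'} {q' : ∀ i, X i ⟶ X' (β i)} (w' : ∀ i, q' i ≫ f' (β i) = f i ≫ 𝟙 S) :
    (pullDDFam w).IsEquivalence := by
  have c1 : ∀ i, (q' i ≫ p' (β i)) ≫ f (α (β i)) = f i ≫ 𝟙 S := fun i => by
    rw [Category.assoc, w, reassoc_of% w', Category.comp_id]
  have c2 : ∀ j, (p' j ≫ q' (α j)) ≫ f' (β (α j)) = f' j ≫ 𝟙 S := fun j => by
    rw [Category.assoc, w', reassoc_of% w, Category.comp_id]
  have h1 : pullDDFam w ⋙ pullDDFam w' ≅ 𝟭 _ := by
    refine pullCompIso w w' ≪≫ ?_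
    have key := pullSelfIso c1
    simp only [Category.comp_id] at key ⊢
    exact key
  have h2 : pullDDFam w' ⋙ pullDDFam w ≅ 𝟭 _ := by
    refine pullCompIso w' w ≪≫ ?_
    have key := pullSelfIso c2
    simp only [Category.comp_id] at key ⊢
    exact key
  exact (CategoryTheory.Equivalence.mk (pullDDFam w) (pullDDFam w') h1.symm h2).isEquivalence_functor

end comp

end Groth.Agent.Desc59.PullIso
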