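import Groth.Agent.Desc59.DDPull
import Groth.Agent.Desc59.DDPullIso
import Groth.Agent.Desc59.DDOfTheta

/-!
Descending a descent datum along a refinement `X ⟶ X'` when its restriction to `X ⟶ X'` is effective.
-/

set_option backward.isDefEq.respectTransparency false

universe u

open CategoryTheory CategoryTheory.Limits AlgebraicGeometry

namespace Groth.Agent.Desc59

open Desc

lemma IsFpqcMor.comp {X Y Z : Scheme.{u}} (a : X ⟶ Y) (b : Y ⟶ Z) [ha : IsFpqcMor a]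
    [hb : IsFpqcMor b] : IsFpqcMor (a ≫ b) := by
  refine ⟨?_⟩
  have h1 := hb.mem
  have h2 := ha.mem
  rw [← Presieve.ofArrows_pUnit.{u + 1}] at h1 h2
  have := Precoverage.comp_mem_coverings (fun _ : PUnit.{u + 2} => b) h1
    (fun (_ : PUnit.{u + 2}) (_ : PUnit.{u + 2}) => a) (fun _ => h2)
  convert this using 1
  refine le_antisymm ?_ ?_
  · rintro W u ⟨⟩
    exact Presieve.ofArrows.mk (⟨⟨⟩, ⟨⟩⟩ : Σ _ : PUnit.{u + 2}, PUnit.{u + 2})
  · rintro W u ⟨⟨_, _⟩⟩
    exact Presieve.singleton.mk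

variable {X X' S : Scheme.{u}} {p : X ⟶ S} {p' : X' ⟶ S} (h : X ⟶ X') (hp : h ≫ p' = p)

include hp in
lemma rel_cond {T : Scheme.{u}} {x₀ x₁ : T ⟶ X} (e : x₀ ≫ h = x₁ ≫ h) : x₀ ≫ p = x₁ ≫ p := by
  rw [← hp, reassoc_of% e]

/-- A descent datum restricted to the pairs with the same image in an intermediate scheme. -/
def restrictRel (E : SchDD p) : SchDD h where
  obj := E.obj
  φ _ x₀ x₁ e := E.φ x₀ x₁ (rel_cond h hp e)
  φ_natural _ _ g x₀ x₁ e e' v v' hv := E.φ_natural g x₀ x₁ _ _ v v' hv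
  φ_self _ x v := E.φ_self x v
  φ_comp _ x₀ x₁ x₂ e₀ e₁ v := E.φ_comp x₀ x₁ x₂ _ _ v

lemma comp_lift_θ {Z T : Scheme.{u}} (D : SchDD p) (g : Z ⟶ T) (x : T ⟶ X) (v : T ⟶ D.obj.left)
    (hh : x ≫ p = v ≫ D.obj.hom ≫ p) :
    g ≫ pullback.lift x v hh ≫ θ D =
      pullback.lift (g ≫ x) (g ≫ v) (by simp only [Category.assoc, hh]) ≫ θ D := by
  rw [← Category.assoc]
  refine congrArg (· ≫ θ D) ?_
  apply pullback.hom_ext <;> simp

/-- A descent datum whose restriction along `h : X ⟶ X'` is effective comes from `X'`. -/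
theorem exists_pullDD_iso [Flat h] [Surjective h] [IsFpqcMor h] (E : SchDD p)
    {W : Over X'} {π : E.obj.left ⟶ W.left} (hq : IsQuot (restrictRel h hp E) W π) :
    ∃ D : SchDD p', Nonempty (pullDD (hp.trans (Category.comp_id p).symm) D ≅ E) := by
  have hπ : π ≫ W.hom = E.obj.hom ≫ h := hq.isPullback.w
  have := hq.flat
  have := hq.surjective
  have := hq.isFpqcMor
  have hπθ : ∀ {T : Scheme.{u}} (x : T ⟶ X) (v : T ⟶ E.obj.left)
      (hh : x ≫ p = v ≫ E.obj.hom ≫ p), x ≫ h = v ≫ E.obj.hom ≫ h →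
      pullback.lift x v hh ≫ θ E ≫ π = v ≫ π := by
    intro T x v hh hx
    have e : (v ≫ E.obj.hom) ≫ h = x ≫ h := by rw [Category.assoc, hx]
    have := hq.invariant.φ_comp (v ≫ E.obj.hom) x e ⟨v, rfl⟩
    refine (Category.assoc _ _ _).symm.trans (Eq.trans ?_ this)
    exact congrArg (· ≫ π) (φ_eq E (v ≫ E.obj.hom) x (rel_cond h hp e) ⟨v, rfl⟩).symm
  have indep : ∀ {T : Scheme.{u}} (x y : T ⟶ X) (e e' : T ⟶ E.obj.left)
      (hx : x ≫ p = e ≫ E.obj.hom ≫ p) (hy : y ≫ p = e' ≫ E.obj.hom ≫ p),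
      x ≫ h = y ≫ h → e ≫ π = e' ≫ π →
      pullback.lift x e hx ≫ θ E ≫ π = pullback.lift y e' hy ≫ θ E ≫ π := by
    intro T x y e e' hx hy hxy he
    have hee : (e' ≫ E.obj.hom) ≫ h = e ≫ E.obj.hom ≫ h := by
      rw [Category.assoc, ← hπ, ← reassoc_of% he]
    have hee' : (e' ≫ E.obj.hom) ≫ p = e ≫ E.obj.hom ≫ p :=
      (rel_cond h hp (hee.trans (Category.assoc _ _ _).symm)).trans (Category.assoc _ _ _)
    have he' : pullback.lift (e' ≫ E.obj.hom) e hee' ≫ θ E = e' := by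
      apply hq.isPullback.hom_ext
      · rw [Category.assoc, hπθ _ _ _ hee, he]
      · show _ ≫ E.obj.hom = e' ≫ E.obj.hom
        rw [Category.assoc, θ_hom, pullback.lift_fst]
    have h1 : pullback.lift y e' hy ≫ θ E =
        pullback.lift y e ((rel_cond h hp hxy).symm.trans hx) ≫ θ E := by
      refine Eq.trans ?_ (lift_θ_trans E e (e' ≫ E.obj.hom) y hee'
        ((rel_cond h hp hxy).symm.trans hx))
      refine congrArg (· ≫ θ E) ?_
      apply pullback.hom_ext <;> simp [he']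
    have hxe : (pullback.lift x e hx ≫ θ E) ≫ E.obj.hom = x := by simp
    have h2 : pullback.lift y e ((rel_cond h hp hxy).symm.trans hx) ≫ θ E =
        pullback.lift y (pullback.lift x e hx ≫ θ E)
          (by simp [(rel_cond h hp hxy).symm]) ≫ θ E :=
      (lift_θ_trans E e x y hx ((rel_cond h hp hxy).symm.trans hx)).symm
    rw [reassoc_of% h1, reassoc_of% h2]
    exact ((hπθ y (pullback.lift x e hx ≫ θ E) _
      (by rw [← hxy, Category.assoc, θ_hom_assoc, pullback.lift_fst_assoc])).trans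
      (Category.assoc _ _ _)).symm
  -- the gluing map
  let k1 := pullback.map p (W.hom ≫ p') p' (W.hom ≫ p') h (𝟙 _) (𝟙 S) (by simp [hp]) (by simp)
  let k2 := pullback.map p (E.obj.hom ≫ p) p (W.hom ≫ p') (𝟙 X) π (𝟙 S) (by simp)
    (by simp [reassoc_of% hπ, hp])
  let k := k2 ≫ k1
  have hk1 : IsPullback k1 (pullback.fst p (W.hom ≫ p')) (pullback.fst p' (W.hom ≫ p')) h := by
    refine IsPullback.of_right (h₁₂ := pullback.snd p' (W.hom ≫ p')) (v₁₃ := W.hom ≫ p')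
      (h₂₂ := p') ?_ (by simp [k1]) (IsPullback.of_hasPullback p' (W.hom ≫ p')).flip
    simpa [k1, hp] using (IsPullback.of_hasPullback p (W.hom ≫ p')).flip
  have hk2 : IsPullback (pullback.snd p (E.obj.hom ≫ p)) k2 π (pullback.snd p (W.hom ≫ p')) := by
    refine IsPullback.of_bot (v₂₁ := pullback.fst p (W.hom ≫ p')) (v₂₂ := W.hom ≫ p') (h₃₁ := p) ?_
      (by simp [k2]) (IsPullback.of_hasPullback p (W.hom ≫ p')).flip
    simpa [k2, reassoc_of% hπ, hp] using (IsPullback.of_hasPullback p (E.obj.hom ≫ p)).flip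
  have : IsFpqcMor k1 := IsFpqcMor.of_isPullback hk1.flip
  have : Flat k1 := MorphismProperty.of_isPullback hk1.flip inferInstance
  have : Surjective k1 := MorphismProperty.of_isPullback hk1.flip inferInstance
  have : IsFpqcMor k2 := IsFpqcMor.of_isPullback hk2
  have : Flat k2 := MorphismProperty.of_isPullback hk2 inferInstance
  have : Surjective k2 := MorphismProperty.of_isPullback hk2 inferInstance
  have : IsFpqcMor k := IsFpqcMor.comp k2 k1
  have : Flat k := inferInstanceAs (Flat (k2 ≫ k1))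
  have : Surjective k := inferInstanceAs (Surjective (k2 ≫ k1))
  have hkfst : k ≫ pullback.fst p' (W.hom ≫ p') = pullback.fst p (E.obj.hom ≫ p) ≫ h := by
    simp [k, k1, k2]
  have hksnd : k ≫ pullback.snd p' (W.hom ≫ p') = pullback.snd p (E.obj.hom ≫ p) ≫ π := by
    simp [k, k1, k2]
  have hcompat : ∀ {Z : Scheme.{u}} (g₁ g₂ : Z ⟶ pullback p (E.obj.hom ≫ p)),
      g₁ ≫ k = g₂ ≫ k → g₁ ≫ θ E ≫ π = g₂ ≫ θ E ≫ π := by
    intro Z g₁ g₂ e
    have eq : ∀ g : Z ⟶ pullback p (E.obj.hom ≫ p), g = pullback.lift (g ≫ pullback.fst _ _)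
        (g ≫ pullback.snd _ _) (by simp only [Category.assoc, pullback.condition]) := fun g => by
      apply pullback.hom_ext <;> simp
    rw [eq g₁, eq g₂]
    refine indep _ _ _ _ _ _ ?_ ?_
    · simpa [hkfst] using congr($e ≫ pullback.fst p' (W.hom ≫ p'))
    · simpa [hksnd] using congr($e ≫ pullback.snd p' (W.hom ≫ p'))
  let t : pullback p' (W.hom ≫ p') ⟶ W.left := EffectiveEpi.desc k (θ E ≫ π) hcompat
  have hkt : k ≫ t = θ E ≫ π := EffectiveEpi.fac k _ _
  have : Epi k := Flat.epi_of_flat_of_surjective k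
  have hkt' : ∀ {T : Scheme.{u}} (x : T ⟶ X) (e : T ⟶ E.obj.left)
      (hx : x ≫ p = e ≫ E.obj.hom ≫ p) (hx' : (x ≫ h) ≫ p' = (e ≫ π) ≫ W.hom ≫ p'),
      pullback.lift (x ≫ h) (e ≫ π) hx' ≫ t = pullback.lift x e hx ≫ θ E ≫ π := by
    intro T x e hx hx'
    rw [← hkt, ← Category.assoc]
    refine congrArg (· ≫ t) ?_
    apply pullback.hom_ext <;> simp [hkfst, hksnd]
  have ht : t ≫ W.hom = pullback.fst p' (W.hom ≫ p') := by
    rw [← cancel_epi k, reassoc_of% hkt, hπ, θ_hom_assoc, hkfst]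
  have hd : pullback.lift W.hom (𝟙 W.left) (by simp) ≫ t = 𝟙 W.left := by
    rw [← cancel_epi π, Category.comp_id]
    have h0 : π ≫ pullback.lift (f := p') (g := W.hom ≫ p') W.hom (𝟙 W.left) (by simp) =
        pullback.lift (E.obj.hom ≫ h) (𝟙 _ ≫ π) (by simp [← hπ]) := by
      apply pullback.hom_ext <;> simp [hπ]
    rw [← Category.assoc, h0, hkt' E.obj.hom (𝟙 _) (by simp), diag_θ_assoc]
  let D : SchDD p' := ofθ W t ht hd (fun {T} v x₁ x₂ h₁ h₂ => by
    -- a cover of `T` over which `v`, `x₁`, `x₂` lift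
    let r₁ := pullback.fst v π
    let r₂ := pullback.fst (r₁ ≫ x₁) h
    let r₃ := pullback.fst ((r₂ ≫ r₁) ≫ x₂) h
    let r := r₃ ≫ r₂ ≫ r₁
    let e := r₃ ≫ r₂ ≫ pullback.snd v π
    let a₁ := r₃ ≫ pullback.snd (r₁ ≫ x₁) h
    let a₂ := pullback.snd ((r₂ ≫ r₁) ≫ x₂) h
    have he : e ≫ π = r ≫ v := by simp [e, r, r₁, pullback.condition]
    have ha₁ : a₁ ≫ h = r ≫ x₁ := by simp [a₁, r, r₂, ← pullback.condition]
    have ha₂ : a₂ ≫ h = r ≫ x₂ := by simp [a₂, r, r₃, ← pullback.condition]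
    have : Flat r := inferInstanceAs (Flat (r₃ ≫ r₂ ≫ r₁))
    have : Surjective r := inferInstanceAs (Surjective (r₃ ≫ r₂ ≫ r₁))
    have : Epi r := Flat.epi_of_flat_of_surjective r
    have c₁' : (a₁ ≫ h) ≫ p' = (e ≫ π) ≫ W.hom ≫ p' := by
      rw [ha₁, he]
      exact (Category.assoc _ _ _).trans
        ((congrArg (r ≫ ·) h₁).trans (Category.assoc _ _ _).symm)
    have c₂' : (a₂ ≫ h) ≫ p' = (e ≫ π) ≫ W.hom ≫ p' := by
      rw [ha₂, he]
      exact (Category.assoc _ _ _).trans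
        ((congrArg (r ≫ ·) h₂).trans (Category.assoc _ _ _).symm)
    have c₁ : a₁ ≫ p = e ≫ E.obj.hom ≫ p := by simpa [reassoc_of% hπ, hp] using c₁'
    have c₂ : a₂ ≫ p = e ≫ E.obj.hom ≫ p := by simpa [reassoc_of% hπ, hp] using c₂'
    have q₁ : r ≫ pullback.lift x₁ v h₁ ≫ t = pullback.lift a₁ e c₁ ≫ θ E ≫ π := by
      rw [← hkt' a₁ e c₁ c₁', ← Category.assoc]
      refine congrArg (· ≫ t) ?_
      apply pullback.hom_ext <;> simp [ha₁, he]
    have c₂₁ : a₂ ≫ p = (pullback.lift a₁ e c₁ ≫ θ E) ≫ E.obj.hom ≫ p := by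
      refine (c₂.trans c₁.symm).trans (Eq.symm ?_)
      exact (Category.assoc _ _ _).trans ((congrArg (_ ≫ ·) (θ_hom_assoc E p)).trans
        (pullback.lift_fst_assoc _ _ _ _))
    have c₂₁' : (a₂ ≫ h) ≫ p' = ((pullback.lift a₁ e c₁ ≫ θ E) ≫ π) ≫ W.hom ≫ p' := by
      refine (Category.assoc _ _ _).trans ((congrArg (a₂ ≫ ·) hp).trans (c₂₁.trans ?_))
      simp only [Category.assoc, reassoc_of% hπ, hp]
    rw [← cancel_epi r]
    trans pullback.lift a₂ (pullback.lift a₁ e c₁ ≫ θ E) c₂₁ ≫ θ E ≫ π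
    · rw [← hkt' a₂ _ c₂₁ c₂₁', ← Category.assoc]
      refine congrArg (· ≫ t) ?_
      apply pullback.hom_ext
      · simp [ha₂]
      · simp only [Category.assoc, pullback.lift_snd]
        exact q₁
    · rw [reassoc_of% (lift_θ_trans E e a₁ a₂ c₁ c₂), ← hkt' a₂ e c₂ c₂', ← Category.assoc]
      refine congrArg (· ≫ t) ?_
      apply pullback.hom_ext <;> simp [ha₂, he])
  -- the comparison with the original datum
  let w := hp.trans (Category.comp_id p).symm
  let eI : E.obj.left ≅ pullback W.hom h := hq.isPullback.isoPullback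
  have ef : eI.hom ≫ pullback.fst W.hom h = π := hq.isPullback.isoPullback_hom_fst
  have es : eI.hom ≫ pullback.snd W.hom h = E.obj.hom := hq.isPullback.isoPullback_hom_snd
  have comm : ∀ ⦃T : Scheme.{u}⦄ (x₀ x₁ : T ⟶ X) (hh : x₀ ≫ p = x₁ ≫ p)
      (v : Lifts E.obj x₀) (z : Lifts (pullDD w D).obj x₀), z.1 = v.1 ≫ eI.hom →
      ((pullDD w D).φ x₀ x₁ hh z).1 = (E.φ x₀ x₁ hh v).1 ≫ eI.hom := by
    intro T x₀ x₁ hh v z hz
    apply pullback.hom_ext (f := W.hom) (g := h)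
    · refine Eq.trans ?_ (((Category.assoc _ _ _).trans (congrArg (_ ≫ ·) ef)).symm)
      refine (pullDD_φ_fst w D x₀ x₁ hh z).trans ?_
      refine (φ_eq D _ _ _ _).trans ?_
      refine Eq.trans (congrArg (_ ≫ ·) (θ_ofθ W t ht hd _)) ?_
      rw [φ_eq E x₀ x₁ hh v]
      refine Eq.trans ?_ (Category.assoc _ _ _).symm
      refine Eq.trans ?_ (hkt' x₁ v.1 (by rw [← Category.assoc, v.2, hh]) (by
        refine (Category.assoc _ _ _).trans ((congrArg (x₁ ≫ ·) hp).trans (hh.symm.trans ?_))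
        refine (congrArg (· ≫ p) v.2.symm).trans ?_
        simp [reassoc_of% hπ, hp]))
      refine congrArg (· ≫ t) ?_
      apply pullback.hom_ext
      · exact (pullback.lift_fst _ _ _).trans (pullback.lift_fst _ _ _).symm
      · refine (pullback.lift_snd _ _ _).trans (Eq.trans ?_ (pullback.lift_snd _ _ _).symm)
        show z.1 ≫ pullback.fst W.hom h = v.1 ≫ π
        rw [hz, Category.assoc, ef]
    · refine Eq.trans ?_ (((Category.assoc _ _ _).trans (congrArg (_ ≫ ·) es)).trans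
        (E.φ x₀ x₁ hh v).2).symm
      exact ((pullDD w D).φ x₀ x₁ hh z).2
  let i : E.obj ≅ (pullDD w D).obj := Over.isoMk eI es
  refine ⟨D, ⟨(?_ : E ≅ pullDD w D).symm⟩⟩
  refine ⟨⟨i.hom, comm⟩, ⟨i.inv, ?_⟩, ?_, ?_⟩
  · intro T x₀ x₁ hh z v hv
    have hi : i.inv.left ≫ eI.hom = 𝟙 _ := congr(Over.Hom.left $i.inv_hom_id)
    have hz : z.1 = v.1 ≫ eI.hom := by
      rw [hv, Category.assoc, hi]; exact (Category.comp_id _).symm
    refine (cancel_mono eI.hom).mp (((comm x₀ x₁ hh v z hz).symm).trans ?_)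
    rw [Category.assoc, hi]
    exact (Category.comp_id _).symm
  · ext1; exact i.hom_inv_id
  · ext1; exact i.inv_hom_id

end Groth.Agent.Desc59
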