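import Groth.Agent.Desc59.DDSigma
import Groth.Agent.Desc59.DDFppf

/-!
Effectivity for families: reduction to affine covers of affine schemes.
-/

set_option backward.isDefEq.respectTransparency false

universe u

open CategoryTheory CategoryTheory.Limits AlgebraicGeometry

namespace Groth.Agent.Desc59

open Desc

/-- Effectivity when enough affine sub-covers satisfy the affine case. -/
theorem effective_of_subcovers (P : MorphismProperty Scheme.{u}) [P.RespectsIso]
    (h3 : ∀ (X S : Scheme.{u}) (p : X ⟶ S), IsAffine X → IsAffine S → Flat p → Surjective p →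
      ∀ D : SchDD p, P D.obj.hom → ∃ U : Over S, Nonempty ((toDD p).obj U ≅ D))
    {X S : Scheme.{u}} (p : X ⟶ S) [Surjective p] [Flat p] [IsFpqcMor p] (D : SchDD p)
    (hcov : ∀ W : S.Opens, IsAffineOpen W → ∃ (X' : Scheme.{u}) (g : X' ⟶ (p ⁻¹ᵁ W).toScheme),
      IsAffine X' ∧ Flat g ∧ Surjective (g ≫ p ∣_ W) ∧
        P (pullback.snd D.obj.hom (g ≫ (p ⁻¹ᵁ W).ι))) :
    ∃ U : Over S, Nonempty ((toDD p).obj U ≅ D) := by
  refine exists_isQuot_iff.mp (exists_isQuot_of_cover fun v => ?_)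
  obtain ⟨_, ⟨W, hW, rfl⟩, hvW, -⟩ :=
    S.isBasis_affineOpens.exists_subset_of_mem_open (Set.mem_univ ((D.obj.hom ≫ p) v)) isOpen_univ
  change S.Opens at W
  have : IsAffine W.toScheme := hW
  obtain ⟨X', g, hX', hg, hgs, hP⟩ := hcov W hW
  let D₁ := pullDD (morphismRestrict_ι p W).symm D
  have w₂ : g ≫ (p ∣_ W) = (g ≫ (p ∣_ W)) ≫ 𝟙 _ := (Category.comp_id _).symm
  have hP₂ : P (pullDD w₂ D₁).obj.hom := by
    have h2 : IsPullback (pullback.fst D₁.obj.hom g ≫ pullback.fst D.obj.hom (p ⁻¹ᵁ W).ι)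
        (pullback.snd D₁.obj.hom g) D.obj.hom (g ≫ (p ⁻¹ᵁ W).ι) :=
      (IsPullback.of_hasPullback D₁.obj.hom g).paste_horiz
        (IsPullback.of_hasPullback D.obj.hom (p ⁻¹ᵁ W).ι)
    show P (pullback.snd D₁.obj.hom g)
    rw [← h2.isoPullback_hom_snd, P.cancel_left_of_respectsIso]
    exact hP
  obtain ⟨U, π, hπ⟩ := exists_isQuot_iff.mpr
    (h3 X' W.toScheme (g ≫ (p ∣_ W)) hX' inferInstance inferInstance hgs (pullDD w₂ D₁) hP₂)
  obtain ⟨π₁, hπ₁⟩ := exists_isQuot_of_subcover D₁ w₂ hπ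
  obtain ⟨π₀, hπ₀⟩ := exists_isQuotOn_of_restrict D W hπ₁
  exact ⟨_, _, π₀, hvW, hπ₀⟩

section family

variable {ι κ : Type u} {X : ι → Scheme.{u}} {V : ι → Scheme.{u}} (q : ∀ i, V i ⟶ X i)
  {Y : κ → Scheme.{u}} (a : κ → ι) (e : ∀ k, Y k ⟶ X (a k))

/-- Base change of a disjoint union along a disjoint union. -/
theorem exists_isPullback_sigmaMap :
    ∃ (Φ : (∐ fun k => pullback (q (a k)) (e k)) ⟶ ∐ V),
      IsPullback Φ (Limits.Sigma.map fun k => pullback.snd (q (a k)) (e k)) (Limits.Sigma.map q)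
        (Sigma.desc fun k => e k ≫ Sigma.ι X (a k)) := by
  let Z := fun k => pullback (q (a k)) (e k)
  let Φ : (∐ Z) ⟶ ∐ V := Sigma.desc fun k => pullback.fst (q (a k)) (e k) ≫ Sigma.ι V (a k)
  let h := Sigma.desc fun k => e k ≫ Sigma.ι X (a k)
  have w : Φ ≫ Limits.Sigma.map q = (Limits.Sigma.map fun k => pullback.snd (q (a k)) (e k)) ≫ h := by
    refine Sigma.hom_ext _ _ fun k => ?_
    simp [Φ, h, pullback.condition_assoc]
  refine ⟨Φ, ?_⟩
  let c : (∐ Z) ⟶ pullback (Limits.Sigma.map q) h := pullback.lift Φ _ w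
  suffices IsIso c from IsPullback.of_iso_pullback ⟨w⟩ (asIso c) (pullback.lift_fst _ _ _) (pullback.lift_snd _ _ _)
  have hk : ∀ k, IsPullback (pullback.fst (q (a k)) (e k) ≫ Sigma.ι V (a k))
      (pullback.snd (q (a k)) (e k)) (Limits.Sigma.map q) (Sigma.ι Y k ≫ h) := fun k => by
    rw [Sigma.ι_desc]
    exact (IsPullback.of_hasPullback (q (a k)) (e k)).paste_horiz (Sigma'.isPullback_map q (a k))
  let j : ∀ k, Z k ⟶ pullback (Limits.Sigma.map q) h := fun k => Sigma.ι Z k ≫ c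
  have hj : ∀ k, IsPullback (j k) (pullback.snd (q (a k)) (e k)) (pullback.snd (Limits.Sigma.map q) h)
      (Sigma.ι Y k) := fun k => by
    refine IsPullback.of_right (h₁₂ := pullback.fst (Limits.Sigma.map q) h) (h₂₂ := h)
      (v₁₃ := Limits.Sigma.map q) ?_ ?_ (IsPullback.of_hasPullback (Limits.Sigma.map q) h)
    · simpa [j, c, Φ] using hk k
    · simp [j, c]
  have hc : ∀ k, IsPullback (Sigma.ι Z k) (𝟙 (Z k)) c (j k) := fun k => by
    refine IsPullback.of_bot (v₂₁ := pullback.snd (q (a k)) (e k))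
      (v₂₂ := pullback.snd (Limits.Sigma.map q) h) (h₃₁ := Sigma.ι Y k) ?_ (by simp [j]) (hj k)
    simpa [c] using Sigma'.isPullback_map (fun k => pullback.snd (q (a k)) (e k)) k
  show MorphismProperty.isomorphisms Scheme.{u} c
  let 𝒰 := (sigmaOpenCover Y).pullback₁ (pullback.snd (Limits.Sigma.map q) h)
  refine (IsZariskiLocalAtTarget.iff_of_openCover (P := MorphismProperty.isomorphisms Scheme.{u})
    𝒰).mpr fun k => ?_
  let E : Z k ≅ 𝒰.X k := (hj k).isoPullback
  have hE : E.hom ≫ 𝒰.f k = j k := (hj k).isoPullback_hom_fst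
  have hk' : IsPullback (Sigma.ι Z k) E.hom c (𝒰.f k) :=
    IsPullback.of_iso (hc k) (Iso.refl _) (Iso.refl _) E (Iso.refl _) (by simp) (by simp)
      (by simp) (by simp [hE])
  show IsIso (pullback.snd c (𝒰.f k))
  rw [← hk'.isoPullback_inv_snd]
  infer_instance

end family

variable {ι : Type u} {S : Scheme.{u}} {U : ι → Scheme.{u}} {u : ∀ i, U i ⟶ S}

section canonical

variable (T : Over S) (i : ι)

/-- The comparison map on a component. -/
noncomputable def canHom :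
    pullback (u i) T.hom ⟶ pullback (pullback.fst (Sigma.desc u) T.hom) (Sigma.ι U i) :=
  pullback.lift (pullback.lift (pullback.fst (u i) T.hom ≫ Sigma.ι U i) (pullback.snd (u i) T.hom)
    (by simp [pullback.condition])) (pullback.fst (u i) T.hom) (pullback.lift_fst _ _ _)

@[reassoc (attr := simp)]
lemma canHom_fst_fst : canHom T i ≫ pullback.fst _ _ ≫ pullback.fst (Sigma.desc u) T.hom =
    pullback.fst (u i) T.hom ≫ Sigma.ι U i := by simp [canHom]

@[reassoc (attr := simp)]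
lemma canHom_fst_snd : canHom T i ≫ pullback.fst _ _ ≫ pullback.snd (Sigma.desc u) T.hom =
    pullback.snd (u i) T.hom := by simp [canHom]

@[reassoc (attr := simp)]
lemma canHom_snd : canHom T i ≫ pullback.snd _ _ = pullback.fst (u i) T.hom := by simp [canHom]

/-- The inverse. -/
noncomputable def canInv :
    pullback (pullback.fst (Sigma.desc u) T.hom) (Sigma.ι U i) ⟶ pullback (u i) T.hom :=
  pullback.lift (pullback.snd _ _) (pullback.fst _ _ ≫ pullback.snd (Sigma.desc u) T.hom) (by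
    rw [Category.assoc, ← pullback.condition (f := Sigma.desc u), pullback.condition_assoc,
      Sigma.ι_desc])

/-- The comparison of canonical descent data on a component. -/
noncomputable def canIso :
    ((toDDFam u).obj T).obj i ≅ ((ofSigma u).obj ((toDD (Sigma.desc u)).obj T)).obj i :=
  Over.isoMk
    { hom := canHom T i
      inv := canInv T i
      hom_inv_id := by
        show canHom T i ≫ canInv T i = 𝟙 (pullback (u i) T.hom)
        apply pullback.hom_ext <;> simp [canInv]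
      inv_hom_id := by
        show canInv T i ≫ canHom T i = 𝟙 (pullback (pullback.fst (Sigma.desc u) T.hom) (Sigma.ι U i))
        apply pullback.hom_ext
        · apply pullback.hom_ext <;> simp [canInv, pullback.condition]
        · simp [canInv] }
    (canHom_snd T i)

lemma canIso_hom_left : (canIso (u := u) T i).hom.left = canHom T i := rfl

lemma canIso_comm {Z : Scheme.{u}} {i j : ι} (x₀ : Z ⟶ U i) (x₁ : Z ⟶ U j)
    (h : x₀ ≫ u i = x₁ ≫ u j) (v : Lifts (((toDDFam u).obj T).obj i) x₀)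
    (w : Lifts (((ofSigma u).obj ((toDD (Sigma.desc u)).obj T)).obj i) x₀)
    (hw : w.1 = v.1 ≫ (canIso T i).hom.left) :
    (((ofSigma u).obj ((toDD (Sigma.desc u)).obj T)).φ x₀ x₁ h w).1 =
      (((toDDFam u).obj T).φ x₀ x₁ h v).1 ≫ (canIso T j).hom.left := by
  let v₀ : Z ⟶ pullback (u i) T.hom := v.1
  let w₀ : Z ⟶ pullback (pullback.fst (Sigma.desc u) T.hom) (Sigma.ι U i) := w.1
  have hv₀ : v₀ ≫ pullback.fst (u i) T.hom = x₀ := v.2
  have hw₀ : w₀ = v₀ ≫ canHom T i := hw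
  have hv : (w₀ ≫ pullback.fst _ _) ≫ pullback.fst (Sigma.desc u) T.hom = x₀ ≫ Sigma.ι U i := by
    rw [hw₀]; simp [reassoc_of% hv₀]
  let v₁ : Z ⟶ pullback (u j) T.hom := (((toDDFam u).obj T).φ x₀ x₁ h v).1
  have h1 : v₁ ≫ pullback.fst (u j) T.hom = x₁ := (((toDDFam u).obj T).φ x₀ x₁ h v).2
  have h2 : v₁ ≫ pullback.snd (u j) T.hom = v₀ ≫ pullback.snd (u i) T.hom := pullback.lift_snd _ _ _
  let w₁ : Z ⟶ pullback (pullback.fst (Sigma.desc u) T.hom) (Sigma.ι U j) :=
    (((ofSigma u).obj ((toDD (Sigma.desc u)).obj T)).φ x₀ x₁ h w).1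
  show w₁ = v₁ ≫ canHom T j
  apply pullback.hom_ext
  · refine (ofSigma_φ_fst _ x₀ x₁ h w hv).trans ?_
    show pullback.lift (x₁ ≫ Sigma.ι U j)
      ((w₀ ≫ pullback.fst _ _) ≫ pullback.snd (Sigma.desc u) T.hom) _ = _
    apply pullback.hom_ext
    · simp [reassoc_of% h1]
    · simp [hw₀, h2]
  · rw [Category.assoc, canHom_snd, h1]
    exact (((ofSigma u).obj ((toDD (Sigma.desc u)).obj T)).φ x₀ x₁ h w).2

end canonical

theorem nonempty_ofSigma_toDD (T : Over S) :
    Nonempty ((toDDFam u).obj T ≅ (ofSigma u).obj ((toDD (Sigma.desc u)).obj T)) := by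
  let e := canIso (u := u) T
  let hom : (toDDFam u).obj T ⟶ (ofSigma u).obj ((toDD (Sigma.desc u)).obj T) :=
    ⟨fun i => (e i).hom, fun Z i j x₀ x₁ h v w hw => canIso_comm T x₀ x₁ h v w hw⟩
  let inv : (ofSigma u).obj ((toDD (Sigma.desc u)).obj T) ⟶ (toDDFam u).obj T :=
    ⟨fun i => (e i).inv, fun Z i j x₀ x₁ h w v hv => by
      have hi : ∀ k, (e k).inv.left ≫ (e k).hom.left = 𝟙 _ := fun k => by
        simp [← Over.comp_left]
      have hw : w.1 = v.1 ≫ (e i).hom.left := by rw [hv, Category.assoc, hi, Category.comp_id]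
      rw [canIso_comm T x₀ x₁ h v w hw, Category.assoc, ← Over.comp_left, (canIso T j).hom_inv_id]
      simp⟩
  exact ⟨⟨hom, inv, by ext1; funext i; simp [hom, inv], by ext1; funext i; simp [hom, inv]⟩⟩

lemma surjective_desc_of_mem (hu : Presieve.ofArrows U u ∈ Scheme.fpqcPrecoverage S) :
    Surjective (Sigma.desc u) := by
  refine ⟨fun s => ?_⟩
  obtain ⟨i, x, rfl⟩ : ∃ i, s ∈ Set.range (u i) := by
    have := hu.2
    rw [Scheme.ofArrows_mem_precoverage_iff] at this
    exact this.1 s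
  exact ⟨Sigma.ι U i x, by rw [← Scheme.Hom.comp_apply, Sigma.ι_desc]⟩

lemma flat_of_mem (hu : Presieve.ofArrows U u ∈ Scheme.fpqcPrecoverage S) (i : ι) : Flat (u i) := by
  have := hu.2
  rw [Scheme.ofArrows_mem_precoverage_iff] at this
  exact this.2 i

lemma flat_desc_of_mem (hu : Presieve.ofArrows U u ∈ Scheme.fpqcPrecoverage S) :
    Flat (Sigma.desc u) :=
  (IsZariskiLocalAtSource.iff_of_openCover (P := @Flat) (sigmaOpenCover U)).mpr fun i => by
    simpa using flat_of_mem hu i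

lemma exists_affine_pieces (hu : Presieve.ofArrows U u ∈ Scheme.fpqcPrecoverage S) {W : S.Opens}
    (hW : IsAffineOpen W) : ∃ (n : ℕ) (a : Fin n → ι) (V : ∀ k, (U (a k)).Opens),
      (∀ k, IsAffineOpen (V k)) ∧ ⋃ k, u (a k) '' (V k) = W := by
  let 𝒰 : PreZeroHypercover S := ⟨ι, U, u⟩
  have : QuasiCompactCover 𝒰 := by
    rw [← Scheme.presieve₀_mem_qcPrecoverage_iff]
    exact hu.1
  obtain ⟨n, a, V, hV, hcov⟩ :=
    QuasiCompactCover.exists_isAffineOpen_of_isCompact (𝒰 := 𝒰) hW.isCompact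
  exact ⟨n, a, V, hV, hcov⟩

lemma isFpqcMor_desc_of_mem (hu : Presieve.ofArrows U u ∈ Scheme.fpqcPrecoverage S) :
    IsFpqcMor (Sigma.desc u) := by
  have := flat_desc_of_mem hu
  have := surjective_desc_of_mem hu
  refine ⟨⟨?_, ?_⟩⟩
  · rw [← PreZeroHypercover.presieve₀_singleton.{u, u+1, u}, Scheme.presieve₀_mem_qcPrecoverage_iff]
    refine ⟨fun {W} hW => ?_⟩
    obtain ⟨n, a, V, hV, hcov⟩ := exists_affine_pieces hu hW
    refine .of_finite (κ := Fin n) (fun _ => PUnit.unit) (fun k => Sigma.ι U (a k) ''ᵁ V k)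
      (fun k => (hV k).isCompact.image (Sigma.ι U (a k)).continuous) ?_
    rw [← hcov]
    refine Set.iUnion_congr fun k => ?_
    ext s
    constructor
    have e : ∀ x, Sigma.desc u (Sigma.ι U (a k) x) = u (a k) x := fun x => by
      rw [← Scheme.Hom.comp_apply, Sigma.ι_desc]
    · rintro ⟨_, ⟨x, hx, rfl⟩, rfl⟩
      exact ⟨x, hx, (e x).symm⟩
    · rintro ⟨x, hx, rfl⟩
      exact ⟨_, ⟨x, hx, rfl⟩, (Sigma.ι_desc u (a k)).symm ▸ rfl⟩
  · show Presieve.singleton (Sigma.desc u) ∈ Scheme.precoverage @Flat S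
    rw [Scheme.singleton_mem_precoverage_iff]
    exact ⟨(Sigma.desc u).surjective, inferInstance⟩

/-- Effectivity of a family from the affine case. -/
theorem isEffective_of_affine_case (P : MorphismProperty Scheme.{u}) [P.IsStableUnderBaseChange]
    (h2 : ∀ (m : ℕ) (Y V : Fin m → Scheme.{u}) (q : ∀ j, Y j ⟶ V j), (∀ j, P (q j)) →
      P (Limits.Sigma.map q))
    (h3 : ∀ (X S : Scheme.{u}) (p : X ⟶ S), IsAffine X → IsAffine S → Flat p → Surjective p →
      ∀ D : SchDD p, P D.obj.hom → ∃ U : Over S, Nonempty ((toDD p).obj U ≅ D))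
    (hu : Presieve.ofArrows U u ∈ Scheme.fpqcPrecoverage S) (D : SchDDFam u)
    (hD : ∀ i, P (D.obj i).hom) : D.IsEffective := by
  have := flat_desc_of_mem hu
  have := surjective_desc_of_mem hu
  have := isFpqcMor_desc_of_mem hu
  obtain ⟨T, ⟨eT⟩⟩ : ∃ T : Over S, Nonempty ((toDD (Sigma.desc u)).obj T ≅ sigmaDD D) := by
    refine effective_of_subcovers P h3 _ _ fun W hW => ?_
    obtain ⟨n, a, V, hV, hcov⟩ := exists_affine_pieces hu hW
    let Y : Fin n → Scheme.{u} := fun k => (V k).toScheme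
    let Y' : ULift.{u} (Fin n) → Scheme.{u} := fun k => Y k.down
    let e : ∀ k : ULift.{u} (Fin n), Y' k ⟶ U (a k.down) := fun k => (V k.down).ι
    let h : (∐ Y') ⟶ ∐ U := Sigma.desc fun k => e k ≫ Sigma.ι U (a k.down)
    have hle : Set.range h ⊆ Set.range (Sigma.desc u ⁻¹ᵁ W).ι := by
      rw [Scheme.Opens.range_ι]
      rintro _ ⟨z, rfl⟩
      obtain ⟨⟨k, y⟩, rfl⟩ := (sigmaMk Y').surjective z
      show Sigma.desc u (h (sigmaMk Y' ⟨k, y⟩)) ∈ W
      simp only [sigmaMk_mk, ← Scheme.Hom.comp_apply, h, Sigma.ι_desc_assoc, Category.assoc,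
        Sigma.ι_desc]
      exact hcov.le (Set.mem_iUnion_of_mem k.down ⟨y.1, y.2, rfl⟩)
    let g := IsOpenImmersion.lift (Sigma.desc u ⁻¹ᵁ W).ι h hle
    have hg : g ≫ (Sigma.desc u ⁻¹ᵁ W).ι = h := IsOpenImmersion.lift_fac _ _ _
    have : ∀ k, IsAffine (Y' k) := fun k => hV k.down
    have hflat : Flat h := (IsZariskiLocalAtSource.iff_of_openCover (P := @Flat)
      (sigmaOpenCover Y')).mpr fun k => by
        simp only [h, sigmaOpenCover_f, Sigma.ι_desc, e]
        infer_instance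
    refine ⟨∐ Y', g, inferInstance, ?_, ⟨fun w => ?_⟩, ?_⟩
    · have : Flat (g ≫ (Sigma.desc u ⁻¹ᵁ W).ι) := hg.symm ▸ hflat
      exact MorphismProperty.of_postcomp (W := @Flat) (W' := @IsOpenImmersion) g _ inferInstance this
    · obtain ⟨k, y, hy, e'⟩ := Set.mem_iUnion.mp (hcov.ge w.2)
      refine ⟨Sigma.ι Y' ⟨k⟩ ⟨y, hy⟩, W.ι.isOpenEmbedding.injective ?_⟩
      simp only [← Scheme.Hom.comp_apply, Category.assoc, morphismRestrict_ι, reassoc_of% hg, h,
        Sigma.ι_desc_assoc, Sigma.ι_desc, e]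
      exact e'
    · rw [hg]
      obtain ⟨Φ, hΦ⟩ := exists_isPullback_sigmaMap (fun i => (D.obj i).hom) (fun k : ULift.{u} (Fin n) => a k.down) e
      show P (pullback.snd (Limits.Sigma.map fun i => (D.obj i).hom) h)
      rw [← hΦ.isoPullback_inv_snd, P.cancel_left_of_respectsIso]
      -- reindex along `ULift`
      let Z : ULift.{u} (Fin n) → Scheme.{u} := fun k => pullback (D.obj (a k.down)).hom (e k)
      let q₀ : ∀ k : ULift.{u} (Fin n), Z k ⟶ Y' k := fun k => pullback.snd _ _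
      have h' := h2 n (fun k => Z ⟨k⟩) Y (fun k => q₀ ⟨k⟩)
        (fun k => P.pullback_snd _ _ (hD _))
      let eZ : (∐ fun k : Fin n => Z ⟨k⟩) ≅ ∐ Z := Sigma.reindex Equiv.ulift.symm Z
      let eY : (∐ Y) ≅ ∐ Y' := Sigma.reindex Equiv.ulift.symm Y'
      show P (Limits.Sigma.map q₀)
      have : Limits.Sigma.map q₀ = eZ.inv ≫ (Limits.Sigma.map fun k : Fin n => q₀ ⟨k⟩) ≫ eY.hom := by
        rw [Iso.eq_inv_comp]
        refine Sigma.hom_ext _ _ fun k => ?_
        have z1 : Sigma.ι (fun k : Fin n => Z ⟨k⟩) k ≫ eZ.hom = Sigma.ι Z ⟨k⟩ :=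
          Sigma.ι_reindex_hom Equiv.ulift.symm Z k
        have y1 : Sigma.ι Y k ≫ eY.hom = Sigma.ι Y' ⟨k⟩ :=
          Sigma.ι_reindex_hom Equiv.ulift.symm Y' k
        rw [reassoc_of% z1, Limits.Sigma.ι_map, Limits.Sigma.ι_map_assoc, y1]
      rw [this, P.cancel_left_of_respectsIso, P.cancel_right_of_respectsIso]
      exact h'
  obtain ⟨e⟩ := nonempty_ofSigma_sigmaDD D
  refine ⟨T, ⟨?_ ≪≫ ((ofSigma u).mapIso eT ≪≫ e)⟩⟩
  exact (nonempty_ofSigma_toDD T).some

end Groth.Agent.Desc59
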