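import Groth.Agent.Desc59.QSheaf
import Groth.Prelude.Def_EtAssoc2
import Mathlib.CategoryTheory.Sites.Limits
import Mathlib.AlgebraicGeometry.Morphisms.Etale

/-!
The étale sheaf associated to a quasi-coherent module.
-/

set_option autoImplicit false
set_option backward.isDefEq.respectTransparency false
set_option backward.isDefEq.respectTransparency.types false
set_option backward.defeqAttrib.useBackward true
set_option linter.unusedSectionVars false

noncomputable section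

universe u

open CategoryTheory Limits AlgebraicGeometry Opposite TopologicalSpace
open Groth.Agent.QC70 Groth.Agent.QCPull72 Groth.Agent.LimTop61

namespace Groth.Agent.Desc59.EtAssocSheaf

variable {X Y Z : Scheme.{u}} (f : Y ⟶ X) (G : X.Modules) [G.IsQuasicoherent] (a : Z ⟶ Y) (M : Z.Modules)

/-- Semilinear natural maps out of the sections of an inverse image agree if they agree on pulled back sections. -/
theorem eq_of_unit (L L' : ∀ (V : Y.Opens) (W : Z.Opens), W ≤ a ⁻¹ᵁ V → (Γ((Scheme.Modules.pullback f).obj G, V) →+ Γ(M, W)))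
    (hs : ∀ V W hW r y, L V W hW (r • y) = a.appLE V W hW r • L V W hW y)
    (hs' : ∀ V W hW r y, L' V W hW (r • y) = a.appLE V W hW r • L' V W hW y)
    (hn : ∀ V W hW V' W' hW' (hV : V' ≤ V) (hWW : W' ≤ W) y,
      L V' W' hW' (res _ hV y) = res M hWW (L V W hW y))
    (hn' : ∀ V W hW V' W' hW' (hV : V' ≤ V) (hWW : W' ≤ W) y,
      L' V' W' hW' (res _ hV y) = res M hWW (L' V W hW y))
    (hu : ∀ (U : X.Opens) V W hW (e : V ≤ f ⁻¹ᵁ U) x, L V W hW (unitSec f G e x) = L' V W hW (unitSec f G e x))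
    (V : Y.Opens) (W : Z.Opens) (hW : W ≤ a ⁻¹ᵁ V) (y : Γ((Scheme.Modules.pullback f).obj G, V)) :
    L V W hW y = L' V W hW y := by
  refine section_ext M _ _ fun p hp => ?_
  obtain ⟨U, hU, hpU, -⟩ := exists_isAffineOpen_mem_and_subset (U := (⊤ : X.Opens)) (x := f (a p)) trivial
  obtain ⟨V₀, hV₀, hpV, hle⟩ := exists_isAffineOpen_mem_and_subset (U := V ⊓ f ⁻¹ᵁ U) (x := a p) ⟨hW hp, hpU⟩
  refine ⟨W ⊓ a ⁻¹ᵁ V₀, inf_le_left, ⟨hp, hpV⟩, ?_⟩
  rw [← hn V W hW V₀ _ inf_le_right (hle.trans inf_le_left) inf_le_left,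
    ← hn' V W hW V₀ _ inf_le_right (hle.trans inf_le_left) inf_le_left]
  generalize res ((Scheme.Modules.pullback f).obj G) (hle.trans inf_le_left) y = y₀
  have hy : y₀ ∈ Submodule.span Γ(Y, V₀) (Set.range (unitSec f G (hle.trans inf_le_right))) := by
    rw [span_unitSec_eq_top f G hU hV₀ (hle.trans inf_le_right)]
    exact Submodule.mem_top
  induction hy using Submodule.span_induction with
  | mem z hz =>
    obtain ⟨x, rfl⟩ := hz
    exact hu U _ _ _ _ x
  | zero => rw [map_zero, map_zero]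
  | add z z' _ _ h h' => rw [map_add, map_add, h, h']
  | smul r z _ h => rw [hs, hs', h]

variable {f} {h : Z ⟶ X} (e : a ≫ f = h)

/-- transitivity of transition maps -/
theorem tr_tr {Z' : Scheme.{u}} (a' : Z' ⟶ Z) {h' : Z' ⟶ X} (e' : a' ≫ h = h') {aa : Z' ⟶ Y} (eaa : a' ≫ a = aa)
    (e'' : aa ≫ f = h') {V : Y.Opens} {W : Z.Opens} {W' : Z'.Opens} (hW : W ≤ a ⁻¹ᵁ V) (hW' : W' ≤ a' ⁻¹ᵁ W)
    (hW'' : W' ≤ aa ⁻¹ᵁ V) (y : Γ((Scheme.Modules.pullback f).obj G, V)) :
    QSheaf.tr e' G hW' (QSheaf.tr e G hW y) = QSheaf.tr e'' G hW'' y := by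
  subst eaa
  have hle : ∀ {V' : Y.Opens} {W'' : Z'.Opens}, W'' ≤ (a' ≫ a) ⁻¹ᵁ V' → W'' ≤ a' ⁻¹ᵁ (a ⁻¹ᵁ V') := fun h => h
  have key := eq_of_unit f G (a' ≫ a) ((Scheme.Modules.pullback h').obj G)
    (fun V' W'' hh => (QSheaf.tr e' G (hle hh)).comp (QSheaf.tr e G (le_refl (a ⁻¹ᵁ V'))))
    (fun V' W'' hh => QSheaf.tr e'' G hh)
    (fun V' W'' hh r z => (congrArg (QSheaf.tr e' G (hle hh)) (QSheaf.tr_smul e G (le_refl (a ⁻¹ᵁ V')) r z)).trans
      ((QSheaf.tr_smul e' G (hle hh) _ _).trans (congrArg (· • _) (ConcreteCategory.congr_hom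
        (Scheme.Hom.appLE_comp_appLE a' a V' (a ⁻¹ᵁ V') W'' le_rfl (hle hh)) r))))
    (fun V' W'' hh r z => QSheaf.tr_smul e'' G hh r z)
    (fun V₁ W₁ h₁ V₂ W₂ h₂ hV hWW z => (congrArg (QSheaf.tr e' G (hle h₂))
      (QSheaf.tr_res e G (le_refl (a ⁻¹ᵁ V₁)) (le_refl (a ⁻¹ᵁ V₂)) hV (a.preimage_mono hV) z)).trans
      (QSheaf.tr_res e' G (hle h₁) (hle h₂) (a.preimage_mono hV) hWW _))
    (fun V₁ W₁ h₁ V₂ W₂ h₂ hV hWW z => QSheaf.tr_res e'' G h₁ h₂ hV hWW z)
    (fun U V' W'' hh ee x => by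
      have w1 : a ⁻¹ᵁ V' ≤ h ⁻¹ᵁ U := by
        rw [← e, Scheme.Hom.comp_preimage]
        exact a.preimage_mono ee
      have w2 : W'' ≤ h' ⁻¹ᵁ U := by
        rw [← e', Scheme.Hom.comp_preimage]
        exact (hle hh).trans (a'.preimage_mono w1)
      exact (congrArg (QSheaf.tr e' G (hle hh)) (QSheaf.tr_unitSec e G ee (le_refl _) w1 x)).trans
        ((QSheaf.tr_unitSec e' G w1 (hle hh) w2 x).trans (QSheaf.tr_unitSec e'' G ee hh w2 x).symm))
    V W' hW'' y
  refine Eq.trans ?_ key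
  refine Eq.trans ?_ (rfl : QSheaf.tr e' G (hle hW'') (QSheaf.tr e G (le_refl (a ⁻¹ᵁ V)) y) = _)
  have h1 : QSheaf.tr e G hW y = res _ hW (QSheaf.tr e G (le_refl (a ⁻¹ᵁ V)) y) := by
    rw [← QSheaf.tr_res e G (le_refl (a ⁻¹ᵁ V)) hW (le_refl V) hW y, res_self]
  rw [h1, QSheaf.tr_res e' G (hle hW'') hW' hW (le_refl W'), res_self]

theorem tr_id {V : Y.Opens} {W : Y.Opens} (e₁ : 𝟙 Y ≫ f = f) (hW : W ≤ (𝟙 Y : Y ⟶ Y) ⁻¹ᵁ V)
    (hWV : W ≤ V) (y : Γ((Scheme.Modules.pullback f).obj G, V)) :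
    QSheaf.tr e₁ G hW y = res _ hWV y := by
  exact eq_of_unit f G (𝟙 Y) ((Scheme.Modules.pullback f).obj G) (fun V' W' hh => QSheaf.tr e₁ G hh)
    (fun V' W' hh => AddMonoidHom.mk' (fun z => res _ (show W' ≤ V' from hh) z) fun z z' => res_add _ z z')
    (fun V' W' hh r z => QSheaf.tr_smul e₁ G hh r z)
    (fun V' W' hh r z => (res_smul _ r z).trans (by
      congr 1))
    (fun V₁ W₁ h₁ V₂ W₂ h₂ hV hWW z => QSheaf.tr_res e₁ G h₁ h₂ hV hWW z)
    (fun V₁ W₁ h₁ V₂ W₂ h₂ hV hWW z => by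
      show res _ _ (res _ _ z) = res _ _ (res _ _ z)
      rw [res_res, res_res])
    (fun U V' W' hh ee x => by
      show QSheaf.tr e₁ G hh _ = res _ _ _
      rw [QSheaf.tr_unitSec e₁ G ee hh ((show W' ≤ V' from hh).trans ee), unitSec, unitSec, res_res]) V W hW y

omit [G.IsQuasicoherent] in
theorem congr_eq {A B : Scheme.{u}} {k k' : A ⟶ B} (ek : k = k') (N : B.Modules) :
    eqToHom (congrArg (fun h => (Scheme.Modules.pullback h).obj N) ek) = (Scheme.Modules.pullbackCongr ek).hom.app N := by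
  subst ek
  simp [Scheme.Modules.pullbackCongr]

omit [G.IsQuasicoherent] in
theorem step2a_eq {S : Scheme.{u}} (F : S.Modules) {U U' : S.Etale} (g : U' ⟶ U) :
    EtAssoc.step2a F g = (pullbackCompIso U.hom g.left (Over.w g.hom)).hom.app F := by
  rw [EtAssoc.step2a, congr_eq (Over.w g.hom) F]
  rfl

omit [G.IsQuasicoherent] in
theorem resMap_eq {S : Scheme.{u}} (F : S.Modules) {U U' : S.Etale} (g : U' ⟶ U) (y : EtAssoc.obj F U) :
    EtAssoc.resMap F g y = QSheaf.tr (Over.w g.hom) F (le_top : (⊤ : U'.left.Opens) ≤ g.left ⁻¹ᵁ ⊤) y := by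
  show (EtAssoc.step2a F g).app ⊤ _ = ((pullbackCompIso U.hom g.left (Over.w g.hom)).hom.app F).app ⊤ _
  rw [step2a_eq]
  refine congrArg _ ?_
  show _ = res _ _ _
  exact rfl

section Sheaf

variable {S : Scheme.{u}} (F : S.Modules) [F.IsQuasicoherent]

/-- sections on an étale scheme -/
abbrev Sec (U : S.Etale) : Type u := EtAssoc.obj F U

/-- restriction -/
def rs {U U' : S.Etale} (g : U' ⟶ U) : Sec F U →+ Sec F U' :=
  QSheaf.tr (Over.w g.hom) F (le_top : (⊤ : U'.left.Opens) ≤ g.left ⁻¹ᵁ ⊤)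

theorem rs_comp {U U' U'' : S.Etale} (g : U' ⟶ U) (g' : U'' ⟶ U') (y : Sec F U) :
    rs F g' (rs F g y) = rs F (g' ≫ g) y :=
  tr_tr F g.left (Over.w g.hom) g'.left (Over.w g'.hom) rfl (Over.w (g' ≫ g).hom) _ _ _ y

theorem rs_id {U : S.Etale} (y : Sec F U) : rs F (𝟙 U) y = y :=
  (tr_id F (Over.w (𝟙 U : U ⟶ U).hom) _ le_rfl y).trans (res_self _)

/-- the presheaf -/
def psh : S.Etaleᵒᵖ ⥤ AddCommGrpCat.{u + 1} where
  obj U := AddCommGrpCat.of (ULift.{u + 1} (Sec F U.unop))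
  map g := AddCommGrpCat.ofHom (AddMonoidHom.mk' (fun y => ULift.up (rs F g.unop y.down))
    fun y y' => ULift.ext _ _ (map_add (rs F g.unop) y.down y'.down))
  map_id U := by
    ext y
    exact rs_id F y.down
  map_comp g g' := by
    ext y
    exact (rs_comp F g.unop g'.unop y.down).symm

/-- the inverse image of `F` on an étale scheme -/
abbrev NU (U : S.Etale) : U.left.Modules := (Scheme.Modules.pullback U.hom).obj F

/-- a section as a section of the inverse image along a morphism -/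
def lft {U : S.Etale} {T : Scheme.{u}} (a : T ⟶ U.left) {h : T ⟶ S} (e : a ≫ U.hom = h) {W : T.Opens}
    (y : Γ((Scheme.Modules.pullback h).obj F, W)) : Γ((Scheme.Modules.pullback a).obj (NU F U), W) :=
  ((pullbackCompIso U.hom a e).inv.app F).app W y

theorem hom_lft {U : S.Etale} {T : Scheme.{u}} (a : T ⟶ U.left) {h : T ⟶ S} (e : a ≫ U.hom = h) {W : T.Opens}
    (y : Γ((Scheme.Modules.pullback h).obj F, W)) :
    ((pullbackCompIso U.hom a e).hom.app F).app W (lft F a e y) = y :=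
  congr(Scheme.Modules.Hom.app $((pullbackCompIso U.hom a e).inv_hom_id_app F) W y)

theorem hom_injective {U : S.Etale} {T : Scheme.{u}} (a : T ⟶ U.left) {h : T ⟶ S} (e : a ≫ U.hom = h) {W : T.Opens} :
    Function.Injective (((pullbackCompIso U.hom a e).hom.app F).app W) := fun y y' he => by
  have h1 : ∀ z, ((pullbackCompIso U.hom a e).inv.app F).app W (((pullbackCompIso U.hom a e).hom.app F).app W z) = z :=
    fun z => congr(Scheme.Modules.Hom.app $((pullbackCompIso U.hom a e).hom_inv_id_app F) W z)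
  rw [← h1 y, ← h1 y', he]

theorem hom_res_lft {U : S.Etale} {T : Scheme.{u}} (a : T ⟶ U.left) {h : T ⟶ S} (e : a ≫ U.hom = h) {W W' : T.Opens}
    (hW : W' ≤ W) (y : Γ((Scheme.Modules.pullback h).obj F, W)) :
    ((pullbackCompIso U.hom a e).hom.app F).app W' (res ((Scheme.Modules.pullback a).obj (NU F U)) hW (lft F a e y)) =
      res ((Scheme.Modules.pullback h).obj F) hW y :=
  (app_res ((pullbackCompIso U.hom a e).hom.app F) hW (lft F a e y)).trans (congrArg _ (hom_lft F a e y))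

/-- transition maps over an étale scheme and over the base agree -/
theorem hom_tr {U : S.Etale} {Q T : Scheme.{u}} (g : Q ⟶ U.left) {hq : Q ⟶ S} (eq : g ≫ U.hom = hq)
    (a : T ⟶ Q) {h : T ⟶ U.left} (e : a ≫ g = h) {ht : T ⟶ S} (et : h ≫ U.hom = ht) (ea : a ≫ hq = ht)
    {V : Q.Opens} {W : T.Opens} (hW : W ≤ a ⁻¹ᵁ V) (y : Γ((Scheme.Modules.pullback g).obj (NU F U), V)) :
    ((pullbackCompIso U.hom h et).hom.app F).app W (QSheaf.tr e (NU F U) hW y) =
      QSheaf.tr ea F hW (((pullbackCompIso U.hom g eq).hom.app F).app V y) := by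
  have : (NU F U).IsQuasicoherent := QCPull72.isQuasicoherent_pullback _ _
  exact eq_of_unit g (NU F U) a ((Scheme.Modules.pullback ht).obj F)
    (fun V' W' hh => (((pullbackCompIso U.hom h et).hom.app F).app W').hom.comp (QSheaf.tr e (NU F U) hh))
    (fun V' W' hh => (QSheaf.tr ea F hh).comp (((pullbackCompIso U.hom g eq).hom.app F).app V').hom)
    (fun V' W' hh r z => by
      refine (congrArg (((pullbackCompIso U.hom h et).hom.app F).app W') (QSheaf.tr_smul e (NU F U) hh r z)).trans ?_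
      exact Scheme.Modules.Hom.app_smul _ _ _)
    (fun V' W' hh r z => by
      refine (congrArg (QSheaf.tr ea F hh) (Scheme.Modules.Hom.app_smul _ r z)).trans ?_
      exact QSheaf.tr_smul ea F hh _ _)
    (fun V₁ W₁ h₁ V₂ W₂ h₂ hV hWW z => by
      refine (congrArg (((pullbackCompIso U.hom h et).hom.app F).app W₂) (QSheaf.tr_res e (NU F U) h₁ h₂ hV hWW z)).trans ?_
      exact app_res _ hWW _)
    (fun V₁ W₁ h₁ V₂ W₂ h₂ hV hWW z => by
      refine (congrArg (QSheaf.tr ea F h₂) (app_res _ hV z)).trans ?_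
      exact QSheaf.tr_res ea F h₁ h₂ hV hWW _)
    (fun U₀ V' W' hh ee x => by
      have w : W' ≤ h ⁻¹ᵁ U₀ := by
        rw [← e, Scheme.Hom.comp_preimage]
        exact hh.trans (a.preimage_mono ee)
      show ((pullbackCompIso U.hom h et).hom.app F).app W' (QSheaf.tr e (NU F U) hh (unitSec g (NU F U) ee x)) =
        QSheaf.tr ea F hh (QSheaf.tr eq F ee x)
      rw [QSheaf.tr_unitSec e (NU F U) ee hh w, tr_tr F g eq a ea e et ee hh w]
      rfl) V W hW y

/-- a morphism of étale schemes is flat -/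
theorem flat_left {U U' : S.Etale} (g : U' ⟶ U) : Flat g.left := by
  have : Etale U.hom := U.prop
  have : Etale (g.left ≫ U.hom) := by rw [Over.w g.hom]; exact U'.prop
  have : Etale g.left := Etale.of_comp g.left U.hom
  infer_instance

theorem tr_comp_le {T Q : Scheme.{u}} (a : T ⟶ Q) : (⊤ : T.Opens) ≤ a ⁻¹ᵁ ⊤ := fun _ _ => trivial

theorem etale_left {U U' : S.Etale} (g : U' ⟶ U) : Etale g.left := by
  have : Etale U.hom := U.prop
  have : Etale (g.left ≫ U.hom) := by rw [Over.w g.hom]; exact U'.prop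
  exact Etale.of_comp g.left U.hom

theorem etale_fst {U V W : S.Etale} (g : U ⟶ W) (k : V ⟶ W) :
    Etale (pullback.fst g.left k.left ≫ U.hom) := by
  have := etale_left k
  have : Etale (pullback.fst g.left k.left) := inferInstance
  have : Etale U.hom := U.prop
  infer_instance

/-- the fibre product in the small étale site -/
def pb {U V W : S.Etale} (g : U ⟶ W) (k : V ⟶ W) : S.Etale :=
  have := etale_fst g k
  Scheme.Etale.mk (pullback.fst g.left k.left ≫ U.hom)

/-- first projection -/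
def pl {U V W : S.Etale} (g : U ⟶ W) (k : V ⟶ W) : pb g k ⟶ U :=
  MorphismProperty.Over.homMk (pullback.fst g.left k.left) rfl trivial

/-- second projection -/
def pr {U V W : S.Etale} (g : U ⟶ W) (k : V ⟶ W) : pb g k ⟶ V :=
  MorphismProperty.Over.homMk (pullback.snd g.left k.left) (by
    have e1 : k.left ≫ W.hom = V.hom := Over.w k.hom
    have e2 : g.left ≫ W.hom = U.hom := Over.w g.hom
    show pullback.snd g.left k.left ≫ V.hom = pullback.fst g.left k.left ≫ U.hom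
    rw [← e1, ← e2, ← Category.assoc, ← Category.assoc, pullback.condition]) trivial

theorem pb_cond {U V W : S.Etale} (g : U ⟶ W) (k : V ⟶ W) : pl g k ≫ g = pr g k ≫ k := by
  apply MorphismProperty.Over.Hom.ext
  exact pullback.condition

theorem unit_eq_lft {U V : S.Etale} (g : V ⟶ U) (m : Sec F U) :
    unitSec g.left (NU F U) (le_refl (g.left ⁻¹ᵁ ⊤)) m =
      res _ le_top (lft F g.left (Over.w g.hom) (rs F g m)) := by
  apply hom_injective F g.left (Over.w g.hom)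
  rw [hom_res_lft]
  show QSheaf.tr (Over.w g.hom) F (le_refl _) m = res _ _ (QSheaf.tr (Over.w g.hom) F _ m)
  rw [← QSheaf.tr_res (Over.w g.hom) F (tr_comp_le g.left) (le_refl (g.left ⁻¹ᵁ ⊤)) (le_refl _) le_top, res_self]

theorem rs_ext {U : S.Etale} {J : Type*} {Z : J → S.Etale} (g : ∀ j, Z j ⟶ U)
    (hsurj : ∀ p : U.left, ∃ j z, (g j).left z = p) (m m' : Sec F U) (h : ∀ j, rs F (g j) m = rs F (g j) m') :
    m = m' := by
  have : ∀ j, Flat (g j).left := fun j => flat_left (g j)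
  refine QSheaf.unitSec_ext (fun j => (g j).left) (NU F U) (U := ⊤) (fun p _ => hsurj p) m m' fun j => ?_
  rw [unit_eq_lft, unit_eq_lft, h j]

theorem rs_eq_of_lft {U V : S.Etale} (g : V ⟶ U) (m : Sec F U) (y : Sec F V)
    (h : unitSec g.left (NU F U) (le_refl (g.left ⁻¹ᵁ ⊤)) m = res _ le_top (lft F g.left (Over.w g.hom) y)) :
    rs F g m = y := by
  rw [unit_eq_lft] at h
  have h4 := congrArg (fun z => ((pullbackCompIso U.hom g.left (Over.w g.hom)).hom.app F).app (g.left ⁻¹ᵁ ⊤) z) h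
  simp only [hom_res_lft] at h4
  have h5 := congrArg (res ((Scheme.Modules.pullback V.hom).obj F) (tr_comp_le g.left)) h4
  rw [res_res, res_res, res_self, res_self] at h5
  exact h5

theorem lft_compat {U V W : S.Etale} (g : U ⟶ W) (k : V ⟶ W) (y : Sec F U) (y' : Sec F V)
    (hyy : rs F (pl g k) y = rs F (pr g k) y') {T : Scheme.{u}} (a : T ⟶ U.left) (b : T ⟶ V.left) {h : T ⟶ W.left}
    (ea : a ≫ g.left = h) (eb : b ≫ k.left = h) {O : T.Opens} (wa : O ≤ a ⁻¹ᵁ (g.left ⁻¹ᵁ ⊤))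
    (wb : O ≤ b ⁻¹ᵁ (k.left ⁻¹ᵁ ⊤)) :
    QSheaf.tr ea (NU F W) wa (res _ le_top (lft F g.left (Over.w g.hom) y)) =
      QSheaf.tr eb (NU F W) wb (res _ le_top (lft F k.left (Over.w k.hom) y')) := by
  apply hom_injective F h (rfl : h ≫ W.hom = h ≫ W.hom)
  have ea' : a ≫ U.hom = h ≫ W.hom := by
    rw [← show g.left ≫ W.hom = U.hom from Over.w g.hom, ← Category.assoc, ea]
  have eb' : b ≫ V.hom = h ≫ W.hom := by
    rw [← show k.left ≫ W.hom = V.hom from Over.w k.hom, ← Category.assoc, eb]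
  let c : T ⟶ (pb g k).left := pullback.lift a b (ea.trans eb.symm)
  have ec : c ≫ (pb g k).hom = h ≫ W.hom := by
    show c ≫ pullback.fst g.left k.left ≫ U.hom = _
    rw [pullback.lift_fst_assoc, ea']
  rw [hom_tr F g.left (Over.w g.hom) a ea rfl ea', hom_tr F k.left (Over.w k.hom) b eb rfl eb', hom_res_lft, hom_res_lft,
    QSheaf.tr_res ea' F (tr_comp_le a) _ _ le_top, QSheaf.tr_res eb' F (tr_comp_le b) _ _ le_top]
  refine congrArg (res _ _) ?_
  rw [← tr_tr F (pl g k).left (Over.w (pl g k).hom) c ec (pullback.lift_fst a b (ea.trans eb.symm)) ea'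
      (tr_comp_le _) (tr_comp_le c) _,
    ← tr_tr F (pr g k).left (Over.w (pr g k).hom) c ec (pullback.lift_snd a b (ea.trans eb.symm)) eb'
      (tr_comp_le _) (tr_comp_le c) _]
  exact congrArg (QSheaf.tr ec F (tr_comp_le c)) hyy

theorem exists_amalgamation {W : S.Etale} {R : Sieve W} (hR : R ∈ S.smallEtaleTopology W)
    (x : ∀ ⦃Z : S.Etale⦄ (g : Z ⟶ W), R g → Sec F Z)
    (hx : ∀ ⦃Z Z' : S.Etale⦄ (g : Z ⟶ W) (hg : R g) (k : Z' ⟶ Z), rs F k (x g hg) = x (k ≫ g) (R.downward_closed hg k)) :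
    ∃! m : Sec F W, ∀ ⦃Z : S.Etale⦄ (g : Z ⟶ W) (hg : R g), rs F g m = x g hg := by
  have hpt : ∀ w : W.left, ∃ (Z : S.Etale) (g : Z ⟶ W), R g ∧ ∃ z, g.left z = w := by
    intro w
    obtain ⟨C, _, _, hC⟩ := (Scheme.mem_smallGrothendieckTopology _ _).1 hR
    obtain ⟨i, z, hz⟩ := ((Scheme.ofArrows_mem_precoverage_iff _).1 C.mem₀).1 w
    exact ⟨_, (C.f i).asOverProp S, hC _ _ ⟨i⟩, z, hz⟩
  choose Z g hg hz using hpt
  let q : ∀ w, (Z w).left ⟶ W.left := fun w => (g w).left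
  have : ∀ w, Flat (q w) := fun w => flat_left (g w)
  have : (NU F W).IsQuasicoherent := QCPull72.isQuasicoherent_pullback _ _
  have : QuasiCompactCover (⟨W.left, fun w => (Z w).left, q⟩ : PreZeroHypercover.{u} W.left) :=
    ⟨fun {U} hU => .of_isOpenMap (fun w => (q w).continuous) (fun w => by
      have := etale_left (g w)
      exact (q w).isOpenMap) (fun p _ => ⟨p, hz p⟩) U.2 hU.isCompact⟩
  have hcompat : ∀ {U V : S.Etale} (k : U ⟶ W) (hk : R k) (k' : V ⟶ W) (hk' : R k'),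
      rs F (pl k k') (x k hk) = rs F (pr k k') (x k' hk') := by
    intro U V k hk k' hk'
    rw [hx, hx]
    congr 1
    exact pb_cond k k'
  obtain ⟨n, hn, huniq⟩ := QSheaf.existsUnique_descend q (NU F W) ⊤
    (fun w => res _ le_top (lft F (q w) (Over.w (g w).hom) (x (g w) (hg w))))
    (fun i j T a b h ea eb => lft_compat F (g i) (g j) _ _ (hcompat (g i) (hg i) (g j) (hg j)) a b ea eb _ _)
  refine ⟨n, fun Z' k hk => rs_ext F (fun w => pl k (g w)) (fun p => ?_) _ _ fun w => ?_,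
    fun m hm => huniq m fun w => by rw [unit_eq_lft, hm (g w) (hg w)]⟩
  · obtain ⟨z, hz'⟩ := hz (k.left p)
    obtain ⟨r, hr, -⟩ := Scheme.Pullback.exists_preimage_pullback (f := k.left) (g := q (k.left p)) p z hz'.symm
    exact ⟨k.left p, r, hr⟩
  · rw [rs_comp, pb_cond, ← rs_comp, rs_eq_of_lft F (g w) n (x (g w) (hg w)) (hn w), hcompat k hk (g w) (hg w)]

theorem exists_sheaf : ∃ G : EtCoh.Ab S, EtAssoc.IsAssoc F G := by
  have hsh : Presheaf.IsSheaf S.smallEtaleTopology (psh F) := by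
    rw [Presheaf.isSheaf_iff_isSheaf_forget _ _ (forget AddCommGrpCat.{u + 1}), isSheaf_iff_isSheaf_of_type]
    intro W R hR x hx
    have hx' := hx.to_sieveCompatible
    obtain ⟨m, hm, huniq⟩ := exists_amalgamation F hR (fun Z g hg => (x g hg).down)
      (fun Z Z' g hg k => (congrArg ULift.down (hx' g k hg)).symm)
    exact ⟨ULift.up m, fun Z g hg => ULift.ext _ _ (hm g hg),
      fun m' hm' => ULift.ext _ _ (huniq m'.down fun Z g hg => congrArg ULift.down (hm' g hg))⟩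
  refine ⟨⟨psh F, hsh⟩, fun U => AddEquiv.refl _, fun U U' g s => ?_⟩
  exact (resMap_eq F g s.down).symm

end Sheaf

end Groth.Agent.Desc59.EtAssocSheaf
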