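import Groth.Agent.RelGCI94.CI
import Groth.Agent.RelGCI94.FibreRegular
import Groth.Agent.CAlg1.CMPoly
import Groth.Agent.CAlg1.SkFlat
import Groth.Agent.S9437
import Groth.Agent.Hensel20.SerreEquiv
import Groth.Agent.Hensel20.FlatUnram
import Groth.Agent.Unr55.SmoothStalk

/-!
Syntomic morphisms have Cohen-Macaulay fibres; CM and (S_k) are local for the syntomic topology.
-/

set_option autoImplicit false
universe u

open IsLocalRing CategoryTheory AlgebraicGeometry

namespace Groth.Agent.Desc59.SyntomicCM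

theorem cmLocal_quotient {L : Type u} [CommRing L] [IsLocalRing L]
    (hL : LocCoh.IsCohenMacaulayLocalRing L)
    (xs : List L) (hx : ∀ x ∈ xs, x ∈ maximalIdeal L)
    (hreg : RingTheory.Sequence.IsWeaklyRegular L xs) :
    LocCoh.IsCohenMacaulayLocalRing (L ⧸ Ideal.ofList xs) := by
  have : IsNoetherianRing L := hL.toIsNoetherian
  have : Nontrivial (L ⧸ Ideal.ofList xs) := Ideal.Quotient.nontrivial_iff.mpr
    (ne_top_of_le_ne_top (maximalIdeal.isMaximal L).ne_top (Ideal.span_le.mpr hx))
  have := IsLocalRing.of_surjective' (Ideal.Quotient.mk (Ideal.ofList xs)) Ideal.Quotient.mk_surjective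
  have h := EGA4Alg4.isCohenMacaulayModule_quotient (A := L) (M := L) hL.supportDim_eq_depth hreg hx
  let e : (L ⧸ Ideal.ofList xs • (⊤ : Submodule L L)) ≃ₗ[L] L ⧸ Ideal.ofList xs :=
    Submodule.quotEquivOfEq _ _ (by rw [smul_eq_mul, Ideal.mul_top])
  unfold LocCoh.IsCohenMacaulayModule at h
  rw [Module.supportDim_eq_of_equiv e, EGA4Alg4.depth_eq_of_equiv e,
    Module.supportDim_quotient_eq_ringKrullDim, CAlg1.depth_quotient_self,
    ← Module.supportDim_self_eq_ringKrullDim] at h
  exact { supportDim_eq_depth := h }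

/-- Local complete intersections over a field are Cohen-Macaulay. -/
theorem cm_of_isLCIOver {k : Type u} [Field k] {S : Type u} [CommRing S] [Algebra k S]
    (h : Synt.IsLCIOver k S) : LocCoh.IsCohenMacaulayRing S := by
  have := h.1
  have : IsNoetherianRing S := Algebra.FiniteType.isNoetherianRing k S
  refine ⟨fun p _ => ?_⟩
  obtain ⟨g, hg, hgci⟩ := h.2 ⟨p, inferInstance⟩
  obtain ⟨n, c, F, hF, ⟨e⟩⟩ := (RelGCI94.isGlobalCI_iff (k := k)).mp hgci
  let Sg := Localization.Away g
  have hdisj : Disjoint ((Submonoid.powers g : Submonoid S) : Set S) (p : Set S) :=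
    (Ideal.disjoint_powers_iff_notMem_of_isPrime _).mpr hg
  let p' := p.map (algebraMap S Sg)
  have : p'.IsPrime := IsLocalization.isPrime_of_isPrime_disjoint (.powers g) _ p ‹_› hdisj
  have hp' : p'.comap (algebraMap S Sg) = p :=
    IsLocalization.under_map_of_isPrime_disjoint (.powers g) _ ‹_› hdisj
  have : IsLocalization.AtPrime (Localization.AtPrime p') p := by
    have := IsLocalization.isLocalization_isLocalization_atPrime_isLocalization (.powers g)
      (Localization.AtPrime p') p'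
    simpa only [hp'] using this
  refine CAlg1.cm_of_ringEquiv
    (IsLocalization.algEquiv p.primeCompl (Localization.AtPrime p') (Localization.AtPrime p)).toRingEquiv ?_
  -- the presentation
  let A := MvPolynomial (Fin n) k
  let K : Ideal A := Ideal.span (Set.range F)
  let Pb : Ideal (A ⧸ K) := p'.comap e.symm.toRingEquiv.toRingHom
  have hPb : Pb.IsPrime := inferInstanceAs (Ideal.comap _ p').IsPrime
  let P : Ideal A := Pb.comap (Ideal.Quotient.mk K)
  have : P.IsPrime := inferInstanceAs (Ideal.comap _ Pb).IsPrime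
  have hFP : ∀ i, F i ∈ P := fun i => by
    show Ideal.Quotient.mk K (F i) ∈ Pb
    have hi : F i ∈ K := Ideal.subset_span (Set.mem_range_self i)
    rw [Ideal.Quotient.eq_zero_iff_mem.mpr hi]
    exact zero_mem _
  have hnt : Nontrivial (Synt.RelGCIRing k n c F) := Ideal.Quotient.nontrivial_iff.mpr fun ht =>
    hPb.ne_top (by
      rw [Ideal.eq_top_iff_one]
      have hle : K ≤ P := Ideal.span_le.mpr (by rintro _ ⟨i, rfl⟩; exact hFP i)
      have : (1 : A) ∈ P := hle ((Ideal.eq_top_iff_one _).mp ht)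
      have h1 : Ideal.Quotient.mk K (1 : A) ∈ Pb := this
      rwa [map_one] at h1)
  obtain ⟨hcn, hdim⟩ := (RelGCI94.isRelGCI_field_iff _ _ _).mp hF hnt
  let L := Localization.AtPrime P
  have hreg := RelGCI94.isWeaklyRegular_of_dim F P hFP hcn hdim.le
  have hmem : ∀ x ∈ List.ofFn (algebraMap A L ∘ F), x ∈ maximalIdeal L := by
    intro x hx
    obtain ⟨i, rfl⟩ := List.mem_ofFn.1 hx
    exact (IsLocalization.AtPrime.to_map_mem_maximal_iff L P _).2 (hFP i)
  have hcm := cmLocal_quotient (CAlg1.cm_of_isRegularLocalRing L) _ hmem hreg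
  have hxs : Ideal.ofList (List.ofFn (algebraMap A L ∘ F)) = K.map (algebraMap A L) := by
    rw [Ideal.map_span, Ideal.ofList]
    congr 1
    ext x
    simp
  rw [hxs] at hcm
  have hcomap : Pb.comap (Ideal.Quotient.mk K) = P := rfl
  have := Gor18.isLocalization_atPrime_quotient P L K Pb hcomap
  have hcm' := CAlg1.cm_of_ringEquiv (B := Localization.AtPrime Pb)
    (IsLocalization.algEquiv Pb.primeCompl (L ⧸ K.map (algebraMap A L))
      (Localization.AtPrime Pb)).toRingEquiv hcm
  refine CAlg1.cm_of_ringEquiv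
    (IsLocalization.ringEquivOfRingEquiv (Localization.AtPrime Pb) (Localization.AtPrime p')
      e.symm.toRingEquiv (T := p'.primeCompl) (M := Pb.primeCompl) ?_) hcm'
  ext x
  exact ⟨by rintro ⟨y, hy, rfl⟩; exact hy,
    fun hx => ⟨e x, show e.symm (e x) ∉ p' by rw [e.symm_apply_apply]; exact hx, e.symm_apply_apply x⟩⟩

theorem hasSk_of_cm {R : Type u} [CommRing R] [LocCoh.IsCohenMacaulayRing R] (k : ℕ) :
    LocCoh.HasSk k R R := by
  rw [CAlg1.hasSk_self_iff]
  intro p _
  have h := LocCoh.IsCohenMacaulayRing.isCohenMacaulayLocalRing_localization (R := R) p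
  have := h.toIsNoetherian
  have h' := (CAlg1.cmLocal_iff).mp h
  rw [IsLocalization.AtPrime.ringKrullDim_eq_height p, WithBot.coe_le_coe] at h'
  exact (min_le_right _ _).trans h'

theorem cmLocal_of_flat_local (A B : Type u) [CommRing A] [CommRing B] [IsLocalRing A]
    [IsNoetherianRing A] [Algebra A B] [Module.Flat A B] (hB : LocCoh.IsCohenMacaulayLocalRing B)
    [hl : IsLocalHom (algebraMap A B)] : LocCoh.IsCohenMacaulayLocalRing A := by
  have := hB.toIsLocalRing
  have : IsNoetherianRing B := hB.toIsNoetherian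
  have h := (CAlg1.cmLocal_iff).mp hB
  rw [Unr55.ringKrullDim_eq_add_of_flat A B, CAlg1.depth_of_flat_local A B, WithBot.coe_add] at h
  let I := (maximalIdeal A).map (algebraMap A B)
  have hI : I ≤ maximalIdeal B := ((IsLocalRing.local_hom_TFAE (algebraMap A B)).out 0 2).mp hl
  have : Nontrivial (B ⧸ I) := Ideal.Quotient.nontrivial_iff.mpr
    (ne_top_of_le_ne_top (maximalIdeal.isMaximal B).ne_top hI)
  have h2 : ((LocCoh.depth B (B ⧸ I) : ℕ∞) : WithBot ℕ∞) ≤ ringKrullDim (B ⧸ I) := by
    rw [← Module.supportDim_quotient_eq_ringKrullDim]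
    exact EGA4Alg4.depth_le_supportDim
  have h1 : ((LocCoh.depth A A : ℕ∞) : WithBot ℕ∞) ≤ ringKrullDim A := by
    rw [← Module.supportDim_self_eq_ringKrullDim]
    exact EGA4Alg4.depth_le_supportDim
  rw [CAlg1.cmLocal_iff]
  obtain ⟨a, ha⟩ := EGA4Alg4.exists_depth_eq (A := A) (M := A)
  obtain ⟨b, hb⟩ := EGA4Alg4.exists_depth_eq (A := B) (M := B ⧸ I)
  obtain ⟨a', ha'⟩ := EGA4Alg4.exists_supportDim_eq (A := A) (M := A)
  obtain ⟨b', hb'⟩ := EGA4Alg4.exists_supportDim_eq (A := B) (M := B ⧸ I)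
  rw [Module.supportDim_self_eq_ringKrullDim] at ha'
  rw [Module.supportDim_quotient_eq_ringKrullDim] at hb'
  rw [ha', hb', ha, hb] at h
  rw [ha, ha'] at h1 ⊢
  rw [hb, hb'] at h2
  norm_cast at h h1 h2 ⊢
  omega

end Groth.Agent.Desc59.SyntomicCM
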