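import Groth.Agent.Desc59.FpqcMor
import Groth.Prelude.Def_Desc
import Mathlib.AlgebraicGeometry.Morphisms.FlatDescent
import Mathlib.AlgebraicGeometry.Sites.Fpqc

/-!
The gluing morphism of a descent datum for schemes, invariant morphisms and quotients.
-/

set_option backward.isDefEq.respectTransparency false

universe u

open CategoryTheory CategoryTheory.Limits AlgebraicGeometry

namespace Groth.Agent.Desc59

open Desc

variable {X S : Scheme.{u}} {p : X ⟶ S} (D : SchDD p)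

/-- `X ×_S V` for a descent datum with underlying scheme `V`. -/
noncomputable abbrev src : Scheme.{u} := pullback p (D.obj.hom ≫ p)

lemma src_cond :
    (pullback.snd p (D.obj.hom ≫ p) ≫ D.obj.hom) ≫ p = pullback.fst p (D.obj.hom ≫ p) ≫ p := by
  rw [Category.assoc]; exact pullback.condition.symm

/-- The gluing morphism `X ×_S V ⟶ V`. -/
noncomputable def θ : src D ⟶ D.obj.left :=
  (D.φ (pullback.snd p (D.obj.hom ≫ p) ≫ D.obj.hom) (pullback.fst p (D.obj.hom ≫ p)) (src_cond D)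
    ⟨pullback.snd p (D.obj.hom ≫ p), rfl⟩).1

@[reassoc (attr := simp)]
lemma θ_hom : θ D ≫ D.obj.hom = pullback.fst p (D.obj.hom ≫ p) :=
  (D.φ _ _ (src_cond D) ⟨_, rfl⟩).2

lemma φ_congr {T : Scheme.{u}} {x₀ x₀' x₁ x₁' : T ⟶ X} (h0 : x₀ = x₀') (h1 : x₁ = x₁')
    (h : x₀ ≫ p = x₁ ≫ p) (h' : x₀' ≫ p = x₁' ≫ p) (v : Lifts D.obj x₀) (v' : Lifts D.obj x₀')
    (hv : v.1 = v'.1) : (D.φ x₀ x₁ h v).1 = (D.φ x₀' x₁' h' v').1 := by
  subst h0 h1; rw [Subtype.ext hv]

lemma φ_eq {T : Scheme.{u}} (x₀ x₁ : T ⟶ X) (h : x₀ ≫ p = x₁ ≫ p) (v : Lifts D.obj x₀) :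
    (D.φ x₀ x₁ h v).1 =
      pullback.lift x₁ v.1 (by rw [← Category.assoc, v.2, h]) ≫ θ D := by
  obtain ⟨v, rfl⟩ := v
  let g : T ⟶ src D := pullback.lift x₁ v (by rw [← Category.assoc, h])
  have e0 : g ≫ pullback.snd p (D.obj.hom ≫ p) ≫ D.obj.hom = v ≫ D.obj.hom := by simp [g]
  have e1 : g ≫ pullback.fst p (D.obj.hom ≫ p) = x₁ := by simp [g]
  have hv : v ≫ D.obj.hom = g ≫ pullback.snd p (D.obj.hom ≫ p) ≫ D.obj.hom := e0.symm
  have key := D.φ_natural g _ _ (src_cond D) (by simp only [Category.assoc, pullback.condition])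
    ⟨pullback.snd p (D.obj.hom ≫ p), rfl⟩ ⟨v, hv⟩ (by simp [g])
  exact (φ_congr D e0.symm e1.symm _ _ _ _ rfl).trans key

@[reassoc (attr := simp)]
lemma diag_θ : pullback.lift D.obj.hom (𝟙 D.obj.left) (by simp) ≫ θ D = 𝟙 D.obj.left := by
  rw [← φ_eq D D.obj.hom D.obj.hom rfl ⟨𝟙 _, Category.id_comp _⟩, D.φ_self]

lemma lift_θ_trans {T : Scheme.{u}} (v : T ⟶ D.obj.left) (x₁ x₂ : T ⟶ X)
    (h₁ : x₁ ≫ p = v ≫ D.obj.hom ≫ p) (h₂ : x₂ ≫ p = v ≫ D.obj.hom ≫ p) :
    pullback.lift x₂ (pullback.lift x₁ v h₁ ≫ θ D) (by simp [h₂, h₁]) ≫ θ D =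
      pullback.lift x₂ v h₂ ≫ θ D := by
  have h0 : (v ≫ D.obj.hom) ≫ p = x₁ ≫ p := by rw [Category.assoc, h₁]
  have h1' : x₁ ≫ p = x₂ ≫ p := h₁.trans h₂.symm
  have := congr(Subtype.val $(D.φ_comp (v ≫ D.obj.hom) x₁ x₂ h0 h1' ⟨v, rfl⟩))
  simp only [φ_eq] at this
  exact this

/-- A morphism out of the underlying scheme is invariant. -/
def IsInvariant {Y : Scheme.{u}} (q : D.obj.left ⟶ Y) : Prop :=
  θ D ≫ q = pullback.snd p (D.obj.hom ≫ p) ≫ q

variable {D} in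
lemma IsInvariant.φ_comp {Y : Scheme.{u}} {q : D.obj.left ⟶ Y} (hq : IsInvariant D q)
    {T : Scheme.{u}} (x₀ x₁ : T ⟶ X) (h : x₀ ≫ p = x₁ ≫ p) (v : Lifts D.obj x₀) :
    (D.φ x₀ x₁ h v).1 ≫ q = v.1 ≫ q := by
  rw [φ_eq, Category.assoc, hq, pullback.lift_snd_assoc]

/-- `π` exhibits `U` as the descended scheme of `D`. -/
structure IsQuot (U : Over S) (π : D.obj.left ⟶ U.left) : Prop where
  isPullback : IsPullback π D.obj.hom U.hom p
  invariant : IsInvariant D π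

variable {D}

namespace IsQuot

variable {U : Over S} {π : D.obj.left ⟶ U.left} (hπ : IsQuot D U π)

include hπ

/-- Two points with the same image in `U` are related by `θ`. -/
lemma lift_θ_eq {T : Scheme.{u}} (v v' : T ⟶ D.obj.left) (h : v ≫ π = v' ≫ π) :
    pullback.lift (v' ≫ D.obj.hom) v (by
      have := congr($h ≫ U.hom)
      simp only [Category.assoc, hπ.isPullback.w] at this
      simp [this]) ≫ θ D = v' := by
  apply hπ.isPullback.hom_ext
  · rw [Category.assoc, hπ.invariant, pullback.lift_snd_assoc, h]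
  · simp

lemma compatible {Y : Scheme.{u}} {q : D.obj.left ⟶ Y} (hq : IsInvariant D q)
    {T : Scheme.{u}} (v v' : T ⟶ D.obj.left) (h : v ≫ π = v' ≫ π) : v ≫ q = v' ≫ q := by
  conv_rhs => rw [← hπ.lift_θ_eq v v' h]
  rw [Category.assoc, hq, pullback.lift_snd_assoc]

lemma flat [Flat p] : Flat π := MorphismProperty.of_isPullback hπ.isPullback.flip inferInstance

lemma surjective [Surjective p] : Surjective π :=
  MorphismProperty.of_isPullback hπ.isPullback.flip inferInstance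

lemma quasiCompact [QuasiCompact p] : QuasiCompact π :=
  MorphismProperty.of_isPullback hπ.isPullback.flip inferInstance

lemma isFpqcMor [IsFpqcMor p] : IsFpqcMor π := IsFpqcMor.of_isPullback hπ.isPullback.flip

variable [Flat p] [Surjective p]

lemma epi : Epi π :=
  have := hπ.flat
  have := hπ.surjective
  Flat.epi_of_flat_of_surjective π

lemma hom_ext {Y : Scheme.{u}} {a b : U.left ⟶ Y} (h : π ≫ a = π ≫ b) : a = b :=
  have := hπ.epi
  (cancel_epi π).mp h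

lemma existsUnique_desc [IsFpqcMor p] {Y : Scheme.{u}} {q : D.obj.left ⟶ Y}
    (hq : IsInvariant D q) : ∃! t : U.left ⟶ Y, π ≫ t = q := by
  have := hπ.flat
  have := hπ.surjective
  have := hπ.isFpqcMor
  have e : EffectiveEpi π := inferInstance
  refine ⟨EffectiveEpi.desc π q fun g₁ g₂ h => hπ.compatible hq g₁ g₂ h,
    EffectiveEpi.fac π q _, fun t ht => hπ.hom_ext (ht.trans (EffectiveEpi.fac π q _).symm)⟩

/-- Two quotients are isomorphic. -/
lemma exists_iso [IsFpqcMor p] {U' : Over S} {π' : D.obj.left ⟶ U'.left}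
    (hπ' : IsQuot D U' π') : ∃ e : U.left ≅ U'.left, π ≫ e.hom = π' := by
  obtain ⟨a, ha, -⟩ := hπ.existsUnique_desc hπ'.invariant
  obtain ⟨b, hb, -⟩ := hπ'.existsUnique_desc hπ.invariant
  exact ⟨⟨a, b, hπ.hom_ext (by simp [reassoc_of% ha, hb]),
    hπ'.hom_ext (by simp [reassoc_of% hb, ha])⟩, ha⟩

omit [Flat p] [Surjective p] in
/-- A quotient yields an isomorphism with the canonical descent datum. -/
lemma nonempty_iso : Nonempty ((toDD p).obj U ≅ D) := by
  let e : pullback p U.hom ≅ D.obj.left := hπ.isPullback.flip.isoPullback.symm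
  have he : e.hom ≫ D.obj.hom = pullback.fst p U.hom := by simp [e]
  have he' : e.hom ≫ π = pullback.snd p U.hom := by simp [e]
  have comm : ∀ ⦃T : Scheme.{u}⦄ (x₀ x₁ : T ⟶ X) (h : x₀ ≫ p = x₁ ≫ p)
      (v : Lifts (canonicalDD p U).obj x₀) (w : Lifts D.obj x₀), w.1 = v.1 ≫ e.hom →
      (D.φ x₀ x₁ h w).1 = ((canonicalDD p U).φ x₀ x₁ h v).1 ≫ e.hom := by
    intro T x₀ x₁ h v w hw
    apply hπ.isPullback.hom_ext
    · rw [hπ.invariant.φ_comp, hw, Category.assoc, Category.assoc, he']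
      simp [canonicalDD]
    · rw [(D.φ x₀ x₁ h w).2, Category.assoc, he]
      simp [canonicalDD]
  let i : ((toDD p).obj U).obj ≅ D.obj := Over.isoMk e he
  refine ⟨⟨⟨i.hom, comm⟩, ⟨i.inv, ?_⟩, ?_, ?_⟩⟩
  · intro T x₀ x₁ h v w hw
    have hi : i.inv.left ≫ e.hom = 𝟙 _ := congr(Over.Hom.left $i.inv_hom_id)
    have hw' : v.1 = w.1 ≫ e.hom := by
      rw [hw, Category.assoc, hi, Category.comp_id]
    rw [← cancel_mono e.hom]
    exact (comm x₀ x₁ h w v hw').symm.trans (by rw [Category.assoc, hi, Category.comp_id])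
  · ext1; exact i.hom_inv_id
  · ext1; exact i.inv_hom_id

end IsQuot

lemma exists_isQuot_iff :
    (∃ (U : Over S) (π : D.obj.left ⟶ U.left), IsQuot D U π) ↔
      ∃ U : Over S, Nonempty ((toDD p).obj U ≅ D) := by
  refine ⟨fun ⟨U, π, h⟩ => ⟨U, h.nonempty_iso⟩, fun ⟨U, ⟨e⟩⟩ => ?_⟩
  let i : D.obj ≅ ((toDD p).obj U).obj :=
    ⟨e.inv.hom, e.hom.hom, congr(SchDD.Hom.hom $e.inv_hom_id), congr(SchDD.Hom.hom $e.hom_inv_id)⟩
  refine ⟨U, i.hom.left ≫ pullback.snd p U.hom, ?_, ?_⟩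
  · refine IsPullback.of_iso_pullback ⟨?_⟩ ((Over.forget X).mapIso i ≪≫ pullbackSymmetry _ _) ?_ ?_
    · have := Over.w i.hom
      rw [Category.assoc, ← pullback.condition]
      exact (Category.assoc _ _ _).symm.trans (congr($this ≫ p))
    · simp
    · simpa [toDD, canonicalDD] using Over.w i.hom
  · let v : Lifts D.obj (pullback.snd p (D.obj.hom ≫ p) ≫ D.obj.hom) :=
      ⟨pullback.snd p (D.obj.hom ≫ p), rfl⟩
    have key := e.inv.comm _ _ (src_cond D) v (e.inv.push v) rfl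
    show θ D ≫ i.hom.left ≫ _ = _
    have : θ D = (D.φ _ _ (src_cond D) v).1 := rfl
    rw [this, ← Category.assoc, ← key]
    simp [toDD, canonicalDD, SchDD.Hom.push, v, i]

end Groth.Agent.Desc59
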