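import Groth.Agent.Desc59.DDIndQAEff
import Groth.Agent.Desc59.DDFppf
import Groth.Agent.FlatMor66.IndQA
import Mathlib.AlgebraicGeometry.AlgClosed.Basic

/-!
Effectivity relative to finite flat morphisms: orbits contained in ind-quasi-affine opens.
-/

set_option backward.isDefEq.respectTransparency false

universe u

open CategoryTheory CategoryTheory.Limits AlgebraicGeometry

namespace Groth.Agent.Desc59

open Desc

variable {X S : Scheme.{u}} {p : X ⟶ S} (D : SchDD p)

lemma isClosedMap_θ [UniversallyClosed p] : IsClosedMap (θ D) := by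
  rw [← swap_snd D, Scheme.Hom.comp_base, TopCat.coe_comp]
  exact (pullback.snd p (D.obj.hom ≫ p)).isClosedMap.comp
    (swap D).homeomorph.isClosedMap

/-- The orbit of a point. -/
def orbit (v : D.obj.left) : Set D.obj.left := satSet D {v}

lemma mem_orbit_self (v : D.obj.left) : v ∈ orbit D v := subset_satSet _ rfl

lemma orbit_finite [IsFinite p] (v : D.obj.left) : (orbit D v).Finite :=
  ((pullback.snd p (D.obj.hom ≫ p)).finite_preimage_singleton v).image _

lemma hom_eq_of_mem_orbit {v w : D.obj.left} (hw : w ∈ orbit D v) :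
    p (D.obj.hom w) = p (D.obj.hom v) := by
  obtain ⟨z, hz, rfl⟩ := hw
  rw [← (hz : _ = v)]
  simp only [← Scheme.Hom.comp_apply, Category.assoc]
  rw [θ_hom_assoc, pullback.condition]

/-- If every orbit lies in an open all whose quasi-compact opens over affines are quasi-affine,
then the datum is effective. -/
theorem effective_of_orbits [Flat p] [Surjective p] [IsFpqcMor p] [UniversallyClosed p]
    (h : ∀ v, ∃ U : D.obj.left.Opens, orbit D v ⊆ U ∧ MoreMor.IsIndQuasiAffineHom (U.ι ≫ D.obj.hom)) :
    ∃ W : Over S, Nonempty ((toDD p).obj W ≅ D) := by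
  refine exists_isQuot_iff.mp (exists_isQuot_of_cover fun v => ?_)
  obtain ⟨U, hU, hUqa⟩ := h v
  let C := θ D '' (pullback.snd p (D.obj.hom ≫ p) ⁻¹' (U : Set D.obj.left)ᶜ)
  have hC : IsClosed C := isClosedMap_θ D _
    (U.2.isClosed_compl.preimage (pullback.snd p (D.obj.hom ≫ p)).continuous)
  let O : D.obj.left.Opens := ⟨Cᶜ, hC.isOpen_compl⟩
  have hsymm : ∀ {A : Set D.obj.left} (z : ↑(src D)), θ D z ∈ satSet D A →
      pullback.snd p (D.obj.hom ≫ p) z ∈ satSet D A := by
    intro A z hz
    have := mem_satSet_of_rel (z := swap D z) (U := A) (by rwa [← Scheme.Hom.comp_apply, swap_snd])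
    rwa [← Scheme.Hom.comp_apply, swap_θ] at this
  have hsat : IsSat D O := isSat_of_le fun z hz hθ => hz (hsymm z hθ)
  have hvO : v ∈ O := by
    rintro ⟨z, hz, rfl⟩
    refine hz (hU ⟨swap D z, ?_, ?_⟩)
    · show _ = θ D z
      rw [← Scheme.Hom.comp_apply, swap_snd]
    · rw [← Scheme.Hom.comp_apply, swap_θ]
  have hOU : O ≤ U := fun w hw => by
    by_contra hwU
    exact hw (subset_satSet (Uᶜ : Set D.obj.left) hwU)
  have hind : MoreMor.IsIndQuasiAffineHom (restrictDD D hsat).obj.hom := by
    refine (FlatMor66.isIndQuasiAffineHom_iff _).mpr fun A hA W hWA hW => ?_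
    change O.toScheme.Opens at W
    let j := D.obj.left.homOfLE hOU
    have h1 := (FlatMor66.isIndQuasiAffineHom_iff _).mp hUqa A hA (j ''ᵁ W) (by
      rintro _ ⟨w, hw, rfl⟩
      have := hWA hw
      show (U.ι ≫ D.obj.hom) (j w) ∈ A
      rw [← Scheme.Hom.comp_apply, Scheme.homOfLE_ι_assoc]
      exact this) (hW.image j.continuous)
    exact FlatMor66.qa_congr (j.isoImage W) h1
  obtain ⟨Q, π', hπ⟩ := exists_isQuot_iff.mpr
    (effective_of_isIndQuasiAffineHom' p (restrictDD D hsat) hind)
  obtain ⟨π, hπ'⟩ := exists_isQuotOn_opensRange (restrictDDι D hsat) hπ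
  exact ⟨_, Q, π, by rwa [opensRange_restrictDDι], hπ'⟩

/-- A variant for opens which are affine. -/
theorem effective_of_orbits_affine [Flat p] [Surjective p] [IsFpqcMor p] [UniversallyClosed p]
    [IsFinite p] (h : ∀ v, ∃ U : D.obj.left.Opens, IsAffineOpen U ∧ orbit D v ⊆ U) :
    ∃ W : Over S, Nonempty ((toDD p).obj W ≅ D) := by
  refine effective_of_orbits D fun v => ?_
  obtain ⟨U, hU, hvU⟩ := h v
  refine ⟨U, hvU, (FlatMor66.isIndQuasiAffineHom_iff _).mpr fun A hA W _ hW => ?_⟩
  have : IsAffine U.toScheme := hU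
  have := FlatMor66.compactSpace_toScheme hW
  exact Scheme.IsQuasiAffine.of_isImmersion W.ι

lemma encard_orbit_le [IsFinite p] {d : ℕ}
    (hfib : ∀ (k : Type u) [Field k] [IsAlgClosed k] (y : Spec (CommRingCat.of k) ⟶ S),
      Set.encard {x : Spec (CommRingCat.of k) ⟶ X | x ≫ p = y} ≤ d)
    (v : D.obj.left) : (orbit D v).encard ≤ d := by
  let K := AlgebraicClosure (D.obj.left.residueField v)
  let a : D.obj.left.residueField v ⟶ CommRingCat.of K :=
    CommRingCat.ofHom (algebraMap (D.obj.left.residueField v) K)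
  let vK : Spec (CommRingCat.of K) ⟶ D.obj.left := Spec.map a ≫ D.obj.left.fromSpecResidueField v
  let y := vK ≫ D.obj.hom ≫ p
  let F : {x : Spec (CommRingCat.of K) ⟶ X | x ≫ p = y} → D.obj.left :=
    fun x => θ D ((pullback.lift x.1 vK x.2 : Spec (CommRingCat.of K) ⟶ src D) default)
  have : orbit D v ⊆ Set.range F := by
    rintro _ ⟨z, hz, rfl⟩
    change pullback.snd p (D.obj.hom ≫ p) z = v at hz
    obtain ⟨e, he, -⟩ := Scheme.Pullback.exists_preimage_pullback
      (f := pullback.snd p (D.obj.hom ≫ p)) (g := vK) z default (by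
        rw [hz, Scheme.Hom.comp_apply, D.obj.left.fromSpecResidueField_apply])
    let P := pullback (pullback.snd p (D.obj.hom ≫ p)) vK
    let π₂ : P ⟶ Spec (CommRingCat.of K) := pullback.snd _ _
    have : IsFinite π₂ := inferInstanceAs (IsFinite (pullback.snd _ _))
    have : DiscreteTopology P := by
      rw [discreteTopology_iff_isOpen_singleton]
      intro q
      have hd := π₂.isDiscrete_preimage_singleton default
      have : π₂ ⁻¹' {default} = Set.univ := Set.eq_univ_of_forall fun _ => Subsingleton.elim _ _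
      rw [this] at hd
      have := hd.1
      exact (Homeomorph.Set.univ P).isOpen_preimage.mp (isOpen_discrete _)
    let s := pointOfClosedPoint π₂ e (isClosed_discrete _)
    have hs : s ≫ π₂ = 𝟙 _ := pointOfClosedPoint_comp _ _ _
    have hse : s default = e := pointOfClosedPoint_apply _ _ _ _
    let x : Spec (CommRingCat.of K) ⟶ X :=
      s ≫ pullback.fst _ _ ≫ pullback.fst p (D.obj.hom ≫ p)
    have hxl : s ≫ pullback.fst _ _ ≫ pullback.snd p (D.obj.hom ≫ p) = vK := by
      rw [pullback.condition]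
      exact (reassoc_of% hs) vK
    have hx : x ≫ p = y := by
      simp only [x, y, Category.assoc, pullback.condition, reassoc_of% hxl]
    refine ⟨⟨x, hx⟩, ?_⟩
    show θ D ((pullback.lift x vK hx : _ ⟶ src D) default) = θ D z
    congr 1
    have : (pullback.lift x vK hx : _ ⟶ src D) = s ≫ pullback.fst _ _ := by
      apply pullback.hom_ext
      · simp [x]
      · simp [hxl]
    rw [this, Scheme.Hom.comp_apply, hse, he]
  refine (Set.encard_le_encard this).trans ?_
  rw [← Set.image_univ]
  refine (Set.encard_image_le _ _).trans ?_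
  rw [Set.encard_univ, ENat.card_coe_set_eq]
  exact hfib K y

end Groth.Agent.Desc59
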