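import Groth.Agent.Desc59.DDOfTheta
import Groth.Agent.Desc59.DDAffine
import Groth.Agent.Desc59.FlatHull
import Mathlib.CategoryTheory.Filtered.Basic

/-!
The affine hull of a saturated quasi-compact subset of a descent datum, with its descent datum.
-/

set_option backward.isDefEq.respectTransparency false

universe u

open CategoryTheory CategoryTheory.Limits AlgebraicGeometry Opposite

namespace Groth.Agent.Desc59

open Desc

variable {X S : Scheme.{u}} {p : X ⟶ S} (D : SchDD p)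

/-- A saturated quasi-compact subset stable under generalization. -/
structure IsSatQC (T : Set D.obj.left) : Prop where
  sat : ∀ z : ↑(src D), θ D z ∈ T ↔ pullback.snd p (D.obj.hom ≫ p) z ∈ T
  isCompact : IsCompact T
  gen : StableUnderGeneralization T

/-- Quasi-compact open neighbourhoods. -/
abbrev Nbhd (T : Set D.obj.left) : Type u :=
  {W : D.obj.left.Opens // IsCompact (W : Set D.obj.left) ∧ T ⊆ W}

variable {D}

lemma exists_compact_open_between {Y : Scheme.{u}} {K : Set Y} (hK : IsCompact K) {O : Y.Opens}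
    (h : K ⊆ O) : ∃ W : Y.Opens, IsCompact (W : Set Y) ∧ K ⊆ W ∧ W ≤ O := by
  have hcov : ∀ x : K, ∃ V : Y.Opens, IsAffineOpen V ∧ x.1 ∈ V ∧ V ≤ O := fun x => by
    obtain ⟨_, ⟨V, hV, rfl⟩, hxV, hVO⟩ :=
      Y.isBasis_affineOpens.exists_subset_of_mem_open (h x.2) O.2
    exact ⟨V, hV, hxV, hVO⟩
  choose V hV hxV hVO using hcov
  obtain ⟨t, ht⟩ := hK.elim_finite_subcover (fun x => (V x : Set Y)) (fun x => (V x).2)
    (fun x hx => Set.mem_iUnion.mpr ⟨⟨x, hx⟩, hxV ⟨x, hx⟩⟩)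
  refine ⟨⨆ x ∈ t, V x, ?_, ?_, iSup₂_le fun x _ => hVO x⟩
  · simp only [TopologicalSpace.Opens.coe_iSup]
    exact t.finite_toSet.isCompact_biUnion fun x _ => (hV x).isCompact
  · simpa using ht

variable {T : Set D.obj.left}

lemma IsSatQC.nonempty_nbhd (hT : IsSatQC D T) : Nonempty (Nbhd D T) := by
  obtain ⟨W, hW, hKW, -⟩ := exists_compact_open_between hT.isCompact (O := ⊤) (Set.subset_univ T)
  exact ⟨⟨W, hW, hKW⟩⟩

variable [QuasiSeparatedSpace D.obj.left]

lemma Nbhd.exists_le (W W' : Nbhd D T) : ∃ W'' : Nbhd D T, W''.1 ≤ W.1 ∧ W''.1 ≤ W'.1 :=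
  ⟨⟨W.1 ⊓ W'.1, QuasiSeparatedSpace.inter_isCompact _ _ W.1.2 W.2.1 W'.1.2 W'.2.1,
    Set.subset_inter W.2.2 W'.2.2⟩, inf_le_left, inf_le_right⟩

instance (W : Nbhd D T) : CompactSpace W.1.toScheme := isCompact_iff_compactSpace.mp W.2.1

lemma IsSatQC.isCofiltered (hT : IsSatQC D T) : IsCofiltered (Nbhd D T) :=
  have := hT.nonempty_nbhd
  have : IsCodirectedOrder (Nbhd D T) := ⟨fun W W' => Nbhd.exists_le W W'⟩
  inferInstance

variable (D T)

/-- The neighbourhoods as schemes. -/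
noncomputable def nbhdDiagram : Nbhd D T ⥤ Scheme.{u} where
  obj W := W.1.toScheme
  map f := D.obj.left.homOfLE (leOfHom f)
  map_id _ := D.obj.left.homOfLE_rfl _
  map_comp _ _ := (D.obj.left.homOfLE_homOfLE _ _).symm

/-- The rings of the neighbourhoods. -/
noncomputable def nbhdRing : (Nbhd D T)ᵒᵖ ⥤ CommRingCat.{u} := (nbhdDiagram D T).op ⋙ Scheme.Γ

/-- The affine hull of `T`. -/
noncomputable def Hull : Scheme.{u} := Spec (colimit (nbhdRing D T))

instance : IsAffine (Hull D T) := inferInstanceAs (IsAffine (Spec _))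

namespace Hull

variable {D T}

/-- The projection. -/
noncomputable def π (W : Nbhd D T) : Hull D T ⟶ Spec Γ(W.1.toScheme, ⊤) :=
  Spec.map (colimit.ι (nbhdRing D T) (op W))

/-- The transition maps of affine hulls. -/
noncomputable def tr {W W' : Nbhd D T} (h : W'.1 ≤ W.1) :
    Spec Γ(W'.1.toScheme, ⊤) ⟶ Spec Γ(W.1.toScheme, ⊤) :=
  Spec.map (D.obj.left.homOfLE h).appTop

omit [QuasiSeparatedSpace D.obj.left] in
@[reassoc (attr := simp)]
lemma toSpecΓ_tr {W W' : Nbhd D T} (h : W'.1 ≤ W.1) :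
    W'.1.toScheme.toSpecΓ ≫ tr h = D.obj.left.homOfLE h ≫ W.1.toScheme.toSpecΓ :=
  (Scheme.toSpecΓ_naturality _).symm

omit [QuasiSeparatedSpace D.obj.left] in
@[reassoc (attr := simp)]
lemma π_tr {W W' : Nbhd D T} (h : W'.1 ≤ W.1) : π W' ≫ tr h = π W := by
  refine (Spec.map_comp _ _).symm.trans (congrArg Spec.map ?_)
  exact colimit.w (nbhdRing D T) (homOfLE (show W' ≤ W from h)).op

lemma eq_toSpecΓ_map {Z : Scheme.{u}} {R : CommRingCat.{u}} (f : Z ⟶ Spec R) :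
    Z.toSpecΓ ≫ Spec.map ((Scheme.ΓSpecIso R).inv ≫ f.appTop) = f := by
  rw [Spec.map_comp, ← Scheme.toSpecΓ_naturality_assoc, toSpecΓ_SpecMap_ΓSpecIso_inv,
    Category.comp_id]

section lift

variable {Z : Scheme.{u}} (f : ∀ W : Nbhd D T, Z ⟶ Spec Γ(W.1.toScheme, ⊤))
  (hf : ∀ (W W' : Nbhd D T) (h : W'.1 ≤ W.1), f W' ≫ tr h = f W)

/-- Maps into the hull. -/
noncomputable def lift : Z ⟶ Hull D T :=
  Z.toSpecΓ ≫ Spec.map (colimit.desc (nbhdRing D T)
    ⟨Γ(Z, ⊤),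
      { app := fun W => (Scheme.ΓSpecIso Γ(W.unop.1.toScheme, ⊤)).inv ≫ (f W.unop).appTop
        naturality := fun W W' g => by
          dsimp
          rw [Category.comp_id, ← hf W.unop W'.unop (leOfHom g.unop), Scheme.Hom.comp_appTop]
          refine Eq.trans ?_ (Category.assoc _ _ _)
          refine Eq.trans (Category.assoc _ _ _).symm (congrArg (· ≫ (f W'.unop).appTop) ?_)
          exact Scheme.ΓSpecIso_inv_naturality _ }⟩)

omit [QuasiSeparatedSpace D.obj.left] in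
@[reassoc (attr := simp)]
lemma lift_π (W : Nbhd D T) : lift f hf ≫ π W = f W := by
  simp only [lift, π, Category.assoc]
  refine Eq.trans (congrArg (Z.toSpecΓ ≫ ·) ?_) (eq_toSpecΓ_map (f W))
  exact (Spec.map_comp _ _).symm.trans (congrArg Spec.map (colimit.ι_desc _ _))

end lift

omit [QuasiSeparatedSpace D.obj.left] in
lemma hom_ext {Z : Scheme.{u}} {a b : Z ⟶ Hull D T} (h : ∀ W, a ≫ π W = b ≫ π W) : a = b := by
  rw [← eq_toSpecΓ_map (R := colimit (nbhdRing D T)) a,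
    ← eq_toSpecΓ_map (R := colimit (nbhdRing D T)) b]
  refine congrArg (fun φ => Z.toSpecΓ ≫ Spec.map φ) (colimit.hom_ext fun W => ?_)
  have e := congr(Scheme.Hom.appTop $(h W.unop))
  simp only [Scheme.Hom.comp_appTop] at e
  have n := Scheme.ΓSpecIso_inv_naturality (colimit.ι (nbhdRing D T) W)
  simp only [reassoc_of% n]
  exact congrArg ((Scheme.ΓSpecIso _).inv ≫ ·) e

lemma point_ext (hT : IsSatQC D T) {a b : Hull D T} (h : ∀ W, π W a = π W b) : a = b := by
  have := hT.isCofiltered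
  apply PrimeSpectrum.ext
  ext x
  obtain ⟨W, y, rfl⟩ := Concrete.colimit_exists_rep (nbhdRing D T) x
  exact Iff.of_eq congr(y ∈ (PrimeSpectrum.asIdeal $(h W.unop)))

section overX

variable [IsAffine X] (hT : IsSatQC D T)

/-- The map to `X`. -/
noncomputable def homX : Hull D T ⟶ X :=
  π hT.nonempty_nbhd.some ≫ hullHom (hT.nonempty_nbhd.some.1.ι ≫ D.obj.hom)

omit [QuasiSeparatedSpace D.obj.left] in
@[reassoc (attr := simp)]
lemma tr_hullHom {W W' : Nbhd D T} (h : W'.1 ≤ W.1) :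
    tr h ≫ hullHom (W.1.ι ≫ D.obj.hom) = hullHom (W'.1.ι ≫ D.obj.hom) :=
  appTop_cancel W'.1.toScheme.toSpecΓ (by simp)

@[reassoc (attr := simp)]
lemma π_hullHom (W : Nbhd D T) : π W ≫ hullHom (W.1.ι ≫ D.obj.hom) = homX hT := by
  obtain ⟨W'', h, h'⟩ := Nbhd.exists_le W hT.nonempty_nbhd.some
  rw [homX, ← π_tr h, ← π_tr h', Category.assoc, Category.assoc, tr_hullHom, tr_hullHom]

end overX

section bar

variable {Z : Scheme.{u}} (f : Z ⟶ D.obj.left) (hf : ∀ z, f z ∈ T)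

omit [QuasiSeparatedSpace D.obj.left] in
lemma range_subset (W : Nbhd D T) (hf : ∀ z, f z ∈ T) : Set.range f ⊆ Set.range W.1.ι := by
  rw [Scheme.Opens.range_ι]
  rintro _ ⟨z, rfl⟩
  exact W.2.2 (hf z)

/-- The map to the hull induced by a map landing in `T`. -/
noncomputable def bar : Z ⟶ Hull D T :=
  lift (fun W => IsOpenImmersion.lift W.1.ι f (range_subset f W hf) ≫ W.1.toScheme.toSpecΓ)
    fun W W' h => by
      rw [Category.assoc, toSpecΓ_tr, ← Category.assoc]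
      congr 1
      rw [← cancel_mono W.1.ι]
      simp

omit [QuasiSeparatedSpace D.obj.left] in
lemma bar_π (W : Nbhd D T) (l : Z ⟶ W.1.toScheme) (hl : l ≫ W.1.ι = f) :
    bar f hf ≫ π W = l ≫ W.1.toScheme.toSpecΓ := by
  rw [bar, lift_π]
  congr 1
  rw [← cancel_mono W.1.ι]
  simp [hl]

omit [QuasiSeparatedSpace D.obj.left] in
lemma exists_bar_π (W : Nbhd D T) : ∃ l : Z ⟶ W.1.toScheme, l ≫ W.1.ι = f ∧
    bar f hf ≫ π W = l ≫ W.1.toScheme.toSpecΓ :=
  ⟨_, IsOpenImmersion.lift_fac _ _ (range_subset f W hf),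
    bar_π f hf W _ (IsOpenImmersion.lift_fac _ _ _)⟩

omit [QuasiSeparatedSpace D.obj.left] in
lemma comp_bar {Z' : Scheme.{u}} (g : Z' ⟶ Z) :
    g ≫ bar f hf = bar (g ≫ f) (fun z => hf (g z)) := by
  refine hom_ext fun W => ?_
  obtain ⟨l, hl, e⟩ := exists_bar_π f hf W
  rw [Category.assoc, e, bar_π (g ≫ f) _ W (g ≫ l) (by simp [hl]), Category.assoc]

omit [QuasiSeparatedSpace D.obj.left] in
lemma bar_congr {f' : Z ⟶ D.obj.left} (e : f = f') :
    bar f hf = bar f' (fun z => e ▸ hf z) := by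
  subst e; rfl

@[reassoc]
lemma bar_homX [IsAffine X] (hT : IsSatQC D T) : bar f hf ≫ homX hT = f ≫ D.obj.hom := by
  obtain ⟨W⟩ := hT.nonempty_nbhd
  obtain ⟨l, hl, e⟩ := exists_bar_π f hf W
  rw [← π_hullHom hT W, reassoc_of% e, toSpecΓ_hullHom, reassoc_of% hl]

end bar

end Hull

open Hull

variable {D T} [IsAffine X] [IsAffine S]

/-- `W'` is admissible for `W`. -/
def Adm (W W' : Nbhd D T) : Prop :=
  ∃ m : pullback p ((W'.1.ι ≫ D.obj.hom) ≫ p) ⟶ W.1.toScheme, m ≫ W.1.ι = srcι D W'.1 ≫ θ D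

omit [QuasiSeparatedSpace D.obj.left] [IsAffine X] [IsAffine S] in
lemma srcι_trans {W' W'' : Nbhd D T} (h : W''.1 ≤ W'.1) :
    pullback.map p ((W''.1.ι ≫ D.obj.hom) ≫ p) p ((W'.1.ι ≫ D.obj.hom) ≫ p) (𝟙 X)
        (D.obj.left.homOfLE h) (𝟙 S) (by simp) (by simp) ≫ srcι D W'.1 = srcι D W''.1 := by
  apply pullback.hom_ext <;> simp [srcι]

omit [QuasiSeparatedSpace D.obj.left] [IsAffine X] [IsAffine S] in
lemma Adm.mono {W W' W'' : Nbhd D T} (a : Adm W W') (h : W''.1 ≤ W'.1) : Adm W W'' := by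
  obtain ⟨m, hm⟩ := a
  exact ⟨_ ≫ m, (Category.assoc _ _ _).trans ((congrArg (_ ≫ ·) hm).trans
    ((Category.assoc _ _ _).symm.trans (congrArg (· ≫ θ D) (srcι_trans h))))⟩

omit [QuasiSeparatedSpace D.obj.left] [IsAffine X] [IsAffine S] in
lemma Adm.of_le {W₀ W W' : Nbhd D T} (a : Adm W W') (h : W.1 ≤ W₀.1) : Adm W₀ W' := by
  obtain ⟨m, hm⟩ := a
  exact ⟨m ≫ D.obj.left.homOfLE h, by simp [hm]⟩

omit [IsAffine X] [IsAffine S] [QuasiSeparatedSpace D.obj.left] in
/-- The graph lifts into the source. -/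
lemma diag_srcι {W : Nbhd D T} :
    pullback.lift (W.1.ι ≫ D.obj.hom) (𝟙 _) (by simp) ≫ srcι D W.1 =
      W.1.ι ≫ pullback.lift D.obj.hom (𝟙 D.obj.left) (by simp) := by
  apply pullback.hom_ext
  · simp [srcι]
  · simp [srcι]
    exact Category.id_comp _

instance (W : Nbhd D T) : CompactSpace ↑(pullback p ((W.1.ι ≫ D.obj.hom) ≫ p)) :=
  QuasiCompact.compactSpace_of_compactSpace (pullback.snd _ _)

instance (W : Nbhd D T) : QuasiSeparatedSpace W.1.toScheme :=
  quasiSeparatedSpace_of_quasiSeparated W.1.ι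

instance (W : Nbhd D T) :
    QuasiSeparatedSpace ↑(pullback p ((W.1.ι ≫ D.obj.hom) ≫ p)) :=
  quasiSeparatedSpace_of_quasiSeparated (pullback.snd _ _)

omit [IsAffine S] in
lemma toSpecΓ_hullHom_comp (W : Nbhd D T) :
    W.1.toScheme.toSpecΓ ≫ hullHom (W.1.ι ≫ D.obj.hom) ≫ p = (W.1.ι ≫ D.obj.hom) ≫ p :=
  toSpecΓ_hullHom_assoc _ _

variable [Flat p]

instance (W : Nbhd D T) : IsIso (baseMap p (toSpecΓ_hullHom_comp W)).appTop :=
  isIso_baseMap_appTop p _

namespace Adm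

variable {W W' : Nbhd D T} (a : Adm W W')

/-- The gluing morphism on affine hulls. -/
noncomputable def θfun :
    pullback p (hullHom (W'.1.ι ≫ D.obj.hom) ≫ p) ⟶ Spec Γ(W.1.toScheme, ⊤) :=
  (exists_appTop_fac (baseMap p (toSpecΓ_hullHom_comp W'))
    (a.choose ≫ W.1.toScheme.toSpecΓ)).choose

lemma baseMap_θfun (m : pullback p ((W'.1.ι ≫ D.obj.hom) ≫ p) ⟶ W.1.toScheme)
    (hm : m ≫ W.1.ι = srcι D W'.1 ≫ θ D) :
    baseMap p (toSpecΓ_hullHom_comp W') ≫ a.θfun = m ≫ W.1.toScheme.toSpecΓ := by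
  rw [show m = a.choose from (cancel_mono W.1.ι).mp (hm.trans a.choose_spec.symm)]
  exact (exists_appTop_fac (baseMap p (toSpecΓ_hullHom_comp W'))
    (a.choose ≫ W.1.toScheme.toSpecΓ)).choose_spec

@[reassoc]
lemma θfun_hullHom : a.θfun ≫ hullHom (W.1.ι ≫ D.obj.hom) = pullback.fst _ _ := by
  apply appTop_cancel (baseMap p (toSpecΓ_hullHom_comp W'))
  obtain ⟨m, hm⟩ := id a
  rw [reassoc_of% (a.baseMap_θfun m hm), toSpecΓ_hullHom, reassoc_of% hm, θ_hom, baseMap_fst]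
  simp [srcι]

end Adm

/-- The base change of the projection. -/
noncomputable def projW (hT : IsSatQC D T) (W' : Nbhd D T) :
    pullback p (homX hT ≫ p) ⟶ pullback p (hullHom (W'.1.ι ≫ D.obj.hom) ≫ p) :=
  pullback.map p (homX hT ≫ p) p _ (𝟙 X) (π W') (𝟙 S) (by simp) (by
    rw [Category.comp_id, π_hullHom_assoc hT])

omit [Flat p] [IsAffine S] in
@[reassoc (attr := simp)]
lemma projW_fst (hT : IsSatQC D T) (W' : Nbhd D T) :
    projW hT W' ≫ pullback.fst _ _ = pullback.fst p (homX hT ≫ p) := by simp [projW]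

omit [Flat p] [IsAffine S] in
@[reassoc (attr := simp)]
lemma projW_snd (hT : IsSatQC D T) (W' : Nbhd D T) :
    projW hT W' ≫ pullback.snd _ _ = pullback.snd p (homX hT ≫ p) ≫ π W' := by simp [projW]

lemma projW_θfun_of_le (hT : IsSatQC D T) {W W' W'' : Nbhd D T} (a : Adm W W')
    (h : W''.1 ≤ W'.1) :
    projW hT W'' ≫ (a.mono h).θfun = projW hT W' ≫ a.θfun := by
  let t : pullback p (hullHom (W''.1.ι ≫ D.obj.hom) ≫ p) ⟶
      pullback p (hullHom (W'.1.ι ≫ D.obj.hom) ≫ p) :=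
    pullback.map _ _ _ _ (𝟙 X) (tr h) (𝟙 S) (by simp) (by simp)
  have e : projW hT W'' ≫ t = projW hT W' := by
    apply pullback.hom_ext <;> simp [t, projW]
  rw [← e, Category.assoc]
  congr 1
  apply appTop_cancel (baseMap p (toSpecΓ_hullHom_comp W''))
  obtain ⟨m, hm⟩ := id a
  let d : pullback p ((W''.1.ι ≫ D.obj.hom) ≫ p) ⟶ pullback p ((W'.1.ι ≫ D.obj.hom) ≫ p) :=
    pullback.map p _ p _ (𝟙 X) (D.obj.left.homOfLE h) (𝟙 S) (by simp) (by simp)
  have hd : d ≫ srcι D W'.1 = srcι D W''.1 := srcι_trans h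
  have e' : baseMap p (toSpecΓ_hullHom_comp W'') ≫ t =
      d ≫ baseMap p (toSpecΓ_hullHom_comp W') := by
    apply pullback.hom_ext <;> simp [t, baseMap, d]
  rw [reassoc_of% e', a.baseMap_θfun m hm,
    (a.mono h).baseMap_θfun (d ≫ m) ((Category.assoc _ _ _).trans
      ((congrArg (d ≫ ·) hm).trans ((reassoc_of% hd) (θ D))))]
  exact Category.assoc _ _ _

lemma projW_θfun_indep (hT : IsSatQC D T) {W W₁ W₂ : Nbhd D T} (a₁ : Adm W W₁) (a₂ : Adm W W₂) :
    projW hT W₁ ≫ a₁.θfun = projW hT W₂ ≫ a₂.θfun := by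
  obtain ⟨W₃, h₁, h₂⟩ := Nbhd.exists_le W₁ W₂
  rw [← projW_θfun_of_le hT a₁ h₁, ← projW_θfun_of_le hT a₂ h₂]

lemma θfun_tr {W₀ W W' : Nbhd D T} (a : Adm W W') (h : W.1 ≤ W₀.1) :
    a.θfun ≫ tr h = (a.of_le h).θfun := by
  apply appTop_cancel (baseMap p (toSpecΓ_hullHom_comp W'))
  obtain ⟨m, hm⟩ := id a
  rw [reassoc_of% (a.baseMap_θfun m hm), toSpecΓ_tr,
    (a.of_le h).baseMap_θfun (m ≫ D.obj.left.homOfLE h) (by simp [hm])]
  exact (Category.assoc _ _ _).symm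

variable (hT : IsSatQC D T) (hadm : ∀ W : Nbhd D T, ∃ W', Adm W W')

/-- The gluing morphism of the hull. -/
noncomputable def θbar : pullback p (homX hT ≫ p) ⟶ Hull D T :=
  lift (fun W => projW hT (hadm W).choose ≫ (hadm W).choose_spec.θfun) fun W W' h => by
    rw [Category.assoc, θfun_tr]
    exact projW_θfun_indep hT _ _

@[reassoc]
lemma θbar_π {W W' : Nbhd D T} (a : Adm W W') :
    θbar hT hadm ≫ π W = projW hT W' ≫ a.θfun := by
  rw [θbar, lift_π]
  exact projW_θfun_indep hT _ _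

@[reassoc (attr := simp)]
lemma θbar_homX : θbar hT hadm ≫ homX hT = pullback.fst p (homX hT ≫ p) := by
  obtain ⟨W⟩ := hT.nonempty_nbhd
  obtain ⟨W', a⟩ := hadm W
  refine Eq.trans (congrArg (θbar hT hadm ≫ ·) (π_hullHom hT W).symm) ?_
  exact (θbar_π_assoc hT hadm a _).trans ((congrArg (_ ≫ ·) a.θfun_hullHom).trans (projW_fst hT W'))

lemma diag_θbar :
    pullback.lift (homX hT) (𝟙 (Hull D T)) (by simp) ≫ θbar hT hadm = 𝟙 (Hull D T) := by
  refine hom_ext fun W => ?_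
  obtain ⟨W₁, a₁⟩ := hadm W
  obtain ⟨W', h₁, hle⟩ := Nbhd.exists_le W₁ W
  let a : Adm W W' := a₁.mono h₁
  let d : Spec Γ(W'.1.toScheme, ⊤) ⟶ pullback p (hullHom (W'.1.ι ≫ D.obj.hom) ≫ p) :=
    pullback.lift (hullHom (W'.1.ι ≫ D.obj.hom)) (𝟙 _) (by simp)
  have e : pullback.lift (homX hT) (𝟙 (Hull D T)) (by simp) ≫ projW hT W' = π W' ≫ d := by
    apply pullback.hom_ext
    · simp [d, π_hullHom hT]
    · simp [d]
      exact Category.id_comp _
  have ed : d ≫ a.θfun = tr hle := by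
    apply appTop_cancel W'.1.toScheme.toSpecΓ
    obtain ⟨m, hm⟩ := id a
    let d₀ : W'.1.toScheme ⟶ pullback p ((W'.1.ι ≫ D.obj.hom) ≫ p) :=
      pullback.lift (W'.1.ι ≫ D.obj.hom) (𝟙 _) (by simp)
    have e₀ : W'.1.toScheme.toSpecΓ ≫ d = d₀ ≫ baseMap p (toSpecΓ_hullHom_comp W') := by
      apply pullback.hom_ext
      · simp [d, d₀]
      · simp [d, d₀]
        exact (Category.id_comp _).symm
    have e₁ : d₀ ≫ m = D.obj.left.homOfLE hle := by
      rw [← cancel_mono W.1.ι, Category.assoc, hm, reassoc_of% (diag_srcι (W := W'))]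
      simp
    rw [reassoc_of% e₀, a.baseMap_θfun m hm, reassoc_of% e₁, toSpecΓ_tr]
  rw [Category.assoc, θbar_π hT hadm a, reassoc_of% e, ed, π_tr, Category.id_comp]

lemma trans_θbar_univ :
    pullback.lift (pullback.fst p (pullback.fst p (homX hT ≫ p) ≫ p))
        (pullback.snd p (pullback.fst p (homX hT ≫ p) ≫ p) ≫ θbar hT hadm)
        (by simp [pullback.condition]) ≫ θbar hT hadm =
      pullback.lift (pullback.fst p (pullback.fst p (homX hT ≫ p) ≫ p))
        (pullback.snd p (pullback.fst p (homX hT ≫ p) ≫ p) ≫ pullback.snd p (homX hT ≫ p))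
        (by simp [pullback.condition]) ≫ θbar hT hadm := by
  refine hom_ext fun W => ?_
  obtain ⟨W', a⟩ := hadm W
  obtain ⟨W₁, a₁⟩ := hadm W'
  obtain ⟨W'', h₁, hle⟩ := Nbhd.exists_le W₁ W'
  let a' : Adm W' W'' := a₁.mono h₁
  let PH := pullback p (hullHom (W''.1.ι ≫ D.obj.hom) ≫ p)
  let PH₂ := pullback p (pullback.fst p (hullHom (W''.1.ι ≫ D.obj.hom) ≫ p) ≫ p)
  let proj₂ : pullback p (pullback.fst p (homX hT ≫ p) ≫ p) ⟶ PH₂ :=
    pullback.map p _ p _ (𝟙 X) (projW hT W'') (𝟙 S) (by simp) (by simp)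
  let u : PH₂ ⟶ pullback p (hullHom (W'.1.ι ≫ D.obj.hom) ≫ p) :=
    pullback.lift (pullback.fst _ _) (pullback.snd _ _ ≫ a'.θfun) (by
      refine pullback.condition.trans ?_
      refine Eq.trans ?_ (Category.assoc _ _ _).symm
      exact congrArg (pullback.snd _ _ ≫ ·) (a'.θfun_hullHom_assoc p).symm)
  let v : PH₂ ⟶ pullback p (hullHom (W'.1.ι ≫ D.obj.hom) ≫ p) :=
    pullback.lift (pullback.fst _ _) (pullback.snd _ _ ≫ pullback.snd _ _ ≫ tr hle) (by
      simp [pullback.condition])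
  have hu : pullback.lift (pullback.fst p (pullback.fst p (homX hT ≫ p) ≫ p))
      (pullback.snd p (pullback.fst p (homX hT ≫ p) ≫ p) ≫ θbar hT hadm)
      (by simp [pullback.condition]) ≫ projW hT W' = proj₂ ≫ u := by
    apply pullback.hom_ext
    · simp [u, proj₂]
    · simp [u, proj₂, θbar_π hT hadm a']
  have hv : pullback.lift (pullback.fst p (pullback.fst p (homX hT ≫ p) ≫ p))
      (pullback.snd p (pullback.fst p (homX hT ≫ p) ≫ p) ≫ pullback.snd p (homX hT ≫ p))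
      (by simp [pullback.condition]) ≫ projW hT W' = proj₂ ≫ v := by
    apply pullback.hom_ext
    · simp [v, proj₂]
    · simp [v, proj₂]
  refine ((Category.assoc _ _ _).trans ((congrArg (_ ≫ ·) (θbar_π hT hadm a)).trans
    ((reassoc_of% hu) _))).trans (Eq.trans ?_ ((Category.assoc _ _ _).trans
      ((congrArg (_ ≫ ·) (θbar_π hT hadm a)).trans ((reassoc_of% hv) _))).symm)
  refine congrArg (proj₂ ≫ ·) ?_
  have wj : baseMap p (toSpecΓ_hullHom_comp W'') ≫
      pullback.fst p (hullHom (W''.1.ι ≫ D.obj.hom) ≫ p) ≫ p =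
        pullback.fst p ((W''.1.ι ≫ D.obj.hom) ≫ p) ≫ p := by simp
  have : IsIso (baseMap p wj).appTop := isIso_baseMap_appTop p wj
  apply appTop_cancel (baseMap p wj)
  obtain ⟨m, hm⟩ := id a
  obtain ⟨m'', hm''⟩ := id a'
  let T₃ := pullback p (pullback.fst p ((W''.1.ι ≫ D.obj.hom) ≫ p) ≫ p)
  let u₀ : T₃ ⟶ pullback p ((W'.1.ι ≫ D.obj.hom) ≫ p) :=
    pullback.lift (pullback.fst _ _) (pullback.snd _ _ ≫ m'') (by
      simp only [Category.assoc]
      rw [reassoc_of% hm'', θ_hom_assoc]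
      simp [srcι, pullback.condition])
  let v₀ : T₃ ⟶ pullback p ((W'.1.ι ≫ D.obj.hom) ≫ p) :=
    pullback.lift (pullback.fst _ _) (pullback.snd _ _ ≫ pullback.snd _ _ ≫ D.obj.left.homOfLE hle)
      (by simp [pullback.condition])
  have eu : baseMap p wj ≫ u = u₀ ≫ baseMap p (toSpecΓ_hullHom_comp W') := by
    apply pullback.hom_ext
    · simp [u, u₀]
    · simp [u, u₀, a'.baseMap_θfun m'' hm'']
  have ev : baseMap p wj ≫ v = v₀ ≫ baseMap p (toSpecΓ_hullHom_comp W') := by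
    apply pullback.hom_ext <;> simp [v, v₀]
  rw [reassoc_of% eu, reassoc_of% ev, a.baseMap_θfun m hm, ← Category.assoc, ← Category.assoc]
  congr 1
  refine (cancel_mono W.1.ι).mp ?_
  refine ((Category.assoc _ _ _).trans ((congrArg (u₀ ≫ ·) hm).trans (Category.assoc _ _ _).symm)).trans
    (Eq.trans ?_ ((Category.assoc _ _ _).trans ((congrArg (v₀ ≫ ·) hm).trans (Category.assoc _ _ _).symm)).symm)
  let s : T₃ ⟶ src D := pullback.snd _ _ ≫ srcι D W''.1
  have hs : pullback.lift (s ≫ pullback.fst p (D.obj.hom ≫ p))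
      (s ≫ pullback.snd p (D.obj.hom ≫ p)) (by simp [pullback.condition]) = s := by
    apply pullback.hom_ext <;> simp
  have hx : pullback.fst p (pullback.fst p ((W''.1.ι ≫ D.obj.hom) ≫ p) ≫ p) ≫ p =
      (s ≫ pullback.snd p (D.obj.hom ≫ p)) ≫ D.obj.hom ≫ p := by
    simp [s, srcι, pullback.condition]
  have key := lift_θ_trans D (s ≫ pullback.snd p (D.obj.hom ≫ p))
    (s ≫ pullback.fst p (D.obj.hom ≫ p))
    (pullback.fst p (pullback.fst p ((W''.1.ι ≫ D.obj.hom) ≫ p) ≫ p))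
    (by simp [pullback.condition]) hx
  simp only [hs] at key
  refine Eq.trans (congrArg (· ≫ θ D) ?_) (key.trans (congrArg (· ≫ θ D) ?_).symm)
  · apply pullback.hom_ext
    · simp [u₀, srcι]
    · simp [u₀, srcι, s, hm'']
  · apply pullback.hom_ext <;> simp [v₀, srcι, s]

/-- The descent datum on the hull. -/
noncomputable def hullDD : SchDD p :=
  ofθ (Over.mk (homX hT)) (θbar hT hadm) (θbar_homX hT hadm) (diag_θbar hT hadm)
    (fun {Z} v x₁ x₂ h₁ h₂ => by
      dsimp at v h₁ h₂ ⊢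
      let g : Z ⟶ pullback p (pullback.fst p (homX hT ≫ p) ≫ p) :=
        pullback.lift x₂ (pullback.lift x₁ v h₁) (by rw [pullback.lift_fst_assoc, h₁, h₂])
      have := congr(g ≫ $(trans_θbar_univ hT hadm))
      simp only [← Category.assoc] at this
      refine Eq.trans (congrArg (· ≫ θbar hT hadm) ?_) (this.trans
        (congrArg (· ≫ θbar hT hadm) ?_))
      · apply pullback.hom_ext <;> simp [g]
      · apply pullback.hom_ext <;> simp [g])

@[simp]
lemma hullDD_obj : (hullDD hT hadm).obj = Over.mk (homX hT) := rfl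

lemma θ_hullDD : θ (hullDD hT hadm) = θbar hT hadm := by
  show pullback.lift (pullback.fst p (homX hT ≫ p)) (pullback.snd p (homX hT ≫ p)) _ ≫ θbar hT hadm = _
  refine (congrArg (· ≫ θbar hT hadm) ?_).trans (Category.id_comp _)
  apply pullback.hom_ext <;> simp

lemma lift_bar_θbar {Z : Scheme.{u}} (f : Z ⟶ src D)
    (hf : ∀ z, (f ≫ pullback.snd p (D.obj.hom ≫ p)) z ∈ T) :
    pullback.lift (f ≫ pullback.fst p (D.obj.hom ≫ p))
        (bar (f ≫ pullback.snd p (D.obj.hom ≫ p)) hf)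
        (by rw [bar_homX_assoc _ hf hT]; simp [pullback.condition]) ≫ θbar hT hadm =
      bar (f ≫ θ D) (fun z => (hT.sat (f z)).mpr (hf z)) := by
  refine hom_ext fun W => ?_
  obtain ⟨W', a⟩ := hadm W
  obtain ⟨m, hm⟩ := id a
  obtain ⟨l, hl, e⟩ := exists_bar_π (f ≫ pullback.snd p (D.obj.hom ≫ p)) hf W'
  let f' : Z ⟶ pullback p ((W'.1.ι ≫ D.obj.hom) ≫ p) :=
    pullback.lift (f ≫ pullback.fst p (D.obj.hom ≫ p)) l (by
      simp only [Category.assoc]
      rw [reassoc_of% hl, pullback.condition])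
  have hf' : f' ≫ srcι D W'.1 = f := by
    apply pullback.hom_ext <;> simp [f', srcι, hl]
  have e' : pullback.lift (f ≫ pullback.fst p (D.obj.hom ≫ p))
      (bar (f ≫ pullback.snd p (D.obj.hom ≫ p)) hf)
      (by rw [bar_homX_assoc _ hf hT]; simp [pullback.condition]) ≫ projW hT W' =
        f' ≫ baseMap p (toSpecΓ_hullHom_comp W') := by
    apply pullback.hom_ext <;> simp [f', e]
  rw [Category.assoc, θbar_π hT hadm a, reassoc_of% e', a.baseMap_θfun m hm,
    bar_π (f ≫ θ D) _ W (f' ≫ m) ((Category.assoc _ _ _).trans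
      ((congrArg (f' ≫ ·) hm).trans ((reassoc_of% hf') (θ D))))]
  exact (Category.assoc _ _ _).symm

end Groth.Agent.Desc59
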