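import Groth.Agent.Desc59.DDHull
import Mathlib.AlgebraicGeometry.Morphisms.UniversallyOpen

/-!
Effectivity of descent data which are ind-quasi-affine, over affine schemes.
-/

set_option backward.isDefEq.respectTransparency false

universe u

open CategoryTheory CategoryTheory.Limits AlgebraicGeometry Opposite

namespace Groth.Agent.Desc59

open Desc

/-- A point in the closure of the image of a closed set under a quasi-compact map is a
specialization of a point of the image. -/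
lemma exists_specializes_of_mem_closure_image {X Y : Scheme.{u}} (f : X ⟶ Y) [QuasiCompact f]
    {Z : Set X} (hZ : IsClosed Z) {y : Y} (hy : y ∈ closure (f '' Z)) : ∃ z ∈ Z, f z ⤳ y := by
  obtain ⟨_, ⟨V, hV, rfl⟩, hyV, -⟩ :=
    Y.isBasis_affineOpens.exists_subset_of_mem_open (Set.mem_univ y) isOpen_univ
  change Y.Opens at V
  have : CompactSpace (f ⁻¹ᵁ V).toScheme :=
    isCompact_iff_compactSpace.mp (f.isCompact_preimage hV.isCompact)
  have : IsAffine V.toScheme := hV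
  obtain ⟨R, g, hg⟩ := compactSpace_iff_exists.mp ‹CompactSpace (f ⁻¹ᵁ V).toScheme›
  let h : Spec R ⟶ Spec Γ(V.toScheme, ⊤) := g ≫ f ∣_ V ≫ V.toScheme.isoSpec.hom
  obtain ⟨φ, hφ⟩ := Spec.homEquiv.symm.surjective h
  let Z' : Set (Spec R) := (g ≫ (f ⁻¹ᵁ V).ι) ⁻¹' Z
  have hZ' : IsClosed Z' := hZ.preimage (g ≫ (f ⁻¹ᵁ V).ι).continuous
  let y' : V.toScheme := ⟨y, hyV⟩
  have hy' : y' ∈ closure (⇑(f ∣_ V) '' (⇑g '' Z')) := by
    rw [V.ι.isOpenEmbedding.isEmbedding.closure_eq_preimage_closure_image, Set.mem_preimage]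
    show y ∈ closure _
    rw [mem_closure_iff] at hy ⊢
    intro O hO hyO
    obtain ⟨_, ⟨hw, hwV⟩, z, hz, rfl⟩ := hy (O ∩ V) (hO.inter V.2) ⟨hyO, hyV⟩
    obtain ⟨r, hr⟩ := hg ⟨z, hwV⟩
    refine ⟨f z, hw, (f ∣_ V) ⟨z, hwV⟩, ⟨⟨z, hwV⟩, ⟨r, ?_, hr⟩, rfl⟩, ?_⟩
    · show (g ≫ (f ⁻¹ᵁ V).ι) r ∈ Z
      rw [Scheme.Hom.comp_apply, hr]
      exact hz
    · rw [← Scheme.Hom.comp_apply, morphismRestrict_ι]
      rfl
  have hy'' : V.toScheme.isoSpec.hom y' ∈ closure (⇑h '' Z') := by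
    have := image_closure_subset_closure_image V.toScheme.isoSpec.hom.continuous ⟨y', hy', rfl⟩
    simpa [h, Set.image_image] using this
  obtain ⟨I, hI⟩ := (PrimeSpectrum.isClosed_iff_zeroLocus_ideal Z').mp hZ'
  have hle : I.comap φ.hom ≤ (V.toScheme.isoSpec.hom y').asIdeal := by
    have hsub : closure (⇑h '' Z') ⊆
        PrimeSpectrum.zeroLocus (I.comap φ.hom : Set Γ(V.toScheme, ⊤)) := by
      refine closure_minimal ?_ (PrimeSpectrum.isClosed_zeroLocus _)
      rintro _ ⟨q, hq, rfl⟩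
      rw [hI] at hq
      rw [← hφ]
      intro x hx
      exact hq hx
    exact hsub hy''
  obtain ⟨q, hqI, hq, hqle⟩ := (V.toScheme.isoSpec.hom y').asIdeal.exists_ideal_comap_le_prime I hle
  let z : Spec R := ⟨q, hq⟩
  have hz : z ∈ Z' := by rw [hI]; exact hqI
  have hs : h z ⤳ V.toScheme.isoSpec.hom y' := by
    rw [← hφ]
    exact (PrimeSpectrum.le_iff_specializes _ _).mp hqle
  have hs' := (hs.map V.toScheme.isoSpec.inv.continuous).map V.ι.continuous
  refine ⟨(g ≫ (f ⁻¹ᵁ V).ι) z, hz, ?_⟩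
  simpa only [h, y', ← Scheme.Hom.comp_apply, Category.assoc, Iso.hom_inv_id, Category.comp_id,
    Iso.hom_inv_id_assoc, morphismRestrict_ι, Category.id_comp, Scheme.Opens.ι_apply] using hs'

variable {X S : Scheme.{u}} {p : X ⟶ S} (D : SchDD p)

lemma swap_swap : swap D ≫ swap D = 𝟙 (src D) := by
  apply pullback.hom_ext
  · simp [swap, θ_hom]
  · simp

instance : IsIso (swap D) := ⟨swap D, swap_swap D, swap_swap D⟩

instance [Flat p] : Flat (θ D) := by
  rw [← swap_snd D]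
  infer_instance

/-- The saturation of a set. -/
def satSet (U : Set D.obj.left) : Set D.obj.left :=
  θ D '' (pullback.snd p (D.obj.hom ≫ p) ⁻¹' U)

variable {D}

lemma subset_satSet (U : Set D.obj.left) : U ⊆ satSet D U := fun v hv =>
  ⟨(pullback.lift D.obj.hom (𝟙 D.obj.left) (by simp) : D.obj.left ⟶ src D) v,
    by show _ ∈ U; rw [← Scheme.Hom.comp_apply, pullback.lift_snd]; exact hv,
    by rw [← Scheme.Hom.comp_apply, diag_θ]; rfl⟩

lemma mem_satSet_of_rel {U : Set D.obj.left} {z : ↑(src D)}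
    (hz : pullback.snd p (D.obj.hom ≫ p) z ∈ satSet D U) : θ D z ∈ satSet D U := by
  obtain ⟨z₁, hz₁, e⟩ := hz
  obtain ⟨t, h1, h2⟩ := Scheme.Pullback.exists_preimage_pullback (f := θ D)
    (g := pullback.snd p (D.obj.hom ≫ p)) z₁ z e
  let r₁ := pullback.fst (θ D) (pullback.snd p (D.obj.hom ≫ p))
  let r₂ := pullback.snd (θ D) (pullback.snd p (D.obj.hom ≫ p))
  have hr : r₁ ≫ θ D = r₂ ≫ pullback.snd p (D.obj.hom ≫ p) := pullback.condition
  have hx₁ : (r₁ ≫ pullback.fst p (D.obj.hom ≫ p)) ≫ p =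
      (r₁ ≫ pullback.snd p (D.obj.hom ≫ p)) ≫ D.obj.hom ≫ p := by
    simp [pullback.condition]
  have hx₂ : (r₂ ≫ pullback.fst p (D.obj.hom ≫ p)) ≫ p =
      (r₁ ≫ pullback.snd p (D.obj.hom ≫ p)) ≫ D.obj.hom ≫ p := by
    rw [Category.assoc, pullback.condition, ← reassoc_of% hr, θ_hom_assoc]
    simp [pullback.condition]
  let k : pullback (θ D) (pullback.snd p (D.obj.hom ≫ p)) ⟶ src D :=
    pullback.lift (r₂ ≫ pullback.fst p (D.obj.hom ≫ p)) (r₁ ≫ pullback.snd p (D.obj.hom ≫ p)) hx₂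
  have hk : k ≫ θ D = r₂ ≫ θ D := by
    have key := lift_θ_trans D (r₁ ≫ pullback.snd p (D.obj.hom ≫ p))
      (r₁ ≫ pullback.fst p (D.obj.hom ≫ p)) (r₂ ≫ pullback.fst p (D.obj.hom ≫ p)) hx₁ hx₂
    refine key.symm.trans (congrArg (· ≫ θ D) ?_)
    apply pullback.hom_ext
    · simp
    · rw [pullback.lift_snd, ← hr]
      congr 1
      apply pullback.hom_ext <;> simp
  refine ⟨k t, ?_, ?_⟩
  · show _ ∈ U
    rw [← Scheme.Hom.comp_apply]
    simp only [k, pullback.lift_snd, Scheme.Hom.comp_apply, r₁, h1]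
    exact hz₁
  · rw [← Scheme.Hom.comp_apply, hk, Scheme.Hom.comp_apply, h2]

lemma isSatQC_satSet [Flat p] [QuasiCompact p] {U : D.obj.left.Opens}
    (hU : IsCompact (U : Set D.obj.left)) : IsSatQC D (satSet D U) where
  sat z := by
    refine ⟨fun h => ?_, mem_satSet_of_rel⟩
    have := mem_satSet_of_rel (z := swap D z) (U := (U : Set D.obj.left))
      (by rwa [← Scheme.Hom.comp_apply, swap_snd])
    rwa [← Scheme.Hom.comp_apply, swap_θ] at this
  isCompact :=
    ((pullback.snd p (D.obj.hom ≫ p)).isCompact_preimage hU).image (θ D).continuous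
  gen := by
    have h := (Flat.generalizingMap (θ D)).stableUnderGeneralization_image
      (pullback.snd p (D.obj.hom ≫ p) ⁻¹ᵁ U).2.stableUnderGeneralization
    exact h

variable [QuasiSeparatedSpace D.obj.left] {T : Set D.obj.left}

lemma exists_adm [IsAffine X] [IsAffine S] (hT : IsSatQC D T) (W : Nbhd D T) :
    ∃ W', Adm W W' := by
  obtain ⟨W₀⟩ := hT.nonempty_nbhd
  let pr := pullback.snd p (D.obj.hom ≫ p)
  let P := (pr ⁻¹ᵁ W₀.1)
  let μ : P.toScheme ⟶ D.obj.left := P.ι ≫ pr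
  have : CompactSpace P.toScheme := isCompact_iff_compactSpace.mp (pr.isCompact_preimage W₀.2.1)
  have : QuasiCompact μ := inferInstance
  let C : Set P.toScheme := (P.ι ≫ θ D) ⁻¹' (W.1 : Set D.obj.left)ᶜ
  have hC : IsClosed C := W.1.2.isClosed_compl.preimage (P.ι ≫ θ D).continuous
  let O : D.obj.left.Opens :=
    W₀.1 ⊓ ⟨(closure (μ '' C))ᶜ, isClosed_closure.isOpen_compl⟩
  have hTO : T ⊆ O := fun t ht => ⟨W₀.2.2 ht, fun h => by
    obtain ⟨z, hzC, hz⟩ := exists_specializes_of_mem_closure_image μ hC h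
    exact hzC (W.2.2 ((hT.sat (P.ι z)).mpr (hT.gen hz ht)))⟩
  obtain ⟨W', hW', hTW', hW'O⟩ := exists_compact_open_between hT.isCompact hTO
  refine ⟨⟨W', hW', hTW'⟩, IsOpenImmersion.lift W.1.ι (srcι D W' ≫ θ D) ?_,
    IsOpenImmersion.lift_fac _ _ _⟩
  rw [Scheme.Opens.range_ι]
  rintro _ ⟨z, rfl⟩
  by_contra hz
  have hpr : pr (srcι D W' z) ∈ O := by
    refine hW'O ?_
    rw [← Scheme.Hom.comp_apply]
    simp only [srcι, pr, pullback.lift_snd, Scheme.Hom.comp_apply]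
    exact (pullback.snd p ((W'.ι ≫ D.obj.hom) ≫ p) z).2
  obtain ⟨h₀, h₁⟩ := hpr
  exact h₁ (subset_closure ⟨⟨srcι D W' z, h₀⟩, hz, rfl⟩)

namespace Hull

/-- The point of the hull of a point of `T`. -/
noncomputable def barPt (t : D.obj.left) (ht : t ∈ T) : ↥(Hull D T) :=
  bar (D.obj.left.fromSpecResidueField t)
    (fun _ => by rwa [D.obj.left.fromSpecResidueField_apply]) default

omit [QuasiSeparatedSpace D.obj.left] in
lemma bar_apply {Z : Scheme.{u}} (f : Z ⟶ D.obj.left) (hf : ∀ z, f z ∈ T) (z : Z) :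
    bar f hf z = barPt (f z) (hf z) := by
  have e1 : bar f hf z = (Z.fromSpecResidueField z ≫ bar f hf) default := by
    rw [Scheme.Hom.comp_apply, Z.fromSpecResidueField_apply]
  rw [e1, comp_bar, bar_congr _ _ (f.SpecMap_residueFieldMap_fromSpecResidueField z).symm,
    ← comp_bar _ (fun _ => by rw [D.obj.left.fromSpecResidueField_apply]; exact hf z),
    Scheme.Hom.comp_apply]
  exact congrArg _ (Subsingleton.elim _ _)

omit [QuasiSeparatedSpace D.obj.left] in
lemma π_barPt (W : Nbhd D T) (t : D.obj.left) (ht : t ∈ T) :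
    π W (barPt t ht) = W.1.toScheme.toSpecΓ ⟨t, W.2.2 ht⟩ := by
  obtain ⟨l, hl, e⟩ := exists_bar_π (D.obj.left.fromSpecResidueField t)
    (fun _ => by rwa [D.obj.left.fromSpecResidueField_apply]) W
  rw [barPt, ← Scheme.Hom.comp_apply, e, Scheme.Hom.comp_apply]
  congr 1
  apply Subtype.ext
  show W.1.ι (l default) = t
  rw [← Scheme.Hom.comp_apply, hl, D.obj.left.fromSpecResidueField_apply]

lemma tr_injective {W W' : Nbhd D T} (h : W'.1 ≤ W.1) (r : Γ(W.1.toScheme, ⊤))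
    (hr : ∀ w, w ∈ W.1.toScheme.basicOpen r → w.1 ∈ W'.1)
    {P Q : ↑(Spec Γ(W'.1.toScheme, ⊤))} (e : tr h P = tr h Q)
    (hP : tr h P ∈ PrimeSpectrum.basicOpen r) : P = Q := by
  let j := D.obj.left.homOfLE h
  let U₁ := W.1.toScheme.basicOpen r
  let r' := j.appTop r
  have : IsIso (j.app U₁) := j.isIso_app U₁ fun w hw => ⟨⟨w.1, hr w hw⟩, W.1.ι.injective (by rw [← Scheme.Hom.comp_apply, Scheme.homOfLE_ι]; rfl)⟩
  have := isLocalization_basicOpen_of_qcqs (X := W.1.toScheme) (U := ⊤) isCompact_univ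
    isQuasiSeparated_univ r
  have key : ∀ b : Γ(W'.1.toScheme, ⊤), ∃ (b₀ : Γ(W.1.toScheme, ⊤)) (n m : ℕ),
      r' ^ m * (b * r' ^ n - j.appTop b₀) = 0 := by
    intro b
    let e : j ⁻¹ᵁ U₁ ⟶ ⊤ := homOfLE le_top
    let c := inv (j.app U₁) (W'.1.toScheme.presheaf.map e.op b)
    obtain ⟨⟨b₀, _, n, rfl⟩, hb₀⟩ := IsLocalization.surj (Submonoid.powers r) c
    simp only [RingHom.algebraMap_toAlgebra] at hb₀
    have hnat : ∀ x : Γ(W.1.toScheme, ⊤),
        j.app U₁ (W.1.toScheme.presheaf.map (homOfLE (le_top : U₁ ≤ ⊤)).op x) =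
          W'.1.toScheme.presheaf.map e.op (j.appTop x) := fun x => by
      have := congr($(j.naturality (homOfLE (le_top : U₁ ≤ ⊤)).op) x)
      exact this
    have hbo : j ⁻¹ᵁ U₁ = W'.1.toScheme.basicOpen r' := Scheme.preimage_basicOpen_top j r
    have h0 : W'.1.toScheme.presheaf.map e.op (b * r' ^ n - j.appTop b₀) = 0 := by
      have hc : j.app U₁ c = W'.1.toScheme.presheaf.map e.op b := by
        show (inv (j.app U₁) ≫ j.app U₁) _ = _
        rw [IsIso.inv_hom_id]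
        rfl
      rw [map_sub, map_mul, map_pow, ← hnat b₀, ← hb₀, map_mul, hc, map_pow, map_pow, hnat r,
        sub_self]
    obtain ⟨m, hm⟩ := exists_pow_mul_eq_zero_of_res_basicOpen_eq_zero_of_isCompact W'.1.toScheme
      (U := ⊤) isCompact_univ (b * r' ^ n - j.appTop b₀) r' (by
        show W'.1.toScheme.presheaf.map (homOfLE le_top).op _ = 0
        have := congrArg (W'.1.toScheme.presheaf.map (eqToHom hbo.symm).op) h0
        rw [map_zero, ← CommRingCat.comp_apply, ← Functor.map_comp] at this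
        exact this)
    exact ⟨b₀, n, m, hm⟩
  have hQ : tr h Q ∈ PrimeSpectrum.basicOpen r := e ▸ hP
  have mem : ∀ (A : ↑(Spec Γ(W'.1.toScheme, ⊤))), tr h A ∈ PrimeSpectrum.basicOpen r →
      ∀ (b : Γ(W'.1.toScheme, ⊤)) (b₀ : Γ(W.1.toScheme, ⊤)) (n m : ℕ),
        r' ^ m * (b * r' ^ n - j.appTop b₀) = 0 →
          (b ∈ A.asIdeal ↔ b₀ ∈ (tr h A).asIdeal) := by
    intro A hA b b₀ n m hz
    have hr' : r' ∉ A.asIdeal := hA
    have hsub : b * r' ^ n - j.appTop b₀ ∈ A.asIdeal :=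
      (A.2.mem_or_mem (hz ▸ A.asIdeal.zero_mem)).resolve_left
        fun h' => hr' (A.2.mem_of_pow_mem _ h')
    refine ⟨fun hb => ?_, fun hb => ?_⟩
    · show j.appTop b₀ ∈ A.asIdeal
      simpa using A.asIdeal.sub_mem (A.asIdeal.mul_mem_right (r' ^ n) hb) hsub
    · change j.appTop b₀ ∈ A.asIdeal at hb
      exact (A.2.mem_or_mem (by simpa using A.asIdeal.add_mem hsub hb)).resolve_right
        fun h' => hr' (A.2.mem_of_pow_mem _ h')
  apply PrimeSpectrum.ext
  ext b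
  obtain ⟨b₀, n, m, hz⟩ := key b
  rw [mem P hP b b₀ n m hz, mem Q hQ b b₀ n m hz, e]

/-- Lifting points of the hull lying in a basic open contained in `T`. -/
lemma exists_barPt_eq (hT : IsSatQC D T) (W : Nbhd D T) (r : Γ(W.1.toScheme, ⊤))
    (hr : (PrimeSpectrum.basicOpen r : Set (PrimeSpectrum Γ(W.1.toScheme, ⊤))) ⊆
      ⇑W.1.toScheme.toSpecΓ '' {w | w.1 ∈ T})
    (hinj : Function.Injective W.1.toScheme.toSpecΓ)
    (a : ↥(Hull D T)) (ha : π W a ∈ PrimeSpectrum.basicOpen r) :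
    ∃ w : W.1.toScheme, ∃ hw : w.1 ∈ T, barPt w.1 hw = a ∧ W.1.toScheme.toSpecΓ w = π W a := by
  obtain ⟨w, hw, e⟩ := hr ha
  refine ⟨w, hw, point_ext hT fun W₂ => ?_, e⟩
  obtain ⟨W', h₁, h₂⟩ := Nbhd.exists_le W W₂
  suffices π W' (barPt w.1 hw) = π W' a by
    rw [← π_tr h₂, Scheme.Hom.comp_apply, Scheme.Hom.comp_apply, this]
  refine tr_injective h₁ r (fun x hx => W'.2.2 ?_) ?_ ?_
  · obtain ⟨w', hw', e'⟩ := hr (show W.1.toScheme.toSpecΓ x ∈ PrimeSpectrum.basicOpen r by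
      rw [← W.1.toScheme.toSpecΓ_preimage_basicOpen r] at hx
      exact hx)
    exact hinj e' ▸ hw'
  · rw [← Scheme.Hom.comp_apply, ← Scheme.Hom.comp_apply, π_tr, π_barPt]
    exact e
  · rw [← Scheme.Hom.comp_apply, π_tr, π_barPt]
    exact e.symm ▸ ha

lemma barPt_injective {t t' : D.obj.left} (ht : t ∈ T) (ht' : t' ∈ T) (W : Nbhd D T)
    (hinj : Function.Injective W.1.toScheme.toSpecΓ) (e : barPt t ht = barPt t' ht') : t = t' := by
  have := congrArg (π W) e
  rw [π_barPt, π_barPt] at this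
  exact congrArg Subtype.val (hinj this)

variable [IsAffine X] [IsAffine S] [Flat p] (hT : IsSatQC D T)
  (hadm : ∀ W : Nbhd D T, ∃ W', Adm W W') {U₀ : Over S} {π₀ : Hull D T ⟶ U₀.left}

lemma bar_θ_comp (hπ₀ : IsInvariant (hullDD hT hadm) π₀) {Z : Scheme.{u}} (f : Z ⟶ src D)
    (hf : ∀ z, (f ≫ pullback.snd p (D.obj.hom ≫ p)) z ∈ T) :
    bar (f ≫ θ D) (fun z => (hT.sat (f z)).mpr (hf z)) ≫ π₀ =
      bar (f ≫ pullback.snd p (D.obj.hom ≫ p)) hf ≫ π₀ := by
  rw [← lift_bar_θbar hT hadm f hf, Category.assoc]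
  have h : θbar hT hadm ≫ π₀ = pullback.snd p (homX hT ≫ p) ≫ π₀ := by
    have h' := hπ₀
    rw [IsInvariant] at h'
    rwa [θ_hullDD] at h'
  rw [h, pullback.lift_snd_assoc]

lemma π₀_barPt_eq (hπ₀ : IsInvariant (hullDD hT hadm) π₀) (z : ↑(src D))
    (hz : pullback.snd p (D.obj.hom ≫ p) z ∈ T) :
    π₀ (barPt (θ D z) ((hT.sat z).mpr hz)) = π₀ (barPt (pullback.snd p (D.obj.hom ≫ p) z) hz) := by
  have hf : ∀ s, ((src D).fromSpecResidueField z ≫ pullback.snd p (D.obj.hom ≫ p)) s ∈ T :=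
    fun s => by rwa [Scheme.Hom.comp_apply, (src D).fromSpecResidueField_apply]
  have key := congr($(bar_θ_comp hT hadm hπ₀ _ hf) default)
  simp only [Scheme.Hom.comp_apply, bar_apply, (src D).fromSpecResidueField_apply] at key
  exact key

/-- Points of `T` with the same image in the quotient of the hull are related. -/
lemma exists_rel (hπ₀ : IsQuot (hullDD hT hadm) U₀ π₀) (W : Nbhd D T)
    (hinj : Function.Injective W.1.toScheme.toSpecΓ) {t t' : D.obj.left} (ht : t ∈ T) (ht' : t' ∈ T)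
    (e : π₀ (barPt t ht) = π₀ (barPt t' ht')) :
    ∃ z : ↑(src D), pullback.snd p (D.obj.hom ≫ p) z = t ∧ θ D z = t' := by
  let F := D.obj.left.fromSpecResidueField t
  have hF : ∀ s, F s ∈ T := fun s => by rwa [D.obj.left.fromSpecResidueField_apply]
  obtain ⟨c, hc₁, hc₂⟩ := Scheme.Pullback.exists_preimage_pullback (f := π₀) (g := π₀) _ _ e
  let k : pullback π₀ π₀ ⟶ pullback p (homX hT ≫ p) :=
    pullback.lift (pullback.snd π₀ π₀ ≫ homX hT) (pullback.fst π₀ π₀) (by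
      have h1 : π₀ ≫ U₀.hom = homX hT ≫ p := hπ₀.isPullback.w
      rw [Category.assoc, ← h1, pullback.condition_assoc])
  have hk : k ≫ θbar hT hadm = pullback.snd π₀ π₀ := by
    have := hπ₀.lift_θ_eq (pullback.fst π₀ π₀) (pullback.snd π₀ π₀) pullback.condition
    rw [θ_hullDD] at this
    exact this
  obtain ⟨s, hs₁, -⟩ := Scheme.Pullback.exists_preimage_pullback
    (f := pullback.snd p (homX hT ≫ p)) (g := bar F hF) (k c) default (by
      rw [← Scheme.Hom.comp_apply]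
      simp only [k, pullback.lift_snd]
      rw [hc₁]
      rfl)
  let g : pullback (pullback.snd p (homX hT ≫ p)) (bar F hF) ⟶ src D :=
    pullback.lift (pullback.fst _ _ ≫ pullback.fst p (homX hT ≫ p)) (pullback.snd _ _ ≫ F) (by
      rw [Category.assoc, pullback.condition, pullback.condition_assoc, bar_homX_assoc _ hF hT]
      simp)
  have hg : ∀ s, (g ≫ pullback.snd p (D.obj.hom ≫ p)) s ∈ T := fun s => by
    simp only [g, pullback.lift_snd, Scheme.Hom.comp_apply]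
    exact hF _
  refine ⟨g s, ?_, ?_⟩
  · rw [← Scheme.Hom.comp_apply]
    simp only [g, pullback.lift_snd, Scheme.Hom.comp_apply]
    exact D.obj.left.fromSpecResidueField_apply t _
  · have h1 : pullback.fst (pullback.snd p (homX hT ≫ p)) (bar F hF) ≫ θbar hT hadm =
        bar (g ≫ θ D) (fun z => (hT.sat (g z)).mpr (hg z)) := by
      rw [← lift_bar_θbar hT hadm g hg]
      congr 1
      apply pullback.hom_ext
      · simp [g]
      · rw [pullback.lift_snd, pullback.condition, comp_bar]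
        exact bar_congr _ _ (by simp [g])
    have h2 := congr($h1 s)
    rw [Scheme.Hom.comp_apply, hs₁, ← Scheme.Hom.comp_apply, hk, hc₂, bar_apply] at h2
    exact ((barPt_injective ht' _ W hinj h2).trans (Scheme.Hom.comp_apply ..)).symm

end Hull

end Groth.Agent.Desc59
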