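import Groth.Agent.Desc59.DDIndQA

/-!
Effectivity of quasi-affine and ind-quasi-affine descent data over affine schemes.
-/

set_option backward.isDefEq.respectTransparency false

universe u

open CategoryTheory CategoryTheory.Limits AlgebraicGeometry Opposite

namespace Groth.Agent.Desc59

open Desc

variable {X S : Scheme.{u}} {p : X ⟶ S} [IsAffine X] [IsAffine S] [Flat p] [Surjective p]
  (D : SchDD p)

theorem exists_isQuot_of_isQuasiAffine [D.obj.left.IsQuasiAffine] :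
    ∃ (U : Over S) (π : D.obj.left ⟶ U.left), IsQuot D U π := by
  have hT : IsSatQC D Set.univ := ⟨fun _ => Iff.rfl, isCompact_univ, stableUnderGeneralization_univ⟩
  let hadm := exists_adm hT
  have : IsAffine (hullDD hT hadm).obj.left := inferInstanceAs (IsAffine (Hull D Set.univ))
  obtain ⟨U₀, π₀, -, hq⟩ : ∃ (U : Over S) (π : Hull D Set.univ ⟶ U.left),
      IsAffine U.left ∧ IsQuot (hullDD hT hadm) U π := exists_isQuot_of_isAffine' (hullDD hT hadm)
  obtain ⟨W⟩ := hT.nonempty_nbhd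
  have hW : ∀ W' : Nbhd D Set.univ, W.1 ≤ W'.1 := fun W' x _ => W'.2.2 (Set.mem_univ x)
  have hWtop : W.1 = ⊤ := top_unique fun x _ => W.2.2 (Set.mem_univ x)
  have : IsIso W.1.ι := by rw [hWtop, ← Scheme.topIso_hom]; infer_instance
  have : IsIso (Hull.π W) := by
    refine ⟨Hull.lift (fun W' => Hull.tr (hW W')) (fun W₁ W₂ h => ?_), ?_, ?_⟩
    · exact appTop_cancel W.1.toScheme.toSpecΓ (by simp)
    · refine Hull.hom_ext fun W' => ?_
      rw [Category.assoc, Hull.lift_π, Hull.π_tr, Category.id_comp]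
    · rw [Hull.lift_π]
      exact appTop_cancel W.1.toScheme.toSpecΓ (by simp)
  let b := Hull.bar (T := Set.univ) (𝟙 D.obj.left) (fun _ => Set.mem_univ _)
  have hb : b = inv W.1.ι ≫ W.1.toScheme.toSpecΓ ≫ inv (Hull.π W) := by
    rw [← Category.assoc, IsIso.eq_comp_inv]
    exact Hull.bar_π _ _ W _ (IsIso.inv_hom_id _)
  have : W.1.toScheme.IsQuasiAffine := .of_isImmersion W.1.ι
  have : IsOpenImmersion b := by rw [hb]; infer_instance
  have hbX : b ≫ Hull.homX hT = D.obj.hom := (Hull.bar_homX _ _ hT).trans (Category.id_comp _)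
  have hw : (b ≫ π₀) ≫ U₀.hom = D.obj.hom ≫ p := by
    have h1 : π₀ ≫ U₀.hom = Hull.homX hT ≫ p := hq.isPullback.w
    rw [Category.assoc, h1, reassoc_of% hbX]
  have hinv : IsInvariant D (b ≫ π₀) := by
    have key := Hull.bar_θ_comp hT hadm hq.invariant (𝟙 (src D)) (fun _ => Set.mem_univ _)
    rw [IsInvariant]
    simp only [b, Hull.comp_bar, ← Category.assoc]
    convert key using 3 <;> simp
  have : IsOpenImmersion (pullback.lift D.obj.hom (b ≫ π₀) hw.symm : _ ⟶ pullback p U₀.hom) := by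
    have e : (pullback.lift D.obj.hom (b ≫ π₀) hw.symm : _ ⟶ pullback p U₀.hom) =
        b ≫ hq.isPullback.flip.isoPullback.hom := by
      apply pullback.hom_ext
      · simp [hbX]
      · simp
    rw [e]
    infer_instance
  exact exists_isQuot_of_isOpenImmersion D U₀ (b ≫ π₀) hw hinv

section indqa

variable (hqa : ∀ W : D.obj.left.Opens, IsCompact (W : Set D.obj.left) → W.toScheme.IsQuasiAffine)

omit [IsAffine X] [IsAffine S] [Flat p] [Surjective p] in
include hqa in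
lemma quasiSeparatedSpace_of_forall_qa : QuasiSeparatedSpace D.obj.left := by
  refine quasiSeparatedSpace_iff_forall_affineOpens.mpr fun U₁ U₂ => ?_
  let W := U₁.1 ⊔ U₂.1
  have hW : IsCompact (W : Set D.obj.left) := U₁.2.isCompact.union U₂.2.isCompact
  have := hqa W hW
  have : QuasiSeparatedSpace W.toScheme := inferInstance
  have h1 : IsCompact ((W.ι ⁻¹ᵁ U₁.1 : W.toScheme.Opens) : Set W.toScheme) :=
    W.ι.isOpenEmbedding.isInducing.isCompact_preimage' U₁.2.isCompact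
      (fun x hx => by rw [Scheme.Opens.range_ι]; exact Or.inl hx)
  have h2 : IsCompact ((W.ι ⁻¹ᵁ U₂.1 : W.toScheme.Opens) : Set W.toScheme) :=
    W.ι.isOpenEmbedding.isInducing.isCompact_preimage' U₂.2.isCompact
      (fun x hx => by rw [Scheme.Opens.range_ι]; exact Or.inr hx)
  have h := (QuasiSeparatedSpace.inter_isCompact _ _ (W.ι ⁻¹ᵁ U₁.1).2 h1 (W.ι ⁻¹ᵁ U₂.1).2 h2).image
    W.ι.continuous
  convert h using 1
  ext x
  constructor
  · intro hx
    exact ⟨⟨x, Or.inl hx.1⟩, ⟨hx.1, hx.2⟩, rfl⟩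
  · rintro ⟨y, ⟨h1, h2⟩, rfl⟩
    exact ⟨h1, h2⟩

include hqa in
lemma exists_isSat_qc_mem (v : D.obj.left) :
    ∃ O : D.obj.left.Opens, v ∈ O ∧ IsCompact (O : Set D.obj.left) ∧ IsSat D O := by
  have := quasiSeparatedSpace_of_forall_qa D hqa
  obtain ⟨_, ⟨U, hU, rfl⟩, hvU, -⟩ :=
    D.obj.left.isBasis_affineOpens.exists_subset_of_mem_open (Set.mem_univ v) isOpen_univ
  change D.obj.left.Opens at U
  have hT₀ := isSatQC_satSet (D := D) hU.isCompact
  obtain ⟨⟨W, hW, hT₀W⟩⟩ := hT₀.nonempty_nbhd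
  have hT := isSatQC_satSet (D := D) hW
  let T := satSet D (W : Set D.obj.left)
  have hWT : (W : Set D.obj.left) ⊆ T := subset_satSet _
  have hUW : (U : Set D.obj.left) ⊆ W := (subset_satSet _).trans hT₀W
  let hadm := exists_adm hT
  have : IsAffine (hullDD hT hadm).obj.left := inferInstanceAs (IsAffine (Hull D T))
  obtain ⟨U₀, π₀, hU₀, hq⟩ : ∃ (U : Over S) (π : Hull D T ⟶ U.left),
      IsAffine U.left ∧ IsQuot (hullDD hT hadm) U π := exists_isQuot_of_isAffine' (hullDD hT hadm)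
  have hπ₀flat : Flat π₀ := hq.flat
  obtain ⟨W'⟩ := hT.nonempty_nbhd
  have := hqa W'.1 W'.2.1
  have hinj : Function.Injective W'.1.toScheme.toSpecΓ :=
    W'.1.toScheme.toSpecΓ.isOpenEmbedding.injective
  let gW : W.toScheme ⟶ U₀.left := Hull.bar W.ι (fun z => hWT z.2) ≫ π₀
  let pr := pullback.snd p (D.obj.hom ≫ p)
  let P := pr ⁻¹ᵁ W
  let μ : P.toScheme ⟶ U₀.left := Hull.bar (T := T) (P.ι ≫ pr) (fun z => hWT z.2) ≫ π₀
  have : CompactSpace P.toScheme := isCompact_iff_compactSpace.mp (pr.isCompact_preimage hW)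
  let C : Set P.toScheme := (P.ι ≫ θ D) ⁻¹' (W : Set D.obj.left)ᶜ
  have hC : IsClosed C := W.2.isClosed_compl.preimage (P.ι ≫ θ D).continuous
  let E := closure (μ '' C)
  let G : Set U₀.left := gW '' (W.ι ⁻¹' (U : Set D.obj.left))
  have hG : IsCompact G :=
    (W.ι.isOpenEmbedding.isInducing.isCompact_preimage' hU.isCompact
      (by rw [Scheme.Opens.range_ι]; exact hUW)).image gW.continuous
  have hGE : G ⊆ (Eᶜ : Set U₀.left) := by
    rintro _ ⟨u, hu, rfl⟩ hE
    obtain ⟨z, hzC, hz⟩ := exists_specializes_of_mem_closure_image μ hC hE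
    have hv₀ : pr (P.ι z) ∈ T := hWT z.2
    have hμ : μ z = π₀ (Hull.barPt (θ D (P.ι z)) ((hT.sat _).mpr hv₀)) := by
      rw [Hull.π₀_barPt_eq hT hadm hq.invariant (P.ι z) hv₀]
      simp only [μ, Scheme.Hom.comp_apply, Hull.bar_apply]
      rfl
    have hgu : gW u = π₀ (Hull.barPt (W.ι u) (hWT u.2)) := by
      simp only [gW, Scheme.Hom.comp_apply, Hull.bar_apply]
    rw [hgu] at hz
    obtain ⟨a, ha, ha'⟩ := Flat.generalizingMap π₀ hz
    let u' : W'.1.toScheme := ⟨W.ι u, W'.2.2 (hWT u.2)⟩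
    obtain ⟨_, ⟨_, ⟨r, rfl⟩, rfl⟩, hur, hrU⟩ := (PrimeSpectrum.isBasis_basic_opens
      (R := Γ(W'.1.toScheme, ⊤))).exists_subset_of_mem_open
      (Set.mem_image_of_mem W'.1.toScheme.toSpecΓ (show u' ∈ (W'.1.ι ⁻¹ᵁ U : Set _) from hu))
      (W'.1.toScheme.toSpecΓ ''ᵁ (W'.1.ι ⁻¹ᵁ U)).2
    have hat : Hull.π W' a ∈ PrimeSpectrum.basicOpen r := by
      refine (ha.map (Hull.π W').continuous).mem_open (PrimeSpectrum.basicOpen r).2 ?_
      rw [Hull.π_barPt]
      exact hur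
    obtain ⟨w, hw, hwa, hwπ⟩ := Hull.exists_barPt_eq hT W' r (hrU.trans (by
      rintro _ ⟨x, hx, rfl⟩
      exact ⟨x, hWT (hUW hx), rfl⟩)) hinj a hat
    have hwU : w.1 ∈ U := by
      obtain ⟨x, hx, e⟩ := hrU hat
      exact hinj (e.trans hwπ.symm) ▸ hx
    obtain ⟨z', hz', hz''⟩ := Hull.exists_rel hT hadm hq W' hinj hw ((hT.sat _).mpr hv₀)
      (by rw [hwa, ha', hμ])
    apply hzC
    show θ D (P.ι z) ∈ W
    exact hT₀W ⟨z', by show _ ∈ (U : Set D.obj.left); rw [hz']; exact hwU, hz''⟩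
  obtain ⟨O₁, hO₁, hGO₁, hO₁E⟩ := exists_compact_open_between hG
    (O := ⟨Eᶜ, isClosed_closure.isOpen_compl⟩) hGE
  have : CompactSpace W.toScheme := isCompact_iff_compactSpace.mp hW
  let O := W.ι ''ᵁ (gW ⁻¹ᵁ O₁)
  refine ⟨O, ?_, (gW.isCompact_preimage hO₁).image W.ι.continuous, isSat_of_le ?_⟩
  · exact ⟨⟨v, hUW hvU⟩, hGO₁ ⟨⟨v, hUW hvU⟩, hvU, rfl⟩, rfl⟩
  · intro z hz
    obtain ⟨w, hw, hwz⟩ := hz
    change W.ι w = pr z at hwz
    have hzW : pr z ∈ W := hwz ▸ w.2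
    let z' : P.toScheme := ⟨z, hzW⟩
    have e1 : μ z' = gW w := by
      simp only [μ, gW, Scheme.Hom.comp_apply, Hull.bar_apply]
      congr 1
      congr 1
      exact hwz.symm
    by_cases hθ : θ D z ∈ W
    · refine ⟨⟨θ D z, hθ⟩, ?_, rfl⟩
      show gW ⟨θ D z, hθ⟩ ∈ O₁
      have e2 : gW ⟨θ D z, hθ⟩ = gW w := by
        simp only [gW, Scheme.Hom.comp_apply, Hull.bar_apply]
        refine (Hull.π₀_barPt_eq hT hadm hq.invariant z (hWT hzW)).trans ?_
        congr 1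
        congr 1
        exact hwz.symm
      rw [e2]
      exact hw
    · exact absurd (show gW w ∈ E from subset_closure ⟨z', hθ, e1⟩) (hO₁E hw)

include hqa in
/-- Effectivity of ind-quasi-affine descent data over affine schemes. -/
theorem exists_isQuot_of_forall_qa : ∃ (U : Over S) (π : D.obj.left ⟶ U.left), IsQuot D U π := by
  refine exists_isQuot_of_cover fun v => ?_
  obtain ⟨O, hv, hO, hsat⟩ := exists_isSat_qc_mem D hqa v
  have := hqa O hO
  have : (restrictDD D hsat).obj.left.IsQuasiAffine := inferInstanceAs O.toScheme.IsQuasiAffine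
  obtain ⟨U, π', h⟩ := exists_isQuot_of_isQuasiAffine (restrictDD D hsat)
  obtain ⟨π, hπ⟩ := exists_isQuotOn_opensRange (restrictDDι D hsat) h
  exact ⟨_, U, π, by rwa [opensRange_restrictDDι], hπ⟩

end indqa

end Groth.Agent.Desc59
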