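import Groth.Agent.Desc59.DDGlue

/-!
Saturated opens from open immersions of descent data; gluing effective pieces.
-/

set_option backward.isDefEq.respectTransparency false

universe u

open CategoryTheory CategoryTheory.Limits AlgebraicGeometry

namespace Groth.Agent.Desc59

open Desc

variable {X S : Scheme.{u}} {p : X ⟶ S} (D : SchDD p)

/-- The involution of `X ×_S V` exchanging the two points. -/
noncomputable def swap : src D ⟶ src D :=
  pullback.lift (pullback.snd p (D.obj.hom ≫ p) ≫ D.obj.hom) (θ D) (by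
    rw [Category.assoc, θ_hom_assoc, pullback.condition])

@[reassoc (attr := simp)]
lemma swap_snd : swap D ≫ pullback.snd p (D.obj.hom ≫ p) = θ D := pullback.lift_snd _ _ _

@[reassoc (attr := simp)]
lemma swap_θ : swap D ≫ θ D = pullback.snd p (D.obj.hom ≫ p) := by
  have e : 𝟙 (src D) = pullback.lift (pullback.fst p (D.obj.hom ≫ p))
      (pullback.snd p (D.obj.hom ≫ p)) pullback.condition := by
    apply pullback.hom_ext <;> simp
  have h0 : θ D = pullback.lift (pullback.fst p (D.obj.hom ≫ p))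
      (pullback.snd p (D.obj.hom ≫ p)) pullback.condition ≫ θ D := by
    rw [← e, Category.id_comp]
  have := lift_θ_trans D (pullback.snd p (D.obj.hom ≫ p)) (pullback.fst p (D.obj.hom ≫ p))
    (pullback.snd p (D.obj.hom ≫ p) ≫ D.obj.hom) (pullback.condition (f := p) (g := D.obj.hom ≫ p))
    (Category.assoc _ _ _)
  have h1 : pullback.lift (pullback.snd p (D.obj.hom ≫ p) ≫ D.obj.hom)
      (pullback.snd p (D.obj.hom ≫ p)) (Category.assoc _ _ _) ≫ θ D =
      pullback.snd p (D.obj.hom ≫ p) := by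
    have e2 : pullback.lift (pullback.snd p (D.obj.hom ≫ p) ≫ D.obj.hom)
        (pullback.snd p (D.obj.hom ≫ p)) (Category.assoc _ _ _) =
        pullback.snd p (D.obj.hom ≫ p) ≫
          pullback.lift (f := p) (g := D.obj.hom ≫ p) D.obj.hom (𝟙 D.obj.left) (by simp) := by
      apply pullback.hom_ext <;> simp
    rw [e2, Category.assoc, diag_θ, Category.comp_id]
  rw [h1] at this
  refine Eq.trans ?_ this
  congr 1
  apply pullback.hom_ext <;> simp [swap]

variable {D}

lemma isSat_of_le {O : D.obj.left.Opens}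
    (h : pullback.snd p (D.obj.hom ≫ p) ⁻¹ᵁ O ≤ θ D ⁻¹ᵁ O) : IsSat D O := by
  refine le_antisymm ?_ h
  intro t ht
  have h1 : swap D t ∈ pullback.snd p (D.obj.hom ≫ p) ⁻¹ᵁ O := by
    show (pullback.snd p (D.obj.hom ≫ p)) (swap D t) ∈ O
    rw [← Scheme.Hom.comp_apply, swap_snd]
    exact ht
  have h2 : θ D (swap D t) ∈ O := h h1
  rw [← Scheme.Hom.comp_apply, swap_θ] at h2
  exact h2

section hom

variable {D' : SchDD p} (j : D' ⟶ D)

/-- The map on sources induced by a morphism of descent data. -/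
noncomputable def srcMap : src D' ⟶ src D :=
  pullback.map p (D'.obj.hom ≫ p) p (D.obj.hom ≫ p) (𝟙 X) j.hom.left (𝟙 S)
    (by simp) (by simp)

@[reassoc (attr := simp)]
lemma srcMap_snd : srcMap j ≫ pullback.snd p (D.obj.hom ≫ p) =
    pullback.snd p (D'.obj.hom ≫ p) ≫ j.hom.left := pullback.lift_snd _ _ _

@[reassoc]
lemma srcMap_θ : srcMap j ≫ θ D = θ D' ≫ j.hom.left := by
  let v : Lifts D'.obj (pullback.snd p (D'.obj.hom ≫ p) ≫ D'.obj.hom) :=
    ⟨pullback.snd p (D'.obj.hom ≫ p), rfl⟩
  have key := j.comm _ _ (src_cond D') v (SchDD.Hom.push j v) rfl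
  rw [φ_eq] at key
  refine Eq.trans ?_ key
  congr 1

lemma isSat_opensRange [IsOpenImmersion j.hom.left] : IsSat D j.hom.left.opensRange := by
  refine isSat_of_le fun t ht => ?_
  obtain ⟨v, hv⟩ := ht
  obtain ⟨t', h1, h2⟩ := Scheme.Pullback.exists_preimage_pullback (f := pullback.snd p (D.obj.hom ≫ p))
    (g := j.hom.left) t v hv.symm
  let k : pullback (pullback.snd p (D.obj.hom ≫ p)) j.hom.left ⟶ src D' :=
    pullback.lift (pullback.fst _ _ ≫ pullback.fst p (D.obj.hom ≫ p)) (pullback.snd _ _) (by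
      rw [Category.assoc, pullback.condition, pullback.condition_assoc, Over.w_assoc j.hom])
  have hk : k ≫ srcMap j = pullback.fst _ _ := by
    apply pullback.hom_ext
    · simp [k, srcMap]
    · simp [k, pullback.condition]
  refine ⟨θ D' (k t'), ?_⟩
  rw [← Scheme.Hom.comp_apply, ← srcMap_θ, ← Scheme.Hom.comp_apply, reassoc_of% hk,
    Scheme.Hom.comp_apply, h1]

lemma exists_isQuotOn_opensRange [IsOpenImmersion j.hom.left] {U : Over S}
    {π' : D'.obj.left ⟶ U.left} (h : IsQuot D' U π') :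
    ∃ π, IsQuotOn D j.hom.left.opensRange U π := by
  let O := j.hom.left.opensRange
  let e : D'.obj.left ≅ O.toScheme := j.hom.left.isoOpensRange
  have he : e.hom ≫ O.ι = j.hom.left := j.hom.left.isoOpensRange_hom_ι
  refine ⟨e.inv ≫ π', isSat_opensRange j, ?_, fun t a b ha hb => ?_⟩
  · refine IsPullback.of_iso h.isPullback e (Iso.refl _) (Iso.refl _) (Iso.refl _) ?_ ?_ ?_ ?_
    · simp
    · simp only [Iso.refl_hom, Category.comp_id]
      rw [reassoc_of% he, Over.w j.hom]
    · simp
    · simp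
  · let t' : _ ⟶ src D' := pullback.lift (t ≫ pullback.fst p (D.obj.hom ≫ p)) (b ≫ e.inv) (by
      have hjw : e.inv ≫ D'.obj.hom = O.ι ≫ D.obj.hom := by
        rw [Iso.inv_comp_eq, reassoc_of% he, Over.w j.hom]
      simp only [Category.assoc]
      rw [reassoc_of% hjw, reassoc_of% hb, pullback.condition])
    have hei : e.inv ≫ j.hom.left = O.ι := by rw [Iso.inv_comp_eq, he]
    have hm : t' ≫ srcMap j = t := by
      apply pullback.hom_ext
      · simp [t', srcMap]
      · simp only [t', Category.assoc, srcMap_snd, pullback.lift_snd_assoc]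
        rw [hei]
        exact hb
    have hat : a ≫ e.inv = t' ≫ θ D' := by
      rw [← cancel_mono j.hom.left]
      conv_rhs => rw [Category.assoc, ← srcMap_θ, reassoc_of% hm, ← ha]
      rw [Category.assoc, hei]
    rw [reassoc_of% hat, h.invariant]
    simp [t']

end hom

theorem effective_of_locally_effective [Flat p] [Surjective p] [IsFpqcMor p]
    (h : ∀ v : D.obj.left, ∃ (D' : SchDD p) (j : D' ⟶ D), IsOpenImmersion j.hom.left ∧
      v ∈ Set.range j.hom.left.base ∧ ∃ U' : Over S, Nonempty ((toDD p).obj U' ≅ D')) :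
    ∃ U : Over S, Nonempty ((toDD p).obj U ≅ D) := by
  refine exists_isQuot_iff.mp (exists_isQuot_of_cover fun v => ?_)
  obtain ⟨D', j, _, hv, hU⟩ := h v
  obtain ⟨U, π', hπ⟩ := exists_isQuot_iff.mpr hU
  obtain ⟨π, hπ'⟩ := exists_isQuotOn_opensRange j hπ
  exact ⟨_, U, π, hv, hπ'⟩

end Groth.Agent.Desc59
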