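import Groth.Prelude.Def_DescFam
import Groth.Agent.Desc59.DDOpen
import Mathlib.AlgebraicGeometry.Morphisms.LocalIso

/-!
Pullback of descent data for schemes; reduction of effectivity to affine covers of affine schemes.
-/

set_option backward.isDefEq.respectTransparency false

universe u

open CategoryTheory CategoryTheory.Limits AlgebraicGeometry

namespace Groth.Agent.Desc59

open Desc

variable {X S X' S' : Scheme.{u}} {p : X ⟶ S} {p' : X' ⟶ S'} {s : S' ⟶ S} {q : X' ⟶ X}

/-- Pullback of a descent datum along a commutative square. -/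
noncomputable def pullDD (w : q ≫ p = p' ≫ s) (D : SchDD p) : SchDD p' where
  obj := Over.mk (pullback.snd D.obj.hom q)
  φ T x₀ x₁ h :=
    (liftsPullbackEquiv D.obj q x₀).trans
      ((D.φ (x₀ ≫ q) (x₁ ≫ q) (by simp only [Category.assoc, w, reassoc_of% h])).trans
        (liftsPullbackEquiv D.obj q x₁).symm)
  φ_natural T T' g x₀ x₁ h h' v v' hv' := by
    apply pullback.hom_ext
    · simp only [Equiv.trans_apply, liftsPullbackEquiv, Equiv.coe_fn_mk, Equiv.coe_fn_symm_mk,
        pullback.lift_fst, Category.assoc]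
      refine (φ_congr D (Category.assoc g x₀ q) (Category.assoc g x₁ q) _ ?_ _
        ⟨g ≫ v.1 ≫ pullback.fst D.obj.hom q, ?_⟩ ?_).trans
        (D.φ_natural g (x₀ ≫ q) (x₁ ≫ q) _ ?_ _ _ rfl)
      · simp only [Category.assoc, w, reassoc_of% h]
      · have e : v.1 ≫ pullback.snd D.obj.hom q = x₀ := v.2
        rw [Category.assoc, Category.assoc, pullback.condition, reassoc_of% e]
      · simp [hv']
      · simp only [Category.assoc, w, reassoc_of% h]
    · simp [liftsPullbackEquiv]
  φ_self T x v := by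
    apply Subtype.ext
    simp only [Equiv.trans_apply, D.φ_self]
    apply pullback.hom_ext
    · simp [liftsPullbackEquiv]
    · simpa [liftsPullbackEquiv] using v.2.symm
  φ_comp T x₀ x₁ x₂ h₀₁ h₁₂ v := by
    simp only [Equiv.trans_apply, Equiv.apply_symm_apply, D.φ_comp]

variable (w : q ≫ p = p' ≫ s) (D : SchDD p)

lemma pullDD_hom : (pullDD w D).obj.hom = pullback.snd D.obj.hom q := rfl

lemma pullDD_φ_fst {T : Scheme.{u}} (x₀ x₁ : T ⟶ X') (h : x₀ ≫ p' = x₁ ≫ p')
    (v : Lifts (pullDD w D).obj x₀) :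
    ((pullDD w D).φ x₀ x₁ h v).1 ≫ pullback.fst D.obj.hom q =
      (D.φ (x₀ ≫ q) (x₁ ≫ q) (by simp only [Category.assoc, w, reassoc_of% h])
        ⟨v.1 ≫ pullback.fst D.obj.hom q, by
          have e : v.1 ≫ pullback.snd D.obj.hom q = x₀ := v.2
          rw [Category.assoc, pullback.condition, reassoc_of% e]⟩).1 := by
  simp [pullDD, liftsPullbackEquiv]

lemma pullDD_φ_snd {T : Scheme.{u}} (x₀ x₁ : T ⟶ X') (h : x₀ ≫ p' = x₁ ≫ p')
    (v : Lifts (pullDD w D).obj x₀) :
    ((pullDD w D).φ x₀ x₁ h v).1 ≫ pullback.snd D.obj.hom q = x₁ :=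
  ((pullDD w D).φ x₀ x₁ h v).2

/-- The map `X' ×_{S'} V' ⟶ X ×_S V`. -/
noncomputable def srcPull : src (pullDD w D) ⟶ src D :=
  pullback.lift (pullback.fst p' ((pullDD w D).obj.hom ≫ p') ≫ q)
    (pullback.snd p' ((pullDD w D).obj.hom ≫ p') ≫ pullback.fst D.obj.hom q) (by
      simp only [Category.assoc, w, pullback.condition_assoc, pullDD_hom])

@[reassoc]
lemma θ_pullDD_fst :
    θ (pullDD w D) ≫ pullback.fst D.obj.hom q = srcPull w D ≫ θ D := by
  refine (pullDD_φ_fst w D _ _ (src_cond (pullDD w D)) ⟨pullback.snd _ _, rfl⟩).trans ?_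
  rw [φ_eq]
  rfl

@[reassoc (attr := simp)]
lemma srcPull_fst : srcPull w D ≫ pullback.fst p (D.obj.hom ≫ p) =
    pullback.fst p' ((pullDD w D).obj.hom ≫ p') ≫ q := pullback.lift_fst _ _ _

@[reassoc (attr := simp)]
lemma srcPull_snd : srcPull w D ≫ pullback.snd p (D.obj.hom ≫ p) =
    pullback.snd p' ((pullDD w D).obj.hom ≫ p') ≫ pullback.fst D.obj.hom q := pullback.lift_snd _ _ _

section descend

variable {p'' : X' ⟶ S} (w' : q ≫ p = p'' ≫ 𝟙 S)

/-- A quotient of the pullback along an fppf cover descends. -/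
theorem exists_isQuot_of_pull [Flat q] [Surjective q] [LocallyOfFinitePresentation q]
    {U : Over S} {π' : (pullDD w' D).obj.left ⟶ U.left} (h : IsQuot (pullDD w' D) U π') :
    ∃ π : D.obj.left ⟶ U.left, IsQuot D U π := by
  have wq : q ≫ p = p'' := by simpa using w'
  let E := pullDD w' D
  let qV : E.obj.left ⟶ D.obj.left := pullback.fst D.obj.hom q
  have : Flat qV := inferInstanceAs (Flat (pullback.fst D.obj.hom q))
  have : Surjective qV := inferInstanceAs (Surjective (pullback.fst D.obj.hom q))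
  have : LocallyOfFinitePresentation qV :=
    inferInstanceAs (LocallyOfFinitePresentation (pullback.fst D.obj.hom q))
  have : Epi qV := Flat.epi_of_flat_of_surjective qV
  have compat : ∀ {T : Scheme.{u}} (a b : T ⟶ E.obj.left), a ≫ qV = b ≫ qV →
      a ≫ π' = b ≫ π' := by
    intro T a b hab
    have hx : (a ≫ E.obj.hom) ≫ q = (b ≫ E.obj.hom) ≫ q := by
      have := congr($hab ≫ D.obj.hom)
      simpa [E, qV, pullDD_hom, pullback.condition] using this
    have hp : (a ≫ E.obj.hom) ≫ p'' = (b ≫ E.obj.hom) ≫ p'' := by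
      simpa [Category.assoc, wq] using congr($hx ≫ p)
    have e : (E.φ _ _ hp ⟨a, rfl⟩).1 = b := by
      apply pullback.hom_ext
      · refine (pullDD_φ_fst w' D _ _ hp _).trans ?_
        refine (φ_congr D rfl hx.symm _ rfl _ ⟨a ≫ qV, ?_⟩ rfl).trans ?_
        · exact (congrArg Subtype.val (D.φ_self _ _)).trans hab
      · exact pullDD_φ_snd w' D _ _ hp _
    rw [← e, h.invariant.φ_comp]
  have : EffectiveEpi qV := inferInstance
  let π : D.obj.left ⟶ U.left := EffectiveEpi.desc qV π' compat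
  have hπ : qV ≫ π = π' := EffectiveEpi.fac qV π' compat
  have hw : π ≫ U.hom = D.obj.hom ≫ p := by
    rw [← cancel_epi qV, reassoc_of% hπ, h.isPullback.w]
    show pullback.snd D.obj.hom q ≫ p'' = pullback.fst D.obj.hom q ≫ _
    rw [pullback.condition_assoc, wq]
  refine ⟨π, ?_, ?_⟩
  · let m : D.obj.left ⟶ pullback U.hom p := pullback.lift π D.obj.hom hw
    suffices IsIso m from IsPullback.of_iso_pullback ⟨hw⟩ (asIso m) (by simp [m]) (by simp [m])
    let m' : E.obj.left ⟶ pullback U.hom p'' := h.isPullback.isoPullback.hom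
    let r : pullback U.hom p'' ⟶ pullback U.hom p :=
      pullback.map _ _ _ _ (𝟙 _) q (𝟙 S) (by simp) (by simp [wq])
    have hbot : IsPullback r (pullback.snd U.hom p'') (pullback.snd U.hom p) q := by
      refine IsPullback.of_right (h₁₂ := pullback.fst U.hom p) (v₁₃ := U.hom) (h₂₂ := p) ?_
        (by simp [r]) (IsPullback.of_hasPullback U.hom p)
      simpa [r, wq] using IsPullback.of_hasPullback U.hom p''
    have htop : IsPullback qV m' m r := by
      refine IsPullback.of_bot (v₂₁ := pullback.snd U.hom p'') (v₂₂ := pullback.snd U.hom p)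
        (h₃₁ := q) ?_ ?_ hbot
      · simpa [m, m', qV, E, pullDD_hom] using IsPullback.of_hasPullback D.obj.hom q
      · apply pullback.hom_ext
        · simp [m, m', r, hπ]
        · simp [m, m', r, qV, E, pullDD_hom, pullback.condition]
    have : Flat r := MorphismProperty.of_isPullback hbot.flip inferInstance
    have : Surjective r := MorphismProperty.of_isPullback hbot.flip inferInstance
    have : LocallyOfFinitePresentation r := MorphismProperty.of_isPullback hbot.flip inferInstance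
    exact MorphismProperty.of_isPullback_of_descendsAlong
      (P := MorphismProperty.isomorphisms Scheme.{u})
      (Q := @Surjective ⊓ @Flat ⊓ @LocallyOfFinitePresentation) htop.flip
      ⟨⟨inferInstance, inferInstance⟩, inferInstance⟩
      (inferInstanceAs (IsIso h.isPullback.isoPullback.hom))
  · let r₁ := pullback.fst (pullback.fst p (D.obj.hom ≫ p)) q
    let r₂ := pullback.fst (r₁ ≫ pullback.snd p (D.obj.hom ≫ p) ≫ D.obj.hom) q
    let r := r₂ ≫ r₁
    have : Epi r := Flat.epi_of_flat_of_surjective r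
    let c₁ := r₂ ≫ pullback.snd (pullback.fst p (D.obj.hom ≫ p)) q
    have hc₁ : c₁ ≫ q = r ≫ pullback.fst p (D.obj.hom ≫ p) := by
      simp [c₁, r, r₁, ← pullback.condition]
    let c₀ := pullback.snd (r₁ ≫ pullback.snd p (D.obj.hom ≫ p) ≫ D.obj.hom) q
    have hc₀ : (r ≫ pullback.snd p (D.obj.hom ≫ p)) ≫ D.obj.hom = c₀ ≫ q := by
      simp only [r, r₂, c₀, Category.assoc]
      exact pullback.condition
    let v : _ ⟶ E.obj.left := pullback.lift (r ≫ pullback.snd p (D.obj.hom ≫ p)) c₀ hc₀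
    let t' : _ ⟶ src E := pullback.lift c₁ v (by
      show c₁ ≫ p'' = v ≫ pullback.snd D.obj.hom q ≫ p''
      calc c₁ ≫ p'' = (c₁ ≫ q) ≫ p := ((Category.assoc c₁ q p).trans (by rw [wq])).symm
        _ = (c₀ ≫ q) ≫ p := by rw [hc₁, ← hc₀]; simp [pullback.condition]
        _ = c₀ ≫ p'' := (Category.assoc c₀ q p).trans (by rw [wq])
        _ = v ≫ pullback.snd D.obj.hom q ≫ p'' := (pullback.lift_snd_assoc _ _ _ _).symm)
    have ht' : t' ≫ srcPull w' D = r := by
      apply pullback.hom_ext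
      · simp [t', E, hc₁]
      · simp [t', E, v]
    rw [IsInvariant, ← cancel_epi r]
    have e : θ E ≫ π' = pullback.snd p'' (E.obj.hom ≫ p'') ≫ π' := h.invariant
    calc r ≫ θ D ≫ π = (t' ≫ θ E ≫ qV) ≫ π := by
          rw [θ_pullDD_fst, reassoc_of% ht']; simp
      _ = t' ≫ θ E ≫ π' := by simp [hπ]
      _ = v ≫ π' := by rw [e]; simp [t']
      _ = r ≫ pullback.snd p (D.obj.hom ≫ p) ≫ π := by
          rw [← hπ, ← Category.assoc v]
          simp [v, qV]

end descend

section restrict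

/-- A quotient of the restriction to an open of the base gives a quotient on a saturated open. -/
theorem exists_isQuotOn_of_restrict (W : S.Opens) {U : Over W.toScheme}
    {π' : (pullDD (morphismRestrict_ι p W).symm D).obj.left ⟶ U.left}
    (h : IsQuot (pullDD (morphismRestrict_ι p W).symm D) U π') :
    ∃ π, IsQuotOn D ((D.obj.hom ≫ p) ⁻¹ᵁ W) (Over.mk (U.hom ≫ W.ι)) π := by
  let hw := (morphismRestrict_ι p W).symm
  let E := pullDD hw D
  let O := (D.obj.hom ≫ p) ⁻¹ᵁ W
  let qV : E.obj.left ⟶ D.obj.left := pullback.fst D.obj.hom (p ⁻¹ᵁ W).ι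
  let e : O.toScheme ≅ E.obj.left := IsOpenImmersion.isoOfRangeEq O.ι qV (by
    rw [Scheme.Opens.range_ι]
    exact ((Scheme.Pullback.range_fst D.obj.hom (p ⁻¹ᵁ W).ι).trans
      (by rw [Scheme.Opens.range_ι]; rfl)).symm)
  have he : e.hom ≫ qV = O.ι := IsOpenImmersion.isoOfRangeEq_hom_fac _ _ _
  have hcond : ∀ {T : Scheme.{u}} (t : T ⟶ src D),
      (t ≫ pullback.fst p (D.obj.hom ≫ p)) ≫ p = (t ≫ pullback.snd p (D.obj.hom ≫ p)) ≫ D.obj.hom ≫ p :=
    fun t => by simp [pullback.condition]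
  refine ⟨e.hom ≫ π', ?_, ?_, fun {T} t a b ha hb => ?_⟩
  · apply le_antisymm <;> intro z hz
    · show (D.obj.hom ≫ p) (pullback.snd p (D.obj.hom ≫ p) z) ∈ W
      have hz' : (θ D ≫ D.obj.hom ≫ p) z ∈ W := hz
      rw [θ_hom_assoc, pullback.condition] at hz'
      exact hz'
    · show (D.obj.hom ≫ p) (θ D z) ∈ W
      have hz' : (pullback.snd p (D.obj.hom ≫ p) ≫ D.obj.hom ≫ p) z ∈ W := hz
      rw [← pullback.condition, ← θ_hom_assoc] at hz'
      exact hz'
  · refine IsPullback.of_iso (h.isPullback.paste_vert (isPullback_morphismRestrict p W).flip.flip)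
      e.symm (Iso.refl _) (Iso.refl _) (Iso.refl _) ?_ ?_ ?_ ?_
    · simp
    · simp only [Iso.symm_hom, Iso.refl_hom, Category.comp_id, pullDD_hom]
      rw [Iso.eq_inv_comp, ← pullback.condition]
      exact (reassoc_of% he) _
    · simp
    · simp
  · have hr : Set.range (t ≫ pullback.fst p (D.obj.hom ≫ p)) ⊆ Set.range (p ⁻¹ᵁ W).ι := by
      rintro _ ⟨z, rfl⟩
      rw [Scheme.Opens.range_ι]
      show p ((t ≫ pullback.fst p (D.obj.hom ≫ p)) z) ∈ W
      rw [← Scheme.Hom.comp_apply, hcond, ← hb, Category.assoc, Scheme.Hom.comp_apply,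
        Scheme.Hom.comp_apply]
      exact (b z).2
    let c := IsOpenImmersion.lift _ _ hr
    have hc : c ≫ (p ⁻¹ᵁ W).ι = t ≫ pullback.fst p (D.obj.hom ≫ p) := IsOpenImmersion.lift_fac _ _ _
    let t' : T ⟶ src E := pullback.lift c (b ≫ e.hom) (by
      rw [← cancel_mono W.ι]
      simp only [Category.assoc, morphismRestrict_ι, E, pullDD_hom]
      rw [reassoc_of% hc, ← pullback.condition_assoc, reassoc_of% he, reassoc_of% hb,
        pullback.condition])
    have ht' : t' ≫ srcPull hw D = t := by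
      apply pullback.hom_ext
      · simp [t', E, hc]
      · simp only [Category.assoc, t', E, srcPull_snd, pullback.lift_snd_assoc]
        exact (congrArg (b ≫ ·) he).trans hb
    have hae : a ≫ e.hom = t' ≫ θ E := by
      rw [← cancel_mono qV, Category.assoc, he, ha, Category.assoc, θ_pullDD_fst, reassoc_of% ht']
    rw [reassoc_of% hae, h.invariant]
    simp [t', E]

end restrict

/-- Effectivity reduces to surjective flat morphisms of affine schemes, for properties stable under
base change. -/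
theorem effective_of_affine_case (P : MorphismProperty Scheme.{u}) [P.IsStableUnderBaseChange]
    (h3 : ∀ (X S : Scheme.{u}) (p : X ⟶ S), IsAffine X → IsAffine S → Flat p → Surjective p →
      ∀ D : SchDD p, P D.obj.hom → ∃ U : Over S, Nonempty ((toDD p).obj U ≅ D))
    {X S : Scheme.{u}} (p : X ⟶ S) [Surjective p] [Flat p] [QuasiCompact p]
    (D : SchDD p) (hD : P D.obj.hom) : ∃ U : Over S, Nonempty ((toDD p).obj U ≅ D) := by
  refine exists_isQuot_iff.mp (exists_isQuot_of_cover fun v => ?_)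
  obtain ⟨_, ⟨W, hW, rfl⟩, hvW, -⟩ :=
    S.isBasis_affineOpens.exists_subset_of_mem_open (Set.mem_univ ((D.obj.hom ≫ p) v)) isOpen_univ
  change S.Opens at W
  have : IsAffine W.toScheme := hW
  let D₁ := pullDD (morphismRestrict_ι p W).symm D
  have : CompactSpace (p ⁻¹ᵁ W).toScheme := QuasiCompact.compactSpace_of_compactSpace (p ∣_ W)
  obtain ⟨X', q, hqs, hqi, hX'⟩ :=
    (p ⁻¹ᵁ W).toScheme.exists_hom_isAffine_of_isZariskiLocalAtSource @IsLocalIso
  have : Flat q := IsLocalIso.le_of_isZariskiLocalAtSource @Flat _ _ _ hqi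
  have : LocallyOfFinitePresentation q :=
    have : MorphismProperty.ContainsIdentities @LocallyOfFinitePresentation.{u} :=
      ⟨fun _ => inferInstance⟩
    IsLocalIso.le_of_isZariskiLocalAtSource @LocallyOfFinitePresentation _ _ _ hqi
  have w₂ : q ≫ (p ∣_ W) = (q ≫ (p ∣_ W)) ≫ 𝟙 _ := (Category.comp_id _).symm
  let D₂ := pullDD w₂ D₁
  have hP₁ : P D₁.obj.hom := P.pullback_snd D.obj.hom _ hD
  have hP₂ : P D₂.obj.hom := P.pullback_snd D₁.obj.hom _ hP₁
  have hps : Surjective (p ∣_ W) :=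
    MorphismProperty.of_isPullback (isPullback_morphismRestrict p W).flip inferInstance
  obtain ⟨U, π, hπ⟩ := exists_isQuot_iff.mpr
    (h3 X' W.toScheme (q ≫ (p ∣_ W)) hX' inferInstance inferInstance inferInstance D₂ hP₂)
  obtain ⟨π₁, hπ₁⟩ := exists_isQuot_of_pull D₁ w₂ hπ
  obtain ⟨π₀, hπ₀⟩ := exists_isQuotOn_of_restrict D W hπ₁
  exact ⟨_, _, π₀, hvW, hπ₀⟩

end Groth.Agent.Desc59
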