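import Groth.Agent.Desc59.DDPullIso
import Mathlib.AlgebraicGeometry.Sites.Fpqc

/-!
Pullback of descent data along a refinement of families: faithfulness and fullness.
-/

set_option backward.isDefEq.respectTransparency false
set_option backward.isDefEq.respectTransparency.types false

universe w w' u

open CategoryTheory CategoryTheory.Limits AlgebraicGeometry

namespace Groth.Agent.Desc59.Refine

open Desc PullIso

variable {S : Scheme.{u}} {ι : Type w} {κ : Type w'} {U : ι → Scheme.{u}} {V : κ → Scheme.{u}}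
  {fU : ∀ i, U i ⟶ S} {fV : ∀ j, V j ⟶ S} {α : ι → κ} {g : ∀ i, U i ⟶ V (α i)}

variable (fU) in
/-- The sieve of maps into `T` whose composite to `S` factors through a member of the family. -/
def coverSieve {T : Scheme.{u}} (t : T ⟶ S) : Sieve T where
  arrows {T'} h := ∃ (i : ι) (y : T' ⟶ U i), h ≫ t = y ≫ fU i
  downward_closed := fun {_ _} _ hh k => by
    obtain ⟨i, y, e⟩ := hh
    exact ⟨i, k ≫ y, by rw [Category.assoc, e, Category.assoc]⟩

lemma coverSieve_comp {T T' : Scheme.{u}} (t : T ⟶ S) (x : T' ⟶ T) :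
    (coverSieve fU t).pullback x = coverSieve fU (x ≫ t) := by
  ext Z h
  simp [coverSieve, Sieve.pullback_apply]

variable (w : ∀ i, g i ≫ fV (α i) = fU i ≫ 𝟙 S) {D D' : SchDDFam fV}

include w in
lemma point_cond {T : Scheme.{u}} {j : κ} {i : ι} (x : T ⟶ V j) (y : T ⟶ U i)
    (e : x ≫ fV j = y ≫ fU i) : x ≫ fV j = (y ≫ g i) ≫ fV (α i) := by
  rw [Category.assoc, w, Category.comp_id, e]

/-- A point of `D` over an image point, transported by a morphism of pullbacks. -/
noncomputable def pushPt (b : (pullDDFam w).obj D ⟶ (pullDDFam w).obj D') {T : Scheme.{u}} {i : ι}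
    (y : T ⟶ U i) (c : Lifts (D.obj (α i)) (y ≫ g i)) : Lifts (D'.obj (α i)) (y ≫ g i) :=
  liftsPullbackEquiv (D'.obj (α i)) (g i) y
    (SchDDFam.Hom.push b ((liftsPullbackEquiv (D.obj (α i)) (g i) y).symm c))

lemma pushPt_val (b : (pullDDFam w).obj D ⟶ (pullDDFam w).obj D') {T : Scheme.{u}} {i : ι}
    (y : T ⟶ U i) (c : Lifts (D.obj (α i)) (y ≫ g i)) :
    (pushPt w b y c).1 = (pullback.lift c.1 y c.2 ≫ (b.hom i).left) ≫ pullback.fst _ _ := rfl

lemma comp_pushPt (b : (pullDDFam w).obj D ⟶ (pullDDFam w).obj D') {T T' : Scheme.{u}} {i : ι}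
    (k : T' ⟶ T) (y : T ⟶ U i) (c : Lifts (D.obj (α i)) (y ≫ g i)) (y' : T' ⟶ U i) (hy : k ≫ y = y')
    (c' : Lifts (D.obj (α i)) (y' ≫ g i)) (hc : c'.1 = k ≫ c.1) :
    k ≫ (pushPt w b y c).1 = (pushPt w b y' c').1 := by
  have e : pullback.lift c'.1 y' c'.2 = k ≫ pullback.lift c.1 y c.2 := by
    apply pullback.hom_ext
    · rw [pullback.lift_fst, Category.assoc, pullback.lift_fst, hc]
    · rw [pullback.lift_snd, Category.assoc, pullback.lift_snd, hy]
  rw [pushPt_val, pushPt_val, e]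
  exact ((congrArg (k ≫ ·) (Category.assoc _ _ _)).trans
    ((Category.assoc _ _ _).symm.trans (Category.assoc _ _ _).symm))

lemma pushPt_φ (b : (pullDDFam w).obj D ⟶ (pullDDFam w).obj D') {T : Scheme.{u}} {i i' : ι}
    (y : T ⟶ U i) (y' : T ⟶ U i') (h : y ≫ fU i = y' ≫ fU i')
    (c : Lifts (D.obj (α i)) (y ≫ g i)) :
    pushPt w b y' (D.φ _ _ (pull_compat w y y' h) c) =
      D'.φ _ _ (pull_compat w y y' h) (pushPt w b y c) := by
  have key := b.comm y y' h ((liftsPullbackEquiv (D.obj (α i)) (g i) y).symm c)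
    (SchDDFam.Hom.push b ((liftsPullbackEquiv (D.obj (α i)) (g i) y).symm c)) rfl
  replace key : ((pullDDFam w).obj D').φ y y' h
      (SchDDFam.Hom.push b ((liftsPullbackEquiv (D.obj (α i)) (g i) y).symm c)) =
      SchDDFam.Hom.push b (((pullDDFam w).obj D).φ y y' h
        ((liftsPullbackEquiv (D.obj (α i)) (g i) y).symm c)) := Subtype.ext key
  have k2 := congrArg (liftsPullbackEquiv (D'.obj (α i')) (g i') y') key
  simp only [pullDDFam, pullDDFamObj, Equiv.trans_apply, Equiv.apply_symm_apply] at k2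
  exact k2.symm

/-- The value at a point of the morphism to be constructed. -/
noncomputable def val (b : (pullDDFam w).obj D ⟶ (pullDDFam w).obj D') {T : Scheme.{u}} {j : κ}
    {x : T ⟶ V j} (v : Lifts (D.obj j) x) (i : ι) (y : T ⟶ U i) (e : x ≫ fV j = y ≫ fU i) :
    Lifts (D'.obj j) x :=
  D'.φ (y ≫ g i) x (point_cond w x y e).symm
    (pushPt w b y (D.φ x (y ≫ g i) (point_cond w x y e) v))

lemma val_indep (b : (pullDDFam w).obj D ⟶ (pullDDFam w).obj D') {T : Scheme.{u}} {j : κ}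
    {x : T ⟶ V j} (v : Lifts (D.obj j) x) {i i' : ι} (y : T ⟶ U i) (y' : T ⟶ U i')
    (e : x ≫ fV j = y ≫ fU i) (e' : x ≫ fV j = y' ≫ fU i') :
    val w b v i' y' e' = val w b v i y e := by
  have h : y ≫ fU i = y' ≫ fU i' := e.symm.trans e'
  rw [val, val, ← D.φ_comp x (y ≫ g i) (y' ≫ g i') (point_cond w x y e) (pull_compat w y y' h) v,
    pushPt_φ w b y y' h, D'.φ_comp]

lemma comp_val (b : (pullDDFam w).obj D ⟶ (pullDDFam w).obj D') {T T' : Scheme.{u}} {j : κ}
    (k : T' ⟶ T) {x : T ⟶ V j} (v : Lifts (D.obj j) x) (i : ι) (y : T ⟶ U i)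
    (e : x ≫ fV j = y ≫ fU i) {x' : T' ⟶ V j} (hx : k ≫ x = x') (v' : Lifts (D.obj j) x')
    (hv : v'.1 = k ≫ v.1) (y' : T' ⟶ U i) (hy : k ≫ y = y') (e' : x' ≫ fV j = y' ≫ fU i) :
    k ≫ (val w b v i y e).1 = (val w b v' i y' e').1 := by
  have hy' : k ≫ y ≫ g i = y' ≫ g i := by rw [← Category.assoc, hy]
  refine (comp_φ D' k _ _ _ _).trans (φ_congr D' hy' hx _ _ _ _ ?_)
  refine comp_pushPt w b k y _ y' hy _ ?_
  exact ((comp_φ D k _ _ _ _).trans (φ_congr D hx hy' _ _ _ _ hv.symm)).symm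

lemma val_φ (b : (pullDDFam w).obj D ⟶ (pullDDFam w).obj D') {T : Scheme.{u}} {j j' : κ}
    (x : T ⟶ V j) (x' : T ⟶ V j') (h : x ≫ fV j = x' ≫ fV j') (v : Lifts (D.obj j) x) (i : ι)
    (y : T ⟶ U i) (e : x ≫ fV j = y ≫ fU i) :
    val w b (D.φ x x' h v) i y (h.symm.trans e) = D'.φ x x' h (val w b v i y e) := by
  rw [val, val, D.φ_comp, D'.φ_comp]

lemma val_pull (b : (pullDDFam w).obj D ⟶ (pullDDFam w).obj D') {T : Scheme.{u}} {i : ι}
    (z : T ⟶ U i) (u0 : Lifts (((pullDDFam w).obj D).obj i) z) :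
    val w b (liftsPullbackEquiv (D.obj (α i)) (g i) z u0) i z
      (by rw [Category.assoc, w, Category.comp_id]) =
      liftsPullbackEquiv (D'.obj (α i)) (g i) z (SchDDFam.Hom.push b u0) := by
  rw [val, D.φ_self, D'.φ_self, pushPt]
  erw [Equiv.symm_apply_apply]

lemma val_map (a : D ⟶ D') {T : Scheme.{u}} {j : κ}
    {x : T ⟶ V j} (v : Lifts (D.obj j) x) (i : ι) (y : T ⟶ U i) (e : x ≫ fV j = y ≫ fU i) :
    (val w ((pullDDFam w).map a) v i y e).1 = v.1 ≫ (a.hom j).left := by
  let c := D.φ x (y ≫ g i) (point_cond w x y e) v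
  have hc : (pushPt w ((pullDDFam w).map a) y c).1 = c.1 ≫ (a.hom (α i)).left := by
    rw [pushPt_val]
    show (pullback.lift c.1 y c.2 ≫ pullback.map (D.obj (α i)).hom (g i) (D'.obj (α i)).hom (g i)
      (a.hom (α i)).left (𝟙 _) (𝟙 _) (by simp) (by simp)) ≫ pullback.fst _ _ = _
    rw [Category.assoc, pullback.lift_fst, pullback.lift_fst_assoc]
  refine (a.comm _ _ _ c _ hc).trans ?_
  rw [D.φ_comp, D.φ_self]

variable (fU fV) in
/-- Maps out of `T` are determined by their restrictions to the cover sieve. -/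
def Separates : Prop :=
  ∀ (j : κ) (T : Scheme.{u}) (x : T ⟶ V j) (W : Scheme.{u}) (s t : T ⟶ W),
    (∀ (T' : Scheme.{u}) (h : T' ⟶ T) (i : ι) (y : T' ⟶ U i),
      h ≫ x ≫ fV j = y ≫ fU i → h ≫ s = h ≫ t) → s = t

theorem faithful (hsep : Separates fU fV) : (pullDDFam w).Faithful where
  map_injective {D D'} a a' haa := by
    apply SchDDFam.hom_ext
    funext j
    apply Over.OverMorphism.ext
    refine hsep j _ (D.obj j).hom _ _ _ fun T' h i y e => ?_
    have e' : (h ≫ (D.obj j).hom) ≫ fV j = y ≫ fU i := by rw [Category.assoc, e]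
    rw [← val_map w a (j := j) (x := h ≫ (D.obj j).hom) ⟨h, rfl⟩ i y e',
      ← val_map w a' (j := j) (x := h ≫ (D.obj j).hom) ⟨h, rfl⟩ i y e', haa]

theorem separates_of_sieve
    (hcov : ∀ j, coverSieve fU (fV j) ∈ Scheme.fpqcTopology (V j)) : Separates fU fV := by
  intro j T x W s t hst
  have hR : (coverSieve fU (x ≫ fV j)) ∈ Scheme.fpqcTopology T := by
    rw [← coverSieve_comp]; exact Scheme.fpqcTopology.pullback_stable x (hcov j)
  have hsh := (GrothendieckTopology.Subcanonical.isSheaf_of_isRepresentable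
    (J := Scheme.fpqcTopology.{u}) (yoneda.obj W)) _ hR
  refine hsh.isSeparatedFor.ext fun T' h hh => ?_
  obtain ⟨i, y, e⟩ := hh
  exact hst T' h i y e

theorem exists_glue (hcov : ∀ j, coverSieve fU (fV j) ∈ Scheme.fpqcTopology (V j))
    (b : (pullDDFam w).obj D ⟶ (pullDDFam w).obj D') {T : Scheme.{u}} {j : κ} {x : T ⟶ V j}
    (v : Lifts (D.obj j) x) :
    ∃ t : Lifts (D'.obj j) x, ∀ (T' : Scheme.{u}) (h : T' ⟶ T) (i : ι) (y : T' ⟶ U i)
      (e : (h ≫ x) ≫ fV j = y ≫ fU i),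
      h ≫ t.1 = (val w b (x := h ≫ x) ⟨h ≫ v.1, by rw [Category.assoc, v.2]⟩ i y e).1 := by
  have hR : (coverSieve fU (x ≫ fV j)) ∈ Scheme.fpqcTopology T := by
    rw [← coverSieve_comp]; exact Scheme.fpqcTopology.pullback_stable x (hcov j)
  have hsh := (GrothendieckTopology.Subcanonical.isSheaf_of_isRepresentable
    (J := Scheme.fpqcTopology.{u}) (yoneda.obj (D'.obj j).left)) _ hR
  let fam : Presieve.FamilyOfElements (yoneda.obj (D'.obj j).left)
      (coverSieve fU (x ≫ fV j)).arrows := fun T' h hh =>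
    (val w b (x := h ≫ x) ⟨h ≫ v.1, by rw [Category.assoc, v.2]⟩ hh.choose hh.choose_spec.choose
      ((Category.assoc _ _ _).trans hh.choose_spec.choose_spec)).1
  have hfam : fam.Compatible := by
    rw [Presieve.compatible_iff_sieveCompatible]
    intro Y Z h k hh
    obtain ⟨i, y, e⟩ := hh
    refine ((congrArg Subtype.val (val_indep w b (x := (k ≫ h) ≫ x) _ (k ≫ y) _
      (by simp [e]) _)).trans ?_)
    refine (comp_val w b k (x := h ≫ x) ⟨h ≫ v.1, by rw [Category.assoc, v.2]⟩ i y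
      (by rw [Category.assoc, e]) (x' := (k ≫ h) ≫ x) (Category.assoc _ _ _).symm
      ⟨(k ≫ h) ≫ v.1, by rw [Category.assoc, v.2]⟩ (Category.assoc _ _ _) _ rfl
      (by simp [e])).symm.trans ?_
    exact congrArg (k ≫ ·) (congrArg Subtype.val (val_indep w b (x := h ≫ x) _ _ y _ _))
  obtain ⟨t, ht, -⟩ := hsh fam hfam
  have hspec : ∀ (T' : Scheme.{u}) (h : T' ⟶ T) (i : ι) (y : T' ⟶ U i)
      (e : (h ≫ x) ≫ fV j = y ≫ fU i),
      h ≫ t = (val w b (x := h ≫ x) ⟨h ≫ v.1, by rw [Category.assoc, v.2]⟩ i y e).1 := by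
    intro T' h i y e
    have hh : coverSieve fU (x ≫ fV j) h := ⟨i, y, by rw [← Category.assoc, e]⟩
    refine (ht h hh).trans ?_
    exact congrArg Subtype.val (val_indep w b _ _ _ _ _)
  refine ⟨⟨t, ?_⟩, hspec⟩
  refine separates_of_sieve hcov j T x _ _ _ fun T' h i y e => ?_
  rw [← Category.assoc, hspec T' h i y (by rw [Category.assoc, e])]
  exact (val w b (x := h ≫ x) ⟨h ≫ v.1, by rw [Category.assoc, v.2]⟩ i y _).2

theorem full (hcov : ∀ j, coverSieve fU (fV j) ∈ Scheme.fpqcTopology (V j)) :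
    (pullDDFam w).Full where
  map_surjective {D D'} b := by
    have hsep := separates_of_sieve hcov
    choose Φ hΦ using fun (T : Scheme.{u}) (j : κ) (x : T ⟶ V j) (v : Lifts (D.obj j) x) =>
      exists_glue w hcov b v
    -- values are compatible with composition
    have hnat : ∀ (T : Scheme.{u}) (j : κ) (x : T ⟶ V j) (v : Lifts (D.obj j) x),
        (Φ T j x v).1 = v.1 ≫ (Φ _ j (D.obj j).hom ⟨𝟙 _, Category.id_comp _⟩).1 := by
      intro T j x v
      refine hsep j T x _ _ _ fun T' h i y e => ?_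
      refine (hΦ T j x v T' h i y (by rw [Category.assoc, e])).trans ?_
      refine Eq.trans ?_ (Category.assoc _ _ _)
      refine Eq.trans ?_ (hΦ _ j (D.obj j).hom ⟨𝟙 _, Category.id_comp _⟩ T' (h ≫ v.1) i y
        (by simp [v.2, e])).symm
      have e1 : (h ≫ v.1) ≫ (D.obj j).hom = h ≫ x := by rw [Category.assoc, v.2]
      exact ((comp_val w b (𝟙 T') _ i y _ (x' := h ≫ x) (by rw [Category.id_comp, e1])
        ⟨h ≫ v.1, e1⟩ (by simp) y (Category.id_comp _) (by rw [Category.assoc, e])).symm.trans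
        (Category.id_comp _))
    let a : D ⟶ D' :=
      { hom := fun j => Over.homMk (Φ _ j (D.obj j).hom ⟨𝟙 _, Category.id_comp _⟩).1
          (Φ _ j (D.obj j).hom ⟨𝟙 _, Category.id_comp _⟩).2
        comm := fun T j j' x x' h v t ht => by
          have ht' : t = Φ T j x v := Subtype.ext (ht.trans (hnat T j x v).symm)
          subst ht'
          refine Eq.trans ?_ (hnat T j' x' (D.φ x x' h v))
          refine hsep j T x _ _ _ fun T' k i y e => ?_
          have e' : (k ≫ x') ≫ fV j' = y ≫ fU i := by rw [Category.assoc, ← h, e]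
          rw [hΦ T j' x' _ T' k i y e', comp_φ D' k]
          refine (φ_congr D' rfl rfl _ (by rw [Category.assoc, e, e']) _
            (val w b (x := k ≫ x) ⟨k ≫ v.1, by rw [Category.assoc, v.2]⟩ i y
              (by rw [Category.assoc, e])) (hΦ T j x v T' k i y (by rw [Category.assoc, e]))).trans ?_
          rw [← val_φ w b (k ≫ x) (k ≫ x') (by rw [Category.assoc, e, e'])]
          refine congrArg (fun p : Lifts (D.obj j') (k ≫ x') => (val w b p i y e').1) ?_
          exact Subtype.ext (comp_φ D k _ _ _ _).symm }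
    refine ⟨a, ?_⟩
    apply SchDDFam.hom_ext
    funext i
    apply Over.OverMorphism.ext
    let Y₀ := pullback (D.obj (α i)).hom (g i)
    let u0 : Lifts (((pullDDFam w).obj D).obj i) (pullback.snd (D.obj (α i)).hom (g i)) :=
      ⟨𝟙 Y₀, Category.id_comp _⟩
    show (pullback.map (D.obj (α i)).hom (g i) (D'.obj (α i)).hom (g i)
        (Φ _ (α i) (D.obj (α i)).hom ⟨𝟙 _, Category.id_comp _⟩).1 (𝟙 _) (𝟙 _)
        ((Category.comp_id _).trans (Φ _ (α i) (D.obj (α i)).hom ⟨𝟙 _, Category.id_comp _⟩).2.symm)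
        (by simp)) = (b.hom i).left
    apply pullback.hom_ext
    · rw [pullback.lift_fst]
      have hb' := congrArg Subtype.val (val_pull w b _ u0)
      refine Eq.trans ?_ (hb'.trans (congrArg (· ≫ pullback.fst (D'.obj (α i)).hom (g i))
        (Category.id_comp (b.hom i).left)))
      let v' := liftsPullbackEquiv (D.obj (α i)) (g i) _ u0
      have hv' : v'.1 = pullback.fst (D.obj (α i)).hom (g i) := Category.id_comp _
      have e2 : (pullback.snd (D.obj (α i)).hom (g i) ≫ g i) ≫ fV (α i) =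
          pullback.snd (D.obj (α i)).hom (g i) ≫ fU i := by rw [Category.assoc, w, Category.comp_id]
      have e1 := (hnat Y₀ (α i) _ v').trans
        (congrArg (· ≫ (Φ _ (α i) (D.obj (α i)).hom ⟨𝟙 _, Category.id_comp _⟩).1) hv')
      refine e1.symm.trans ((Category.id_comp _).symm.trans ?_)
      refine (hΦ Y₀ (α i) _ v' Y₀ (𝟙 _) i (pullback.snd _ _) (by rw [Category.id_comp, e2])).trans ?_
      exact ((Category.id_comp _).symm.trans (comp_val w b (𝟙 Y₀)
        (x := 𝟙 Y₀ ≫ pullback.snd (D.obj (α i)).hom (g i) ≫ g i)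
        ⟨𝟙 Y₀ ≫ v'.1, by rw [Category.assoc, v'.2]⟩ i (pullback.snd _ _)
        (by rw [Category.id_comp, e2]) (x' := pullback.snd (D.obj (α i)).hom (g i) ≫ g i)
        (by simp) v' (by simp) (pullback.snd _ _) (Category.id_comp _) e2))
    · rw [pullback.lift_snd, Category.comp_id]
      exact (Over.w (b.hom i)).symm

/-- The cover sieve is covering when it contains a covering presieve. -/
theorem coverSieve_mem_of_le {T : Scheme.{u}} {t : T ⟶ S} {R : Presieve T}
    (hR : R ∈ Scheme.fpqcPrecoverage T)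
    (hle : ∀ ⦃T' : Scheme.{u}⦄ ⦃h : T' ⟶ T⦄, R h → ∃ (i : ι) (y : T' ⟶ U i), h ≫ t = y ≫ fU i) :
    coverSieve fU t ∈ Scheme.fpqcTopology T := by
  refine Scheme.fpqcTopology.superset_covering ?_ (Precoverage.generate_mem_toGrothendieck hR)
  rintro Z h ⟨Y, a, b, hb, rfl⟩
  exact (coverSieve fU t).downward_closed (hle hb) a

/-- For a covering family, all cover sieves are covering. -/
theorem coverSieve_mem_of_family (hu : Presieve.ofArrows U fU ∈ Scheme.fpqcPrecoverage S)
    {T : Scheme.{u}} (t : T ⟶ S) : coverSieve fU t ∈ Scheme.fpqcTopology T := by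
  rw [show coverSieve fU t = (coverSieve fU (𝟙 S)).pullback t by rw [coverSieve_comp, Category.comp_id]]
  refine Scheme.fpqcTopology.pullback_stable t (coverSieve_mem_of_le hu ?_)
  rintro _ _ ⟨i⟩
  exact ⟨i, 𝟙 _, by simp⟩

end Groth.Agent.Desc59.Refine
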