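import Groth.Agent.Desc59.DDPull

/-!
Descending a quotient along an arbitrary morphism from an fpqc cover of the base.
-/

set_option backward.isDefEq.respectTransparency false

universe u

open CategoryTheory CategoryTheory.Limits AlgebraicGeometry

namespace Groth.Agent.Desc59

open Desc

variable {X S X' : Scheme.{u}} {p : X ⟶ S} {p' : X' ⟶ S} {g : X' ⟶ X}

/-- A quotient of the pullback along any morphism whose composite to the base is fpqc descends. -/
theorem exists_isQuot_of_subcover [Flat p'] [Surjective p'] [QuasiCompact p'] (D : SchDD p)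
    (w : g ≫ p = p' ≫ 𝟙 S) {U : Over S} {π' : (pullDD w D).obj.left ⟶ U.left}
    (h : IsQuot (pullDD w D) U π') : ∃ π : D.obj.left ⟶ U.left, IsQuot D U π := by
  have wg : g ≫ p = p' := by simpa using w
  let E := pullDD w D
  let qV : E.obj.left ⟶ D.obj.left := pullback.fst D.obj.hom g
  let Xp := pullback p' (D.obj.hom ≫ p)
  let pr : Xp ⟶ D.obj.left := pullback.snd p' (D.obj.hom ≫ p)
  have : Flat pr := inferInstanceAs (Flat (pullback.snd p' (D.obj.hom ≫ p)))
  have : Surjective pr := inferInstanceAs (Surjective (pullback.snd p' (D.obj.hom ≫ p)))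
  have : QuasiCompact pr := inferInstanceAs (QuasiCompact (pullback.snd p' (D.obj.hom ≫ p)))
  have : Epi pr := Flat.epi_of_flat_of_surjective pr
  let a₀ : Xp ⟶ src D := pullback.lift (pullback.fst _ _ ≫ g) pr (by
    rw [Category.assoc, wg]; exact pullback.condition)
  let m : Xp ⟶ E.obj.left := pullback.lift (a₀ ≫ θ D) (pullback.fst _ _) (by
    rw [Category.assoc, θ_hom, pullback.lift_fst])
  have hm : m ≫ qV = a₀ ≫ θ D := pullback.lift_fst _ _ _
  have hm' : m ≫ E.obj.hom = pullback.fst p' (D.obj.hom ≫ p) := pullback.lift_snd _ _ _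
  -- points with the same image in `E` modulo `θ`
  have key : ∀ {Z : Scheme.{u}} (a b : Z ⟶ Xp) (ha : a ≫ pr = b ≫ pr),
      a ≫ m ≫ π' = b ≫ m ≫ π' := by
    intro Z a b ha
    have hp : (b ≫ pullback.fst p' (D.obj.hom ≫ p)) ≫ p' = (a ≫ m) ≫ E.obj.hom ≫ p' := by
      rw [Category.assoc, Category.assoc, reassoc_of% hm', pullback.condition]
      exact (reassoc_of% ha) _ |>.symm
    let t : Z ⟶ src E := pullback.lift (b ≫ pullback.fst _ _) (a ≫ m) hp
    have ht : t ≫ θ E = b ≫ m := by
      apply pullback.hom_ext
      · rw [Category.assoc, θ_pullDD_fst, Category.assoc, hm, ← Category.assoc t]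
        have h1 : (a ≫ pullback.fst p' (D.obj.hom ≫ p) ≫ g) ≫ p =
            (b ≫ pr) ≫ D.obj.hom ≫ p := by
          simp only [Category.assoc, wg, pullback.condition]
          exact (reassoc_of% ha) _
        have h2 : (b ≫ pullback.fst p' (D.obj.hom ≫ p) ≫ g) ≫ p =
            (b ≫ pr) ≫ D.obj.hom ≫ p := by
          simp only [Category.assoc, wg, pullback.condition]
          rfl
        have key := lift_θ_trans D (b ≫ pr) _ _ h1 h2
        refine Eq.trans ?_ (key.trans ?_)
        · congr 1
          apply pullback.hom_ext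
          · simp [t, E]
          · simp only [t, E, Category.assoc, srcPull_snd, pullback.lift_snd_assoc, pullback.lift_snd]
            refine (congrArg (a ≫ ·) hm).trans ?_
            rw [← Category.assoc]
            congr 1
            apply pullback.hom_ext
            · simp [a₀]
            · simp [a₀, ha]
        · refine Eq.trans (congrArg (· ≫ θ D) ?_) (Category.assoc _ _ _)
          apply pullback.hom_ext <;> simp [a₀]
      · refine (Category.assoc _ _ _).trans ((congrArg (t ≫ ·) (θ_hom E)).trans ?_)
        rw [pullback.lift_fst, Category.assoc]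
        exact congrArg (b ≫ ·) hm'.symm
    rw [← reassoc_of% ht, h.invariant]
    simp [t, E]
  have : EffectiveEpi pr := inferInstance
  let π : D.obj.left ⟶ U.left := EffectiveEpi.desc pr (m ≫ π') fun a b hab => key a b hab
  have hπ : pr ≫ π = m ≫ π' := EffectiveEpi.fac pr _ _
  have hw : π ≫ U.hom = D.obj.hom ≫ p := by
    rw [← cancel_epi pr, reassoc_of% hπ, h.isPullback.w, reassoc_of% hm']
    exact pullback.condition
  refine ⟨π, ?_, ?_⟩
  · let P := pullback U.hom p
    let ψ : D.obj.left ⟶ P := pullback.lift π D.obj.hom hw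
    suffices IsIso ψ from IsPullback.of_iso_pullback ⟨hw⟩ (asIso ψ) (by simp [ψ, P]) (by simp [ψ, P])
    let Pq := pullback p' (pullback.fst U.hom p ≫ U.hom)
    let q : Pq ⟶ P := pullback.snd _ _
    have : Flat q := inferInstanceAs (Flat (pullback.snd _ _))
    have : Surjective q := inferInstanceAs (Surjective (pullback.snd _ _))
    have : QuasiCompact q := inferInstanceAs (QuasiCompact (pullback.snd _ _))
    let Ψ : Xp ⟶ Pq := pullback.lift (pullback.fst _ _) (pr ≫ ψ) (by
      simp only [ψ, Category.assoc, pullback.lift_fst_assoc, hw]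
      exact pullback.condition)
    have hsq : IsPullback pr Ψ ψ q := by
      refine IsPullback.of_bot (v₂₁ := pullback.fst p' (pullback.fst U.hom p ≫ U.hom))
        (v₂₂ := pullback.fst U.hom p ≫ U.hom) (h₃₁ := p') ?_ (by simp [Ψ, q])
        (IsPullback.of_hasPullback p' (pullback.fst U.hom p ≫ U.hom)).flip
      simpa [Ψ, ψ, hw, pr] using (IsPullback.of_hasPullback p' (D.obj.hom ≫ p)).flip
    suffices IsIso Ψ from MorphismProperty.of_isPullback_of_descendsAlong
      (P := MorphismProperty.isomorphisms Scheme.{u})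
      (Q := @Surjective ⊓ @Flat ⊓ @QuasiCompact) hsq.flip
      ⟨⟨inferInstance, inferInstance⟩, inferInstance⟩ this
    let x' : Pq ⟶ X' := pullback.fst _ _
    let u : Pq ⟶ U.left := q ≫ pullback.fst U.hom p
    let x : Pq ⟶ X := q ≫ pullback.snd U.hom p
    have hu : u ≫ U.hom = x' ≫ p' := by
      simp only [u, x', q, Category.assoc]
      exact pullback.condition.symm
    let v' : Pq ⟶ E.obj.left := h.isPullback.lift u x' hu
    have hv'1 : v' ≫ π' = u := h.isPullback.lift_fst _ _ _
    have hv'2 : v' ≫ E.obj.hom = x' := h.isPullback.lift_snd _ _ _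
    have hv'q : (v' ≫ qV) ≫ D.obj.hom = x' ≫ g := by
      rw [Category.assoc]
      show v' ≫ pullback.fst D.obj.hom g ≫ D.obj.hom = x' ≫ g
      rw [pullback.condition]
      exact (reassoc_of% hv'2) g
    have hx : x ≫ p = (v' ≫ qV) ≫ D.obj.hom ≫ p := by
      rw [← Category.assoc (v' ≫ qV), hv'q]
      refine Eq.trans ?_ ((congrArg (x' ≫ ·) wg).symm.trans (Category.assoc _ _ _).symm)
      rw [← hu]
      simp [x, u, pullback.condition]
    let v : Pq ⟶ D.obj.left := pullback.lift x (v' ≫ qV) hx ≫ θ D
    have hvh : v ≫ D.obj.hom = x := by simp [v]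
    let inv' : Pq ⟶ Xp := pullback.lift x' v (by
      rw [reassoc_of% hvh, hx, ← Category.assoc (v' ≫ qV), hv'q, Category.assoc, wg])
    have hinvm : inv' ≫ m = v' := by
      apply pullback.hom_ext
      · rw [Category.assoc]
        refine (congrArg (inv' ≫ ·) hm).trans ?_
        have hd : (x' ≫ g) ≫ p = (v' ≫ qV) ≫ D.obj.hom ≫ p := by
          rw [← Category.assoc (v' ≫ qV), hv'q]
        have key := lift_θ_trans D (v' ≫ qV) x (x' ≫ g) hx hd
        rw [← Category.assoc]
        refine Eq.trans (congrArg (· ≫ θ D) ?_) (key.trans ?_)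
        · apply pullback.hom_ext <;> simp [inv', a₀, pr, v]
        · have e : pullback.lift (x' ≫ g) (v' ≫ qV) hd = (v' ≫ qV) ≫
              pullback.lift (f := p) (g := D.obj.hom ≫ p) D.obj.hom (𝟙 D.obj.left) (by simp) := by
            apply pullback.hom_ext
            · rw [pullback.lift_fst, Category.assoc, pullback.lift_fst, hv'q]
            · rw [pullback.lift_snd, Category.assoc, pullback.lift_snd, Category.comp_id]
          rw [e, Category.assoc, diag_θ, Category.comp_id]
      · rw [Category.assoc]
        exact ((congrArg (inv' ≫ ·) hm').trans (pullback.lift_fst _ _ _)).trans hv'2.symm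
    refine ⟨inv', ?_, ?_⟩
    · have e1 : Ψ ≫ v' = m := by
        apply h.isPullback.hom_ext
        · rw [Category.assoc, hv'1, ← hπ]
          simp [u, Ψ, ψ, q]
        · rw [Category.assoc, hv'2]
          exact (pullback.lift_fst _ _ _).trans hm'.symm
      apply pullback.hom_ext
      · simp [inv', x', Ψ]
      · simp only [Category.assoc, inv', pullback.lift_snd, Category.id_comp]
        have hx' : (pr ≫ D.obj.hom) ≫ p = pr ≫ D.obj.hom ≫ p := Category.assoc _ _ _
        have h1 : (pullback.fst p' (D.obj.hom ≫ p) ≫ g) ≫ p = pr ≫ D.obj.hom ≫ p := by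
          rw [Category.assoc, wg]; exact pullback.condition
        have key := lift_θ_trans D pr _ _ h1 hx'
        simp only [v, ← Category.assoc]
        refine Eq.trans (congrArg (· ≫ θ D) ?_) (key.trans ?_)
        · apply pullback.hom_ext
          · simp [x, Ψ, q, ψ]
          · simp only [Category.assoc, pullback.lift_snd]
            rw [reassoc_of% e1]
            exact hm
        · have e : pullback.lift (pr ≫ D.obj.hom) pr hx' = pr ≫
              pullback.lift (f := p) (g := D.obj.hom ≫ p) D.obj.hom (𝟙 D.obj.left) (by simp) := by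
            apply pullback.hom_ext <;> simp
          rw [e, Category.assoc, diag_θ, Category.comp_id]
    · apply pullback.hom_ext
      · simp [inv', x', Ψ]
      · simp only [Category.assoc, Ψ, pullback.lift_snd, Category.id_comp]
        apply pullback.hom_ext
        · simp only [ψ, Category.assoc, pullback.lift_fst]
          rw [hπ, reassoc_of% hinvm, hv'1]
        · simp only [ψ, Category.assoc, pullback.lift_snd]
          rw [show inv' ≫ pr ≫ D.obj.hom = v ≫ D.obj.hom from pullback.lift_snd_assoc _ _ _ _, hvh]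
  · let Q := pullback p' (pullback.snd p (D.obj.hom ≫ p) ≫ D.obj.hom ≫ p)
    let r : Q ⟶ src D := pullback.snd _ _
    have : Flat r := inferInstanceAs (Flat (pullback.snd _ _))
    have : Surjective r := inferInstanceAs (Surjective (pullback.snd _ _))
    have : Epi r := Flat.epi_of_flat_of_surjective r
    let c : Q ⟶ X' := pullback.fst _ _
    have hc : c ≫ p' = r ≫ pullback.snd p (D.obj.hom ≫ p) ≫ D.obj.hom ≫ p := pullback.condition
    have hθp : θ D ≫ D.obj.hom ≫ p = pullback.snd p (D.obj.hom ≫ p) ≫ D.obj.hom ≫ p := by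
      rw [θ_hom_assoc, pullback.condition]
    let l₁ : Q ⟶ Xp := pullback.lift c (r ≫ θ D) (by rw [hc, Category.assoc, hθp])
    let l₂ : Q ⟶ Xp := pullback.lift c (r ≫ pullback.snd p (D.obj.hom ≫ p))
      (by rw [hc, Category.assoc])
    have hl₁ : l₁ ≫ pr = r ≫ θ D := pullback.lift_snd _ _ _
    have hl₂ : l₂ ≫ pr = r ≫ pullback.snd p (D.obj.hom ≫ p) := pullback.lift_snd _ _ _
    have hlm : l₁ ≫ m = l₂ ≫ m := by
      apply pullback.hom_ext
      · rw [Category.assoc, Category.assoc]
        refine (congrArg (l₁ ≫ ·) hm).trans (Eq.trans ?_ (congrArg (l₂ ≫ ·) hm).symm)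
        have h1 : (r ≫ pullback.fst p (D.obj.hom ≫ p)) ≫ p =
            (r ≫ pullback.snd p (D.obj.hom ≫ p)) ≫ D.obj.hom ≫ p := by
          simp [pullback.condition]
        have h2 : (c ≫ g) ≫ p = (r ≫ pullback.snd p (D.obj.hom ≫ p)) ≫ D.obj.hom ≫ p := by
          rw [Category.assoc, wg, hc, Category.assoc]
        have key := lift_θ_trans D _ _ _ h1 h2
        simp only [← Category.assoc]
        refine Eq.trans (congrArg (· ≫ θ D) ?_) (key.trans (congrArg (· ≫ θ D) ?_))
        · apply pullback.hom_ext
          · simp [l₁, a₀]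
          · simp only [l₁, a₀, pr, Category.assoc, pullback.lift_snd]
            congr 1
            apply pullback.hom_ext <;> simp
        · apply pullback.hom_ext <;> simp [l₂, a₀, pr]
      · rw [Category.assoc, Category.assoc]
        refine (congrArg (l₁ ≫ ·) hm').trans (Eq.trans ?_ (congrArg (l₂ ≫ ·) hm').symm)
        simp [l₁, l₂]
    rw [IsInvariant, ← cancel_epi r, ← reassoc_of% hl₁, ← reassoc_of% hl₂, hπ, reassoc_of% hlm]

end Groth.Agent.Desc59
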