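import Groth.Agent.Desc59.DDDescend
import Groth.Agent.Desc59.DDSigma
import Groth.Agent.Desc59.DDFamEff
import Groth.Agent.Desc59.DDRefine

/-!
Refinements by Zariski coverings induce equivalences of descent data.
-/

set_option backward.isDefEq.respectTransparency false

universe u

open CategoryTheory CategoryTheory.Limits AlgebraicGeometry

namespace Groth.Agent.Desc59

open Desc

variable {X S : Scheme.{u}} {p : X ⟶ S}

/-- A descent datum along a morphism with a section is effective. -/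
theorem exists_isQuot_of_section (D : SchDD p) (s : S ⟶ X) (hs : s ≫ p = 𝟙 S) :
    ∃ (U : Over S) (π : D.obj.left ⟶ U.left), IsQuot D U π := by
  have hk : ((D.obj.hom ≫ p) ≫ s) ≫ p = 𝟙 _ ≫ D.obj.hom ≫ p := by simp [hs]
  let a : D.obj.left ⟶ D.obj.left := pullback.lift ((D.obj.hom ≫ p) ≫ s) (𝟙 _) hk ≫ θ D
  have ha : a ≫ D.obj.hom = (D.obj.hom ≫ p) ≫ s := by simp [a]
  let π : D.obj.left ⟶ pullback D.obj.hom s := pullback.lift a (D.obj.hom ≫ p) ha
  have hw : π ≫ pullback.snd D.obj.hom s = D.obj.hom ≫ p := pullback.lift_snd _ _ _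
  refine ⟨Over.mk (pullback.snd D.obj.hom s), π, ?_, ?_⟩
  · let b : pullback (pullback.snd D.obj.hom s) p ⟶ D.obj.left :=
      pullback.lift (pullback.snd (pullback.snd D.obj.hom s) p)
        (pullback.fst (pullback.snd D.obj.hom s) p ≫ pullback.fst D.obj.hom s) (by
          simp only [Category.assoc, pullback.condition_assoc, hs, Category.comp_id,
            ← pullback.condition]) ≫ θ D
    have hb : b ≫ D.obj.hom = pullback.snd (pullback.snd D.obj.hom s) p := by simp [b]
    let m : D.obj.left ⟶ pullback (pullback.snd D.obj.hom s) p := pullback.lift π D.obj.hom hw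
    have h1 : m ≫ b = 𝟙 _ := by
      have key := lift_θ_trans D (𝟙 D.obj.left) ((D.obj.hom ≫ p) ≫ s) D.obj.hom hk (by simp)
      refine Eq.trans ?_ (key.trans (diag_θ D))
      refine (comp_lift_θ D m _ _ _).trans (congrArg (· ≫ θ D) ?_)
      apply pullback.hom_ext <;> simp [m, π, a]
    have h2 : b ≫ m = 𝟙 _ := by
      apply pullback.hom_ext
      · rw [Category.assoc, pullback.lift_fst, Category.id_comp]
        apply pullback.hom_ext
        · rw [Category.assoc, pullback.lift_fst]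
          let q₁ := pullback.fst (pullback.snd D.obj.hom s) p
          let q₂ := pullback.snd (pullback.snd D.obj.hom s) p
          have c : q₂ ≫ p = (q₁ ≫ pullback.fst D.obj.hom s) ≫ D.obj.hom ≫ p := by
            simp only [Category.assoc, pullback.condition_assoc, hs, Category.comp_id]
            exact pullback.condition.symm
          have c' : (q₂ ≫ p ≫ s) ≫ p = (q₁ ≫ pullback.fst D.obj.hom s) ≫ D.obj.hom ≫ p := by
            simpa [hs] using c
          have key := lift_θ_trans D (q₁ ≫ pullback.fst D.obj.hom s) q₂ (q₂ ≫ p ≫ s) c c'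
          refine ((comp_lift_θ D b _ _ _).trans ?_).trans (key.trans ?_)
          · refine congrArg (· ≫ θ D) ?_
            apply pullback.hom_ext
            · simp [reassoc_of% hb, q₂]
            · simp [b, q₁, q₂]
          · have e : q₂ ≫ p ≫ s = (q₁ ≫ pullback.fst D.obj.hom s) ≫ D.obj.hom := by
              rw [Category.assoc, pullback.condition]
              exact (Category.assoc _ _ _).symm.trans
                ((congrArg (· ≫ s) pullback.condition.symm).trans (Category.assoc _ _ _))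
            refine (congrArg (· ≫ θ D) (?_ : _ = (q₁ ≫ pullback.fst D.obj.hom s) ≫
              pullback.lift D.obj.hom (𝟙 D.obj.left) (by simp))).trans ?_
            · apply pullback.hom_ext <;> simp [e]
            · simp [q₁]
        · rw [Category.assoc, hw, reassoc_of% hb]
          exact pullback.condition.symm
      · rw [Category.assoc, pullback.lift_snd, hb, Category.id_comp]
    have : IsIso m := ⟨b, h1, h2⟩
    exact IsPullback.of_iso_pullback ⟨hw⟩ (asIso m) (by simp [m]) (by simp [m])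
  · apply pullback.hom_ext
    · rw [Category.assoc, Category.assoc, pullback.lift_fst]
      have e0 : θ D ≫ D.obj.hom ≫ p = pullback.snd p (D.obj.hom ≫ p) ≫ D.obj.hom ≫ p := by
        rw [θ_hom_assoc, pullback.condition]
      have key := lift_θ_trans D (pullback.snd p (D.obj.hom ≫ p)) (pullback.fst p (D.obj.hom ≫ p))
        (pullback.snd p (D.obj.hom ≫ p) ≫ (D.obj.hom ≫ p) ≫ s) pullback.condition
        (by simp [hs])
      refine ((comp_lift_θ D (θ D) _ _ _).trans ?_).trans
        (key.trans (Eq.trans ?_ (comp_lift_θ D _ _ _ _).symm))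
      · refine congrArg (· ≫ θ D) ?_
        apply pullback.hom_ext
        · simp [reassoc_of% e0]
        · simp only [pullback.lift_snd, Category.comp_id]
          refine (Category.id_comp (θ D)).symm.trans (congrArg (· ≫ θ D) ?_)
          apply pullback.hom_ext <;> simp
      · refine congrArg (· ≫ θ D) ?_
        apply pullback.hom_ext <;> simp
    · rw [Category.assoc, Category.assoc, hw, θ_hom_assoc, pullback.condition]

/-- A descent datum along an fpqc morphism with local sections is effective. -/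
theorem exists_isQuot_of_local_sections [Flat p] [Surjective p] [IsFpqcMor p] (D : SchDD p)
    (h : ∀ y : S, ∃ (W : S.Opens) (s : W.toScheme ⟶ X), y ∈ W ∧ s ≫ p = W.ι) :
    ∃ (U : Over S) (π : D.obj.left ⟶ U.left), IsQuot D U π := by
  refine exists_isQuot_of_cover fun v => ?_
  obtain ⟨W, s, hv, hs⟩ := h ((D.obj.hom ≫ p) v)
  have hr : Set.range s ⊆ Set.range (p ⁻¹ᵁ W).ι := by
    rintro _ ⟨z, rfl⟩
    rw [Scheme.Opens.range_ι]
    show p (s z) ∈ W
    rw [← Scheme.Hom.comp_apply, hs]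
    exact z.2
  obtain ⟨U, π, hπ⟩ := exists_isQuot_of_section (pullDD (morphismRestrict_ι p W).symm D)
    (IsOpenImmersion.lift _ s hr) (by
      rw [← cancel_mono W.ι, Category.assoc, morphismRestrict_ι, IsOpenImmersion.lift_fac_assoc,
        hs, Category.id_comp])
  obtain ⟨π₀, hπ₀⟩ := exists_isQuotOn_of_restrict D W hπ
  exact ⟨_, _, π₀, hv, hπ₀⟩

section family

variable {ι κ : Type u} {U : ι → Scheme.{u}} {V : κ → Scheme.{u}} {fU : ∀ i, U i ⟶ S}
  {fV : ∀ j, V j ⟶ S} {α : ι → κ} {g : ∀ i, U i ⟶ V (α i)}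
  (w : ∀ i, g i ≫ fV (α i) = fU i ≫ 𝟙 S)

/-- The induced morphism of disjoint unions. -/
noncomputable abbrev refineMap (g : ∀ i, U i ⟶ V (α i)) : (∐ U) ⟶ ∐ V :=
  Sigma.desc fun i => g i ≫ Sigma.ι V (α i)

include w in
lemma refineMap_desc : refineMap g ≫ Sigma.desc fV = Sigma.desc fU := by
  refine Sigma.hom_ext _ _ fun i => ?_
  simp [w]

/-- The one-member form of the pullback. -/
lemma nonempty_ofSchDD_pullDD {X' : Scheme.{u}} {p' : X' ⟶ S} {h : X ⟶ X'}
    (e : h ≫ p' = p ≫ 𝟙 S) (D : SchDD p') :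
    Nonempty ((pullDDFam (f := fun _ : PUnit.{u + 1} => p') (f' := fun _ : PUnit.{u + 1} => p)
      (α := fun j => j) (p := 𝟙 S) (p' := fun _ => h) (fun _ => e)).obj
        ((SchDDFam.ofSchDD p').obj D) ≅ (SchDDFam.ofSchDD p).obj (pullDD e D)) :=
  ⟨⟨⟨fun _ => 𝟙 _, fun T i j x₀ x₁ hh v u hu => by
      obtain rfl : u = v := Subtype.ext (hu.trans (Category.comp_id _))
      exact (Category.comp_id _).symm⟩,
    ⟨fun _ => 𝟙 _, fun T i j x₀ x₁ hh v u hu => by
      obtain rfl : u = v := Subtype.ext (hu.trans (Category.comp_id _))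
      exact (Category.comp_id _).symm⟩,
    by ext1; funext i; exact Category.comp_id _, by ext1; funext i; exact Category.comp_id _⟩⟩

lemma nonempty_pull_congr {ι' : Type u} {X' : ι' → Scheme.{u}} {f' : ∀ j, X' j ⟶ S}
    {Y : ι → Scheme.{u}} {f : ∀ i, Y i ⟶ S} {β : ι' → ι} {q q' : ∀ j, X' j ⟶ Y (β j)}
    {a a' : S ⟶ S} (hq : q = q') (ha : a = a') (h : ∀ j, q j ≫ f (β j) = f' j ≫ a)
    (h' : ∀ j, q' j ≫ f (β j) = f' j ≫ a') (D : SchDDFam f) :
    Nonempty ((pullDDFam h).obj D ≅ (pullDDFam h').obj D) := by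
  subst hq ha
  exact ⟨Iso.refl _⟩

theorem essSurj_of_local_sections [Flat (refineMap g)] [Surjective (refineMap g)]
    [IsFpqcMor (refineMap g)]
    (h : ∀ y : (∐ V : Scheme.{u}), ∃ (W : (∐ V : Scheme.{u}).Opens) (s : W.toScheme ⟶ ∐ U),
      y ∈ W ∧ s ≫ refineMap g = W.ι) :
    (pullDDFam w).EssSurj := by
  refine ⟨fun D' => ?_⟩
  obtain ⟨W, π, hq⟩ := exists_isQuot_of_local_sections
    (restrictRel (refineMap g) (refineMap_desc w) (sigmaDD D')) h
  obtain ⟨D, ⟨eD⟩⟩ := exists_pullDD_iso (refineMap g) (refineMap_desc w) (sigmaDD D') hq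
  obtain ⟨e'⟩ := nonempty_ofSigma_sigmaDD D'
  let e := (refineMap_desc w).trans (Category.comp_id (Sigma.desc fU)).symm
  obtain ⟨e₁⟩ := nonempty_ofSchDD_pullDD e D
  let wv := fun j => (Sigma.ι_desc fV j).trans (Category.comp_id (fV j)).symm
  let wu := fun i => (Sigma.ι_desc fU i).trans (Category.comp_id (fU i)).symm
  let D₀ := (SchDDFam.ofSchDD.{u} (Sigma.desc fV)).obj D
  refine ⟨(ofSigma fV).obj D, ⟨?_ ≪≫ ((ofSigma fU).mapIso eD ≪≫ e')⟩⟩
  refine ?_ ≪≫ (pullDDFam (f := fun _ : PUnit.{u + 1} => Sigma.desc fU) (f' := fU)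
    (α := fun _ => PUnit.unit) (p' := fun i => Sigma.ι U i) wu).mapIso e₁
  refine ((PullIso.pullCompIso (f := fun _ : PUnit.{u + 1} => Sigma.desc fV) (α := fun _ => PUnit.unit)
      (p' := fun j => Sigma.ι V j) wv w).app D₀) ≪≫ ?_ ≪≫
    ((PullIso.pullCompIso (f := fun _ : PUnit.{u + 1} => Sigma.desc fV) (α := fun j => j)
      (p' := fun _ => refineMap g) (f' := fun _ : PUnit.{u + 1} => Sigma.desc fU)
      (β := fun _ => PUnit.unit) (q' := fun i => Sigma.ι U i) (fun _ => e) wu).app D₀).symm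
  exact (nonempty_pull_congr (f := fun _ : PUnit.{u + 1} => Sigma.desc fV) (f' := fU)
    (β := fun _ => PUnit.unit) (q := fun i => g i ≫ Sigma.ι V (α i))
    (q' := fun i => Sigma.ι U i ≫ refineMap g) (a := 𝟙 S ≫ 𝟙 S) (a' := 𝟙 S ≫ 𝟙 S)
    (funext fun i => (Sigma.ι_desc (fun i => g i ≫ Sigma.ι V (α i)) i).symm) rfl
    (fun i => by simp [w]) (fun i => by simpa using w i) D₀).some

theorem isEquivalence_of_zariski
    (hcov : ∀ j, Presieve.ofArrows (fun i : {i // α i = j} => U i.1)
      (fun i => g i.1 ≫ eqToHom (congrArg V i.2)) ∈ Scheme.zariskiPrecoverage (V j)) :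
    (pullDDFam w).IsEquivalence := by
  have hz : ∀ j, (∀ y : V j, ∃ i : {i // α i = j}, y ∈ Set.range (g i.1 ≫ eqToHom (congrArg V i.2))) ∧
      ∀ i : {i // α i = j}, IsOpenImmersion (g i.1 ≫ eqToHom (congrArg V i.2)) := fun j => by
    have := hcov j
    rw [Scheme.zariskiPrecoverage, Scheme.ofArrows_mem_precoverage_iff] at this
    exact this
  have hopen : ∀ i, IsOpenImmersion (g i) := fun i => by simpa using (hz (α i)).2 ⟨i, rfl⟩
  have hmem : Presieve.ofArrows U (fun i => g i ≫ Sigma.ι V (α i)) ∈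
      Scheme.fpqcPrecoverage (∐ V : Scheme.{u}) := by
    refine Scheme.zariskiPrecoverage_le_fpqcPrecoverage _ ?_
    rw [Scheme.zariskiPrecoverage, Scheme.ofArrows_mem_precoverage_iff]
    refine ⟨fun y => ?_, fun i => inferInstance⟩
    obtain ⟨⟨j, z⟩, rfl⟩ := (sigmaMk V).surjective y
    obtain ⟨⟨i, rfl⟩, x, hx⟩ := (hz j).1 z
    refine ⟨i, x, ?_⟩
    rw [sigmaMk_mk, ← hx]
    simp
  have := flat_desc_of_mem hmem
  have := surjective_desc_of_mem hmem
  have := isFpqcMor_desc_of_mem hmem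
  have hsec : ∀ y : (∐ V : Scheme.{u}), ∃ (W : (∐ V : Scheme.{u}).Opens) (s : W.toScheme ⟶ ∐ U),
      y ∈ W ∧ s ≫ refineMap g = W.ι := by
    intro y
    obtain ⟨z, hz'⟩ := (refineMap g).surjective y
    obtain ⟨⟨i, x⟩, rfl⟩ := (sigmaMk U).surjective z
    let c := g i ≫ Sigma.ι V (α i)
    refine ⟨c.opensRange, c.isoOpensRange.inv ≫ Sigma.ι U i, ⟨x, ?_⟩, ?_⟩
    · rw [← hz', sigmaMk_mk, ← Scheme.Hom.comp_apply, Sigma.ι_desc]
    · rw [Category.assoc, Sigma.ι_desc]
      exact c.isoOpensRange_inv_comp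
  have hc : ∀ j, Refine.coverSieve fU (fV j) ∈ Scheme.fpqcTopology (V j) := by
    intro j
    refine Refine.coverSieve_mem_of_le (Scheme.zariskiPrecoverage_le_fpqcPrecoverage _ (hcov j)) ?_
    rintro _ _ ⟨⟨i, rfl⟩⟩
    exact ⟨i, 𝟙 _, by simpa using w i⟩
  have := Refine.full w hc
  have := Refine.faithful w (Refine.separates_of_sieve hc)
  have := essSurj_of_local_sections w hsec
  exact { }

end family

end Groth.Agent.Desc59
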