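import Groth.Agent.Sga84.Top
import Groth.Agent.SpPts86.Props
import Groth.Agent.UH57.Basic
import Groth.Prelude.Def_Mor2
import Mathlib.AlgebraicGeometry.Morphisms.FlatRank

/-!
Further properties descending along fpqc morphisms.
-/

set_option autoImplicit false
set_option backward.isDefEq.respectTransparency false
universe u

open CategoryTheory CategoryTheory.Limits AlgebraicGeometry

namespace Groth.Agent.Desc59

theorem descendsAlong_isUnivHomeo :
    MorphismProperty.DescendsAlong (FlatMor.IsUnivHomeo.{u})
      (@Surjective ⊓ @Flat ⊓ @QuasiCompact : MorphismProperty Scheme.{u}) := by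
  have hr : (FlatMor.IsUnivHomeo.{u}).RespectsIso := by unfold FlatMor.IsUnivHomeo; infer_instance
  refine MorphismProperty.DescendsAlong.mk' fun {X Y Z f g} _ hf hfst => ?_
  obtain ⟨h1, h2, h3⟩ := (UH57.isUnivHomeo_iff' _).mp hfst
  refine (UH57.isUnivHomeo_iff' g).mpr ⟨?_, ?_, ?_⟩
  · exact MorphismProperty.of_pullback_fst_of_descendsAlong
      (P := @UniversallyClosed) (Q := Unr55.fpqc.{u}) hf h1
  · rw [universallyInjective_eq_diagonal] at h2 ⊢
    exact MorphismProperty.of_pullback_fst_of_descendsAlong
      (Q := (@Surjective : MorphismProperty Scheme.{u})) hf.1.1 h2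
  · refine ⟨fun z => ?_⟩
    have : Surjective f := hf.1.1
    obtain ⟨x, rfl⟩ := f.surjective z
    obtain ⟨w, rfl⟩ := (pullback.fst f g).surjective x
    exact ⟨pullback.snd f g w, by
      rw [← Scheme.Hom.comp_apply, ← pullback.condition, Scheme.Hom.comp_apply]⟩

theorem descendsAlong_isEmbedding_quasiCompact :
    MorphismProperty.DescendsAlong
      (topologically (fun f => Topology.IsEmbedding f) ⊓ @QuasiCompact : MorphismProperty Scheme.{u})
      (@Surjective ⊓ @Flat ⊓ @QuasiCompact : MorphismProperty Scheme.{u}) := by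
  have := Unr55.quasiCompact.{u}
  have : (topologically (fun f => Topology.IsEmbedding f) :
      MorphismProperty Scheme.{u}).RespectsIso :=
    topologically_respectsIso _ (fun e => e.isEmbedding) (fun _ _ hf hg => hg.comp hf)
  refine MorphismProperty.DescendsAlong.mk' fun {X Y Z f g} _ hf hfst => ?_
  have hg : QuasiCompact g := MorphismProperty.of_pullback_fst_of_descendsAlong
    (P := @QuasiCompact) (Q := Unr55.fpqc.{u}) hf hfst.2
  have : Flat f := hf.1.2
  have : Surjective f := hf.1.1
  refine ⟨Sga84.isEmbedding_of_baseChange g f ?_, hg⟩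
  have e : pullback.snd g f = (pullbackSymmetry g f).hom ≫ pullback.fst f g := by simp
  rw [e]
  exact ((MorphismProperty.cancel_left_of_respectsIso
    (P := topologically (fun f => Topology.IsEmbedding f)) _ _).mpr hfst.1)

theorem descendsAlong_isFinLocFree :
    MorphismProperty.DescendsAlong (fun _ _ f => Mor2.IsFinLocFree f : MorphismProperty Scheme.{u})
      (@Surjective ⊓ @Flat ⊓ @QuasiCompact : MorphismProperty Scheme.{u}) ∧
    ∀ d : ℕ, MorphismProperty.DescendsAlong
      (fun _ _ f => Mor2.IsFinLocFreeOfDeg d f : MorphismProperty Scheme.{u})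
      (@Surjective ⊓ @Flat ⊓ @QuasiCompact : MorphismProperty Scheme.{u}) := by
  have := Unr55.isFinite.{u}
  have := SpPts86.flat_fpqc.{u}
  have e : (fun _ _ f => Mor2.IsFinLocFree f : MorphismProperty Scheme.{u}) =
      (@IsFinite ⊓ (@Flat ⊓ @LocallyOfFinitePresentation) : MorphismProperty Scheme.{u}) := rfl
  have h : MorphismProperty.DescendsAlong
      (fun _ _ f => Mor2.IsFinLocFree f : MorphismProperty Scheme.{u})
      (@Surjective ⊓ @Flat ⊓ @QuasiCompact : MorphismProperty Scheme.{u}) := by
    rw [e]; infer_instance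
  refine ⟨h, fun d => ?_⟩
  refine ⟨fun {A X Y Z fst snd f g} sq hf hfst => ?_⟩
  have hg : Mor2.IsFinLocFree g :=
    MorphismProperty.of_isPullback_of_descendsAlong
      (P := (fun _ _ f => Mor2.IsFinLocFree f : MorphismProperty Scheme.{u}))
      (Q := (@Surjective ⊓ @Flat ⊓ @QuasiCompact : MorphismProperty Scheme.{u})) sq hf hfst.1
  have := hg.1
  have := hg.2.1
  have := hg.2.2
  have := hfst.1.1
  have := hfst.1.2.1
  have := hfst.1.2.2
  refine ⟨hg, fun z => ?_⟩
  obtain ⟨x, rfl⟩ := (show Surjective f from hf.1.1).surj z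
  rw [← hfst.2 x, Scheme.Hom.finrank_of_isPullback snd fst g f sq.flip x]

end Groth.Agent.Desc59
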