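import Groth.Agent.Unr55.DescProps
import Groth.Agent.SchBasics.Reduced
import Groth.Agent.FlatMor68.ThickeningFT
import Groth.Agent.SpFP87.Reduced
import Groth.Agent.Desc59.DDFamEff
import Groth.Prelude.Def_ClSub2
import Mathlib.RingTheory.Flat.FaithfullyFlat.Algebra

/-!
Descent of properness over the base of a closed subset; opens and reducedness.
-/

set_option autoImplicit false
set_option backward.isDefEq.respectTransparency false
universe u

open CategoryTheory CategoryTheory.Limits AlgebraicGeometry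

namespace Groth.Agent.Desc59

theorem isProperOver_of_baseChange {X Y Y' : Scheme.{u}} (f : X ⟶ Y) [LocallyOfFiniteType f]
    (Z : Set X) (hZ : IsClosed Z) (g : Y' ⟶ Y) [QuasiCompact g] [Flat g] [Surjective g]
    (h : ClSub.IsProperOver (pullback.snd f g) ((pullback.fst f g).base ⁻¹' Z)) :
    ClSub.IsProperOver f Z := by
  obtain ⟨hc, hp⟩ := h
  refine ⟨hZ, ?_⟩
  let I := Scheme.IdealSheafData.vanishingIdeal (X := X) ⟨Z, hZ⟩
  let J := Scheme.IdealSheafData.vanishingIdeal (X := pullback f g)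
    ⟨(pullback.fst f g).base ⁻¹' Z, hc⟩
  let ι := I.subschemeι
  let W := pullback (ι ≫ f) g
  let i : W ⟶ pullback f g := pullback.map _ _ _ _ ι (𝟙 _) (𝟙 _) (by simp) (by simp)
  have sqi : IsPullback i (pullback.fst (ι ≫ f) g) (pullback.fst f g) ι := by
    refine IsPullback.of_right (h₁₂ := pullback.snd f g) (v₁₃ := g) (h₂₂ := f) ?_ (by simp [i])
      (IsPullback.of_hasPullback f g).flip
    simpa [i] using (IsPullback.of_hasPullback (ι ≫ f) g).flip
  have : IsClosedImmersion i := MorphismProperty.of_isPullback sqi.flip inferInstance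
  have : IsReduced J.subscheme := SchBasics.isReduced_vanishingIdeal_subscheme _
  have hr : Set.range J.subschemeι ⊆ Set.range i := by
    rw [SchBasics.range_vanishingIdeal_subschemeι]
    intro w hw
    have hw' : pullback.fst f g w ∈ Set.range ι := by
      rw [SchBasics.range_vanishingIdeal_subschemeι]
      exact hw
    obtain ⟨z, hz⟩ := hw'
    obtain ⟨t, ht, -⟩ := Scheme.exists_preimage_of_isPullback sqi w z hz.symm
    exact ⟨t, ht⟩
  let j := IsClosedImmersion.lift i J.subschemeι (SchBasics.ker_le_ker_of_range_subset _ i hr)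
  have hj : j ≫ i = J.subschemeι := IsClosedImmersion.lift_fac _ _ _
  have : Surjective j := by
    refine ⟨fun t => ?_⟩
    have ht : i t ∈ Set.range J.subschemeι := by
      rw [SchBasics.range_vanishingIdeal_subschemeι]
      show pullback.fst f g (i t) ∈ Z
      rw [← Scheme.Hom.comp_apply, sqi.w, Scheme.Hom.comp_apply]
      exact (SchBasics.range_vanishingIdeal_subschemeι (Y := X) ⟨Z, hZ⟩).le ⟨_, rfl⟩
    obtain ⟨s, hs⟩ := ht
    refine ⟨s, i.isClosedEmbedding.injective ?_⟩
    rw [← Scheme.Hom.comp_apply, hj, hs]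
  have : IsClosedImmersion j := by
    have : IsClosedImmersion (j ≫ i) := by rw [hj]; infer_instance
    exact IsClosedImmersion.of_comp j i
  have e : i ≫ pullback.snd f g = pullback.snd (ι ≫ f) g := by simp [i]
  have hjp : IsProper (j ≫ pullback.snd (ι ≫ f) g) := by rw [← e, reassoc_of% hj]; exact hp
  have : UniversallyClosed (pullback.snd (ι ≫ f) g) := UniversallyClosed.of_comp_surjective j _
  have : IsSeparated (pullback.snd (ι ≫ f) g) := FlatMor68.ThickeningFT.isSeparated_of_comp_surjective j _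
  have hW : IsProper (pullback.snd (ι ≫ f) g) := { }
  have := Unr55.isProper.{u}
  exact MorphismProperty.of_isPullback_of_descendsAlong (P := @IsProper)
    (Q := Unr55.fpqc.{u}) (IsPullback.of_hasPullback (ι ≫ f) g).flip
    ⟨⟨‹_›, ‹_›⟩, ‹_›⟩ hW

theorem existsUnique_opens_preimage_eq {ι : Type u} {T : Scheme.{u}} {Ti : ι → Scheme.{u}}
    (f : ∀ i, Ti i ⟶ T) (hf : Presieve.ofArrows Ti f ∈ Scheme.fpqcPrecoverage T)
    (W : ∀ i, (Ti i).Opens)
    (hW : ∀ i j, (pullback.fst (f i) (f j)) ⁻¹ᵁ (W i) = (pullback.snd (f i) (f j)) ⁻¹ᵁ (W j)) :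
    ∃! V : T.Opens, ∀ i, (f i) ⁻¹ᵁ V = W i := by
  have := isFpqcMor_desc_of_mem hf
  have := flat_desc_of_mem hf
  have hsurj := surjective_desc_of_mem hf
  have hjoint : ∀ t : T, ∃ i, t ∈ Set.range (f i) := fun t => by
    have := hf.2
    rw [Scheme.ofArrows_mem_precoverage_iff] at this
    exact this.1 t
  let V : Set T := ⋃ i, f i '' (W i : Set (Ti i))
  have hpre : ∀ i, f i ⁻¹' V = (W i : Set (Ti i)) := by
    intro i
    refine Set.Subset.antisymm ?_ fun x hx => Set.mem_iUnion.mpr ⟨i, x, hx, rfl⟩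
    rintro x hx
    obtain ⟨j, y, hy, e⟩ := Set.mem_iUnion.mp hx
    obtain ⟨z, hz, hz'⟩ := Scheme.Pullback.exists_preimage_pullback (f := f i) (g := f j) x y e.symm
    have : z ∈ pullback.snd (f i) (f j) ⁻¹ᵁ W j := by
      show pullback.snd (f i) (f j) z ∈ W j
      rw [hz']; exact hy
    rw [← hW i j] at this
    have h2 : pullback.fst (f i) (f j) z ∈ W i := this
    rwa [hz] at h2
  have hopen : IsOpen V := by
    refine (IsFpqcMor.isQuotientMap (Limits.Sigma.desc f)).isOpen_preimage.mp ?_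
    refine isOpen_iff_forall_mem_open.mpr fun z hz => ?_
    obtain ⟨⟨i, x⟩, rfl⟩ := (sigmaMk Ti).surjective z
    refine ⟨Sigma.ι Ti i '' (W i : Set (Ti i)), ?_,
      (Sigma.ι Ti i).isOpenEmbedding.isOpenMap _ (W i).2, ⟨x, ?_, (sigmaMk_mk Ti i x).symm⟩⟩
    · rintro _ ⟨y, hy, rfl⟩
      show Limits.Sigma.desc f (Sigma.ι Ti i y) ∈ V
      rw [← Scheme.Hom.comp_apply, Sigma.ι_desc]
      exact (hpre i).ge hy
    · have hz' : Limits.Sigma.desc f (sigmaMk Ti ⟨i, x⟩) ∈ V := hz
      rw [sigmaMk_mk, ← Scheme.Hom.comp_apply, Sigma.ι_desc] at hz'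
      exact (hpre i).le hz'
  refine ⟨⟨V, hopen⟩, fun i => TopologicalSpace.Opens.ext (hpre i), fun V' hV' => ?_⟩
  ext t
  obtain ⟨i, x, rfl⟩ := hjoint t
  show x ∈ f i ⁻¹ᵁ V' ↔ x ∈ f i ⁻¹' V
  rw [hV', hpre]
  rfl

theorem isReduced_iff_of_smooth_cover {ι : Type u} {S : Scheme.{u}} {X : ι → Scheme.{u}}
    (f : ∀ i, X i ⟶ S) (hf : Presieve.ofArrows X f ∈ Scheme.precoverage @Smooth S) :
    IsReduced S ↔ ∀ i, IsReduced (X i) := by
  rw [Scheme.ofArrows_mem_precoverage_iff] at hf
  refine ⟨fun h i => ?_, fun h => ?_⟩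
  · have := hf.2 i
    exact SpFP87.isReduced_of_smooth (f i)
  · suffices ∀ s : S, _root_.IsReduced (S.presheaf.stalk s) from isReduced_of_isReduced_stalk S
    intro s
    obtain ⟨i, x, rfl⟩ := hf.1 s
    have := hf.2 i
    have := h i
    have hflat : ((f i).stalkMap x).hom.Flat := Flat.stalkMap (f i) x
    algebraize [((f i).stalkMap x).hom]
    have : IsLocalHom (algebraMap (S.presheaf.stalk (f i x)) ((X i).presheaf.stalk x)) :=
      inferInstanceAs (IsLocalHom ((f i).stalkMap x).hom)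
    have := Module.FaithfullyFlat.of_flat_of_isLocalHom
      (A := S.presheaf.stalk (f i x)) (B := (X i).presheaf.stalk x)
    exact isReduced_of_injective _
      (FaithfulSMul.algebraMap_injective (S.presheaf.stalk (f i x)) ((X i).presheaf.stalk x))

end Groth.Agent.Desc59
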