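import Groth.Agent.Desc59.DescMorSingle

set_option backward.isDefEq.respectTransparency false

universe u

open CategoryTheory CategoryTheory.Limits AlgebraicGeometry Opposite

namespace Groth.Agent.Desc59

open Desc

variable {X S : Scheme.{u}} (p : X ⟶ S)

/-- For a morphism of canonical descent data, the composites with the projection to `U'` agree
on overlaps. -/
lemma toDD_hom_comp_snd_compatible {U U' : Over S} (a : (toDD p).obj U ⟶ (toDD p).obj U')
    {T : Scheme.{u}} (g g' : T ⟶ pullback p U.hom)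
    (hg : g ≫ pullback.snd p U.hom = g' ≫ pullback.snd p U.hom) :
    g ≫ a.hom.left ≫ pullback.snd p U'.hom = g' ≫ a.hom.left ≫ pullback.snd p U'.hom := by
  have h : (g ≫ pullback.fst p U.hom) ≫ p = (g' ≫ pullback.fst p U.hom) ≫ p := by
    simp only [Category.assoc, pullback.condition, reassoc_of% hg]
  let v : Lifts ((toDD p).obj U).obj (g ≫ pullback.fst p U.hom) := ⟨g, rfl⟩
  let w : Lifts ((toDD p).obj U').obj (g ≫ pullback.fst p U.hom) := SchDD.Hom.push a v
  have key := a.comm _ _ h v w rfl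
  have e : ((((toDD p).obj U).φ _ _ h) v).1 = g' := by
    apply pullback.hom_ext
    · simp [toDD, canonicalDD]
    · simpa [toDD, canonicalDD, v] using hg
  rw [e] at key
  rw [← Category.assoc g', ← key]
  simp [toDD, canonicalDD, w, v, SchDD.Hom.push]

lemma toDD_map_surjective_of_etale (U₁ U₂ : Over S) [Etale U₁.hom] [Etale U₂.hom]
    (hq : ∀ U : Over S, Etale U.hom → Topology.IsQuotientMap (pullback.snd p U.hom).base) :
    Function.Surjective ((toDD p).map : (U₁ ⟶ U₂) → _) := by
  intro a
  let W12 : Over S := Over.mk (pullback.fst U₁.hom U₂.hom ≫ U₁.hom)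
  have hW12 : Etale W12.hom := inferInstanceAs (Etale (pullback.fst U₁.hom U₂.hom ≫ U₁.hom))
  let q1 := pullback.snd p U₁.hom
  let q : pullback p W12.hom ⟶ pullback U₁.hom U₂.hom := pullback.snd p W12.hom
  have hquot : Topology.IsQuotientMap q := hq W12 hW12
  have : Surjective q1 := ⟨(hq U₁ inferInstance).surjective⟩
  have hfst : a.hom.left ≫ pullback.fst p U₂.hom = pullback.fst p U₁.hom := Over.w a.hom
  let b : pullback p U₁.hom ⟶ U₂.left := a.hom.left ≫ pullback.snd p U₂.hom
  let l12 : pullback p U₁.hom ⟶ pullback U₁.hom U₂.hom := pullback.lift q1 b (by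
    show pullback.snd p U₁.hom ≫ U₁.hom = (a.hom.left ≫ pullback.snd p U₂.hom) ≫ U₂.hom
    rw [Category.assoc, ← pullback.condition, ← pullback.condition, reassoc_of% hfst])
  let γ : pullback p U₁.hom ⟶ pullback p W12.hom := pullback.lift (pullback.fst p U₁.hom) l12 (by
    simp only [W12, l12, Over.mk_hom]
    rw [pullback.lift_fst_assoc, pullback.condition])
  let π : pullback p W12.hom ⟶ pullback p U₁.hom :=
    pullback.lift (pullback.fst p W12.hom) (q ≫ pullback.fst U₁.hom U₂.hom) (by
      simp [q, W12, pullback.condition])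
  have hπfst : π ≫ pullback.fst p U₁.hom = pullback.fst p W12.hom := pullback.lift_fst _ _ _
  have hπsnd : π ≫ q1 = q ≫ pullback.fst U₁.hom U₂.hom := pullback.lift_snd _ _ _
  have hγfst : γ ≫ pullback.fst p W12.hom = pullback.fst p U₁.hom := pullback.lift_fst _ _ _
  have hγq : γ ≫ q = l12 := pullback.lift_snd _ _ _
  have hγπ : γ ≫ π = 𝟙 _ := by
    apply pullback.hom_ext
    · rw [Category.assoc, hπfst, hγfst, Category.id_comp]
    · rw [Category.assoc, hπsnd, reassoc_of% hγq, Category.id_comp]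
      exact pullback.lift_fst _ _ _
  have : Etale π := by
    have h0 : IsPullback (pullback.fst p W12.hom) q p (pullback.fst U₁.hom U₂.hom ≫ U₁.hom) :=
      IsPullback.of_hasPullback p W12.hom
    have h1 : IsPullback π q q1 (pullback.fst U₁.hom U₂.hom) := by
      have h0' := h0.flip
      exact (IsPullback.of_right (h₁₁ := π) (h₁₂ := pullback.fst p U₁.hom) (v₁₁ := q)
        (v₁₃ := p) (h₂₁ := pullback.fst U₁.hom U₂.hom) (h₂₂ := U₁.hom)
        (by rw [hπfst]; exact h0) hπsnd (IsPullback.of_hasPullback p U₁.hom))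
    exact MorphismProperty.of_isPullback h1.flip inferInstance
  have : Etale γ :=
    MorphismProperty.of_postcomp (W := @Etale) (W' := @Etale) γ π inferInstance
      (by rw [hγπ]; infer_instance)
  have : Mono γ := mono_of_mono_fac hγπ
  have : IsOpenImmersion γ := IsOpenImmersion.of_flat_of_mono γ
  have hsat : q ⁻¹' (Set.range (γ ≫ q)) = Set.range γ := by
    refine Set.Subset.antisymm ?_ ?_
    · rintro z ⟨y, hy⟩
      obtain ⟨t, ht, ht'⟩ := Scheme.Pullback.exists_preimage_pullback (f := γ ≫ q) (g := q) y z hy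
      have key : ∀ {T : Scheme.{u}} (c₁ : T ⟶ pullback p U₁.hom) (c₂ : T ⟶ pullback p W12.hom),
          c₁ ≫ l12 = c₂ ≫ q → (c₂ ≫ π) ≫ γ = c₂ := by
        intro T c₁ c₂ hc
        have h1 : c₁ ≫ q1 = (c₂ ≫ π) ≫ q1 := by
          rw [Category.assoc, hπsnd, ← reassoc_of% hc]
          simp [l12]
        have h2 : c₁ ≫ b = (c₂ ≫ π) ≫ b := toDD_hom_comp_snd_compatible p a c₁ (c₂ ≫ π) h1
        apply pullback.hom_ext
        · simp only [Category.assoc, hγfst, hπfst]
        · show ((_ ≫ π) ≫ γ) ≫ q = _ ≫ q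
          rw [Category.assoc, hγq, ← hc]
          apply pullback.hom_ext
          · simpa [l12] using h1.symm
          · simpa [l12] using h2.symm
      refine ⟨(pullback.snd (γ ≫ q) q ≫ π) t, ?_⟩
      rw [← Scheme.Hom.comp_apply,
        key (pullback.fst (γ ≫ q) q) _ (by rw [← hγq]; exact pullback.condition), ht']
    · rintro _ ⟨y, rfl⟩
      exact ⟨y, Scheme.Hom.comp_apply γ q y⟩
  let W : (pullback U₁.hom U₂.hom).Opens :=
    ⟨Set.range (γ ≫ q), hquot.isOpen_preimage.mp (hsat ▸ γ.isOpenEmbedding.isOpen_range)⟩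
  let ρ : W.toScheme ⟶ U₁.left := W.ι ≫ pullback.fst U₁.hom U₂.hom
  let l : pullback p U₁.hom ⟶ W := IsOpenImmersion.lift W.ι (γ ≫ q) (by simp [W])
  have hl : l ≫ W.ι = γ ≫ q := IsOpenImmersion.lift_fac _ _ _
  have hlρ : l ≫ ρ = q1 := by simp [ρ, reassoc_of% hl, reassoc_of% hγq, l12]
  have : Surjective ρ := by
    have : Surjective (l ≫ ρ) := by rw [hlρ]; infer_instance
    exact Surjective.of_comp l ρ
  have : Mono ρ := by
    rw [← pullback.isIso_diagonal_iff, isIso_iff_isOpenImmersion_and_surjective]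
    refine ⟨inferInstance, ?_⟩
    let e : pullback ρ ρ ⟶ U₁.left := pullback.fst ρ ρ ≫ ρ
    let r := pullback.fst e q1
    have hr : Surjective r := inferInstance
    have hw : ∀ i : pullback ρ ρ ⟶ W.toScheme, i ≫ ρ = e →
        r ≫ i ≫ W.ι = pullback.snd e q1 ≫ γ ≫ q := by
      intro i hi
      let P' : pullback e q1 ⟶ pullback p W12.hom :=
        pullback.lift (pullback.snd e q1 ≫ pullback.fst p U₁.hom) (r ≫ i ≫ W.ι) (by
          have : r ≫ i ≫ ρ = pullback.snd e q1 ≫ q1 := by rw [hi]; exact pullback.condition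
          simp only [ρ] at this
          simp only [W12, Over.mk_hom, Category.assoc]
          rw [reassoc_of% this, pullback.condition])
      have hP' : P' ≫ q = r ≫ i ≫ W.ι := pullback.lift_snd _ _ _
      have hrange : Set.range P' ⊆ Set.range γ := by
        rintro _ ⟨t, rfl⟩
        rw [← hsat]
        show q (P' t) ∈ Set.range (γ ≫ q)
        rw [← Scheme.Hom.comp_apply, hP', ← Category.assoc, Scheme.Hom.comp_apply]
        exact ((r ≫ i) t).2
      have hP : P' = (P' ≫ π) ≫ γ := by
        obtain ⟨g, hg⟩ : ∃ g, g ≫ γ = P' := ⟨_, IsOpenImmersion.lift_fac γ P' hrange⟩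
        rw [← hg, Category.assoc g γ π, hγπ, Category.comp_id]
      have : P' ≫ π = pullback.snd e q1 := by
        apply pullback.hom_ext
        · simp [hπfst, P']
        · show (P' ≫ π) ≫ q1 = _ ≫ q1
          rw [Category.assoc, hπsnd, reassoc_of% hP']
          have : r ≫ i ≫ ρ = pullback.snd e q1 ≫ q1 := by rw [hi]; exact pullback.condition
          simpa [ρ] using this
      rw [← hP', hP, this, Category.assoc]
    have hh : r ≫ pullback.fst ρ ρ = r ≫ pullback.snd ρ ρ := by
      rw [← cancel_mono W.ι, Category.assoc, Category.assoc, hw _ rfl,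
        hw _ (pullback.condition (f := ρ) (g := ρ)).symm]
    have : (r ≫ pullback.fst ρ ρ) ≫ pullback.diagonal ρ = r := by
      apply pullback.hom_ext <;> simp [hh]
    have : Surjective ((r ≫ pullback.fst ρ ρ) ≫ pullback.diagonal ρ) := by rw [this]; exact hr
    exact Surjective.of_comp (r ≫ pullback.fst ρ ρ) (pullback.diagonal ρ)
  have : IsOpenImmersion ρ := IsOpenImmersion.of_flat_of_mono ρ
  have : IsIso ρ := (isIso_iff_isOpenImmersion_and_surjective _).mpr ⟨inferInstance, inferInstance⟩
  let u : U₁.left ⟶ U₂.left := inv ρ ≫ W.ι ≫ pullback.snd U₁.hom U₂.hom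
  have hu : u ≫ U₂.hom = U₁.hom := by
    simp [u, ρ, ← pullback.condition, IsIso.inv_comp_eq]
  have hb : q1 ≫ u = b := by
    rw [← hlρ]
    simp [u, reassoc_of% hl, reassoc_of% hγq, l12]
  refine ⟨Over.homMk u hu, ?_⟩
  apply SchDD.hom_ext
  ext1
  apply pullback.hom_ext
  · exact (Over.w ((toDD p).map (Over.homMk u hu)).hom).trans hfst.symm
  · exact (toDD_map_comp_snd p _).trans hb

end Groth.Agent.Desc59
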