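import Mathlib.AlgebraicGeometry.Cover.Open
import Mathlib.AlgebraicGeometry.Gluing
import Mathlib.AlgebraicGeometry.AffineScheme
import Mathlib.CategoryTheory.Sites.EffectiveEpimorphic

/-!
Universally effective epimorphic families may be tested on affine schemes.
-/

set_option autoImplicit false
set_option backward.isDefEq.respectTransparency false
universe u

open CategoryTheory CategoryTheory.Limits AlgebraicGeometry Opposite

namespace Groth.Agent.Desc59

theorem effectiveEpimorphic_pullback_of_affine {X : Scheme.{u}} (S : Sieve X)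
    (h : ∀ (Y : Scheme.{u}) (g : Y ⟶ X), IsAffine Y → (S.pullback g).EffectiveEpimorphic)
    {Y : Scheme.{u}} (g : Y ⟶ X) : (S.pullback g).EffectiveEpimorphic := by
  have sep : ∀ {Y : Scheme.{u}} (g : Y ⟶ X) {Z : Scheme.{u}} (a b : Y ⟶ Z),
      (∀ (T : Scheme.{u}) (k : T ⟶ Y), S (k ≫ g) → k ≫ a = k ≫ b) → a = b := by
    intro Y g Z a b hab
    refine Scheme.Cover.hom_ext Y.affineCover _ _ fun i => ?_
    have hs := (Sieve.EffectiveEpimorphic.iff_forall_isSheafFor_yoneda _).mp
      (h _ (Y.affineCover.f i ≫ g) (inferInstance : IsAffine (Y.affineCover.X i))) Z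
    refine hs.isSeparatedFor.ext fun T k hk => ?_
    show k ≫ Y.affineCover.f i ≫ a = k ≫ Y.affineCover.f i ≫ b
    rw [← Category.assoc, ← Category.assoc]
    exact hab T _ (by rw [Category.assoc]; exact hk)
  rw [Sieve.EffectiveEpimorphic.iff_forall_isSheafFor_yoneda]
  intro Z x hx
  rw [Presieve.compatible_iff_sieveCompatible] at hx
  let 𝒰 := Y.affineCover
  let y : ∀ i, Presieve.FamilyOfElements (yoneda.obj Z)
      (S.pullback (𝒰.f i ≫ g)).arrows := fun i T k hk =>
    x (k ≫ 𝒰.f i) (by show S ((k ≫ 𝒰.f i) ≫ g); rw [Category.assoc]; exact hk)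
  have xc : ∀ {T : Scheme.{u}} {k k' : T ⟶ Y} (e : k = k') (hk : S.pullback g k)
      (hk' : S.pullback g k'), x k hk = x k' hk' := fun e _ _ => by subst e; rfl
  have hy : ∀ i, (y i).Compatible := fun i => by
    rw [Presieve.compatible_iff_sieveCompatible]
    intro A B f k hf
    have hf' : S.pullback g (f ≫ 𝒰.f i) := by
      show S ((f ≫ 𝒰.f i) ≫ g); rw [Category.assoc]; exact hf
    exact (xc (Category.assoc _ _ _) _ (Sieve.downward_closed _ hf' k)).trans (hx _ k hf')
  choose t ht using fun i => ((Sieve.EffectiveEpimorphic.iff_forall_isSheafFor_yoneda _).mp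
    (h _ (𝒰.f i ≫ g) (inferInstance : IsAffine (Y.affineCover.X i))) Z (y i) (hy i)).exists
  have hcompat : ∀ i j, pullback.fst (𝒰.f i) (𝒰.f j) ≫ (show 𝒰.X i ⟶ Z from t i) =
      pullback.snd (𝒰.f i) (𝒰.f j) ≫ (show 𝒰.X j ⟶ Z from t j) := by
    intro i j
    refine sep (pullback.fst (𝒰.f i) (𝒰.f j) ≫ 𝒰.f i ≫ g) _ _ fun T k hk => ?_
    have h1 := ht i (k ≫ pullback.fst (𝒰.f i) (𝒰.f j))
      (by show S ((k ≫ pullback.fst _ _) ≫ 𝒰.f i ≫ g); rwa [Category.assoc])
    have h2 := ht j (k ≫ pullback.snd (𝒰.f i) (𝒰.f j))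
      (by show S ((k ≫ pullback.snd _ _) ≫ 𝒰.f j ≫ g)
          rwa [Category.assoc, ← pullback.condition_assoc])
    have e : (k ≫ pullback.fst (𝒰.f i) (𝒰.f j)) ≫ 𝒰.f i =
        (k ≫ pullback.snd (𝒰.f i) (𝒰.f j)) ≫ 𝒰.f j := by
      simp only [Category.assoc, pullback.condition]
    rw [← Category.assoc, ← Category.assoc]
    exact h1.trans ((xc e _ _).trans h2.symm)
  let G : Y ⟶ Z := Scheme.Cover.glueMorphisms 𝒰 (fun i => t i) hcompat
  have hG : ∀ T (k : T ⟶ Y) (hk : S.pullback g k), k ≫ G = x k hk := by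
    intro T k hk
    refine Scheme.Cover.hom_ext (𝒰.pullback₁ k) _ _ fun i => ?_
    let q := pullback.fst k (𝒰.f i)
    let r := pullback.snd k (𝒰.f i)
    have hq : S.pullback g (q ≫ k) := (S.pullback g).downward_closed hk q
    have hr : S (r ≫ 𝒰.f i ≫ g) := by
      rw [← reassoc_of% (pullback.condition (f := k) (g := 𝒰.f i))]
      simpa [q] using hq
    show q ≫ k ≫ G = q ≫ x k hk
    rw [reassoc_of% (pullback.condition (f := k) (g := 𝒰.f i)), Scheme.Cover.ι_glueMorphisms]
    exact (ht i r hr).trans ((xc pullback.condition.symm _ hq).trans (hx k q hk))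
  refine ⟨G, hG, fun G' hG' => sep g _ _ fun T k hk => ?_⟩
  exact (hG' k hk).trans (hG T k hk).symm

end Groth.Agent.Desc59
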