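import Groth.Agent.Unr55.EtStalk
import Groth.Agent.EGA4Alg4.DepthChange
import Mathlib.RingTheory.Unramified.LocalRing

/-!
Local rings of étale algebras over local rings: flatness, the maximal ideal, depth and dimension.
-/

set_option autoImplicit false
universe u

open IsLocalRing

namespace Groth.Agent.Desc59

theorem etaleLocal_facts (A B : Type u) [CommRing A] [CommRing B] [IsLocalRing A] [IsLocalRing B]
    [Algebra A B] [IsLocalHom (algebraMap A B)]
    (E : Type u) [CommRing E] [Algebra A E] [Algebra.Etale A E] (P : Ideal E) [P.IsPrime]
    [Algebra E B] [IsScalarTower A E B] [IsLocalization.AtPrime B P] :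
    Module.Flat A B ∧ (maximalIdeal A).map (algebraMap A B) = maximalIdeal B := by
  have : Module.Flat E B := IsLocalization.flat B P.primeCompl
  have : Algebra.FormallyUnramified E B := .of_isLocalization P.primeCompl
  have : Algebra.FormallyUnramified A B := .comp A E B
  have : Algebra.EssFiniteType E B := .of_isLocalization B P.primeCompl
  have : Algebra.EssFiniteType A B := Algebra.EssFiniteType.comp A E B
  exact ⟨Module.Flat.trans A E B, Algebra.FormallyUnramified.map_maximalIdeal⟩

theorem depth_eq_of_etaleLocal (A B : Type u) [CommRing A] [CommRing B] [IsLocalRing A]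
    [IsLocalRing B] [IsNoetherianRing A] [IsNoetherianRing B] [Algebra A B]
    [IsLocalHom (algebraMap A B)] [Module.Flat A B]
    (hm : (maximalIdeal A).map (algebraMap A B) = maximalIdeal B) :
    LocCoh.depth B B = LocCoh.depth A A := by
  rw [← EGA4Alg4.depth_baseChange_eq hm A]
  exact EGA4Alg4.depth_eq_of_equiv (Algebra.TensorProduct.rid A B B).toLinearEquiv.symm

end Groth.Agent.Desc59
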