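import Groth.Agent.FlatStage64.Main
import Mathlib.RingTheory.Extension.Presentation.Core
import Mathlib.RingTheory.FinitePresentation
import Mathlib.RingTheory.TensorProduct.Maps

/-!
A flat algebra of finite presentation comes from a finitely generated stage.
-/

set_option autoImplicit false

universe u

open TensorProduct

namespace Groth.Agent.Desc59

theorem exists_subalgebra_fg_flat (R A B : Type u) [CommRing R] [CommRing A] [CommRing B]
    [Algebra R A] [Algebra A B] [Algebra.FinitePresentation A B] [Module.Flat A B] :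
    ∃ (A₀ : Subalgebra R A) (B₀ : Type u) (_ : CommRing B₀) (_ : Algebra A₀ B₀),
      A₀.FG ∧ Algebra.FinitePresentation A₀ B₀ ∧ Module.Flat A₀ B₀ ∧
        Nonempty (B ≃ₐ[A] A ⊗[A₀] B₀) := by
  classical
  let P := Algebra.Presentation.ofFinitePresentation A B
  -- a noetherian stage carrying the presentation
  let A₁ : Subalgebra ℤ A := Algebra.adjoin ℤ P.coeffs
  have hA₁ : A₁.FG := ⟨P.finite_coeffs.toFinset, by simp [A₁]⟩
  have : Algebra.FiniteType ℤ A₁ := (Subalgebra.fg_iff_finiteType A₁).mp hA₁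
  have : IsNoetherianRing A₁ := Algebra.FiniteType.isNoetherianRing ℤ A₁
  have : P.HasCoeffs A₁ := ⟨by simp [A₁]⟩
  let B₁ := P.ModelOfHasCoeffs A₁
  let e := P.tensorModelOfHasCoeffsEquiv A₁
  have hflat : Module.Flat A (A ⊗[A₁] B₁) := Module.Flat.of_linearEquiv e.toLinearEquiv
  obtain ⟨C, ⟨sC, hsC⟩, hC⟩ := FlatStage64.exists_fg_flat B₁ (M := B₁) A hflat
  let A₀ : Subalgebra R A := Algebra.adjoin R (P.coeffs ∪ ↑sC)
  have hA₀ : A₀.FG := ⟨P.finite_coeffs.toFinset ∪ sC, by simp [A₀]⟩
  have hle : ∀ x ∈ A₁, x ∈ A₀ := by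
    intro x hx
    have : A₁.toSubring ≤ A₀.toSubring := by
      intro y hy
      have hy' : y ∈ Algebra.adjoin ℤ P.coeffs := hy
      induction hy' using Algebra.adjoin_induction with
      | mem z hz => exact (Algebra.subset_adjoin (Set.mem_union_left _ hz) : z ∈ A₀)
      | algebraMap r => simp [intCast_mem]
      | add a b ha hb iha ihb => exact A₀.add_mem (iha ha) (ihb hb)
      | mul a b ha hb iha ihb => exact A₀.mul_mem (iha ha) (ihb hb)
    exact this hx
  let D : Subalgebra A₁ A :=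
    { A₀.toSubsemiring with algebraMap_mem' := fun x => hle _ x.2 }
  have hCD : C ≤ D := by
    have h1 : (↑sC : Set A) ⊆ (A₀ : Set A) := Set.subset_union_right.trans Algebra.subset_adjoin
    rw [← hsC]
    refine Algebra.adjoin_le fun y hy => ?_
    show y ∈ A₀
    exact h1 hy
  letI : Algebra A₁ A₀ := D.algebra
  letI : IsScalarTower A₁ A₀ A := IsScalarTower.of_algebraMap_eq fun _ => rfl
  have hflat₀ : Module.Flat A₀ (A₀ ⊗[A₁] B₁) := hC D hCD
  exact ⟨A₀, A₀ ⊗[A₁] B₁, inferInstance, inferInstance, hA₀, inferInstance, hflat₀,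
    ⟨e.symm.trans (Algebra.TensorProduct.cancelBaseChange A₁ A₀ A A B₁).symm⟩⟩

end Groth.Agent.Desc59
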