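import Groth.Agent.Desc59.FppfModel
import Groth.Agent.SpFP87.EtDescRing

/-!
Finite type descends along an fppf cover on the source (adapted from the etale case in `SpFP87`).
-/

set_option autoImplicit false
set_option linter.style.haveILetI false
open TensorProduct
universe u

namespace Groth.Agent.Desc59

open Groth.Agent.SpFP87 (isOpen_range_comap map_annihilator_eq_top)

theorem finiteType_of_fppf_cover (R : Type u) {A B : Type u} [CommRing R] [CommRing A] [CommRing B]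
    [Algebra R A] [Algebra A B] [Algebra R B] [IsScalarTower R A B] [Algebra.FinitePresentation A B] [Module.Flat A B]
    (hs : Function.Surjective (PrimeSpectrum.comap (algebraMap A B)))
    [hB : Algebra.FiniteType R B] : Algebra.FiniteType R A := by
  classical
  obtain ⟨A₀, B₀, _, _, hA₀, _, _, ⟨e⟩⟩ := exists_subalgebra_fg_flat R A B
  obtain ⟨s, hs'⟩ := hB.out
  let e' : B ≃ₐ[R] A ⊗[A₀] B₀ := e.restrictScalars R
  choose T hT using fun b : B => TensorProduct.exists_finset (e' b)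
  obtain ⟨K, hK⟩ := (PrimeSpectrum.isClosed_iff_zeroLocus_ideal _).1
    (isOpen_range_comap (A := A₀) (B := B₀)).isClosed_compl
  have hKA : K.map (algebraMap A₀ A) = ⊤ := by
    by_contra hne
    obtain ⟨q, hq, hqK⟩ := Ideal.exists_le_maximal _ hne
    obtain ⟨Q, hQ⟩ := hs ⟨q, hq.isPrime⟩
    let φ : B₀ →+* B := (e.symm.toRingEquiv.toRingHom).comp
      (Algebra.TensorProduct.includeRight (R := A₀) (A := A) (B := B₀)).toRingHom
    have hφ : φ.comp (algebraMap A₀ B₀) = (algebraMap A B).comp (algebraMap A₀ A) := by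
      ext x
      change e.symm (1 ⊗ₜ algebraMap A₀ B₀ x) = algebraMap A B (algebraMap A₀ A x)
      rw [← e.symm.commutes]
      congr 1
      rw [Algebra.algebraMap_eq_smul_one (A := B₀), TensorProduct.tmul_smul]
      simp [TensorProduct.smul_tmul', Algebra.smul_def]
    have : PrimeSpectrum.comap (algebraMap A₀ A) ⟨q, hq.isPrime⟩ ∈
        (Set.range (PrimeSpectrum.comap (algebraMap A₀ B₀)))ᶜ := by
      rw [hK, PrimeSpectrum.mem_zeroLocus, SetLike.coe_subset_coe, PrimeSpectrum.comap_asIdeal]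
      exact Ideal.map_le_iff_le_comap.1 hqK
    apply this
    refine ⟨PrimeSpectrum.comap φ Q, ?_⟩
    rw [← PrimeSpectrum.comap_comp_apply, hφ, PrimeSpectrum.comap_comp_apply, hQ]
  obtain ⟨t, ht⟩ : ∃ t : Finset A, (1 : A) ∈ Ideal.span (algebraMap A₀ A '' (K : Set A₀)) ∧
      ∀ A₂ : Subalgebra R A, A₀ ≤ A₂ → (↑t ⊆ (A₂ : Set A)) →
        ∃ l : A →₀ A, (∀ a, l a ∈ A₂) ∧ (↑l.support ⊆ algebraMap A₀ A '' (K : Set A₀)) ∧
          l.sum (fun k a => a * k) = 1 := by
    have h1 : (1 : A) ∈ Ideal.span (algebraMap A₀ A '' (K : Set A₀)) := by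
      rw [← Ideal.map, hKA]; trivial
    obtain ⟨l, hl, hl'⟩ := (Submodule.mem_span_set (R := A)).1 h1
    refine ⟨l.support.image l, h1, fun A₂ _ hA₂ => ⟨l, fun a => ?_, hl, hl'⟩⟩
    by_cases ha : a ∈ l.support
    · exact hA₂ (Finset.mem_coe.2 (Finset.mem_image_of_mem l ha))
    · rw [Finsupp.notMem_support_iff.1 ha]; exact A₂.zero_mem
  let A₂ : Subalgebra R A := A₀ ⊔ Algebra.adjoin R (↑t ∪ ↑(s.biUnion fun b => (T b).image Prod.fst))
  have h01 : A₀ ≤ A₂ := le_sup_left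
  have hsub : (↑t ∪ ↑(s.biUnion fun b => (T b).image Prod.fst) : Set A) ⊆ A₂ :=
    Algebra.subset_adjoin.trans (SetLike.coe_subset_coe.2 le_sup_right)
  have hA₂ : A₂.FG := hA₀.sup ⟨_, by rw [Finset.coe_union]⟩
  suffices h : A₂ = ⊤ by
    exact (Subalgebra.fg_iff_finiteType _).1 hA₂ |>.of_surjective A₂.val
      (fun a => ⟨⟨a, h ▸ trivial⟩, rfl⟩)
  obtain ⟨l, hl, hlK, hl1⟩ := ht.2 A₂ h01 (Set.subset_union_left.trans hsub)
  letI : Algebra A₀ A₂ := (Subalgebra.inclusion h01).toRingHom.toAlgebra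
  haveI : IsScalarTower A₀ A₂ A := IsScalarTower.of_algebraMap_eq fun _ => rfl
  haveI : IsScalarTower R A₀ A₂ := IsScalarTower.of_algebraMap_eq fun _ => rfl
  let ι : A₂ →ₐ[A₀] A := IsScalarTower.toAlgHom A₀ A₂ A
  let μ : (A₂ ⊗[A₀] B₀) →ₐ[A₀] (A ⊗[A₀] B₀) := Algebra.TensorProduct.map ι (AlgHom.id A₀ B₀)
  have hμ : Function.Surjective μ := by
    let μR := (μ.restrictScalars R).range
    suffices μR = ⊤ by exact fun x => (this ▸ trivial : x ∈ μR)
    have : μR.comap e'.toAlgHom = ⊤ := by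
      rw [eq_top_iff, ← hs']
      refine Algebra.adjoin_le fun b hb => ?_
      change e' b ∈ μR
      rw [hT b]
      refine Subalgebra.sum_mem _ fun p hp => ⟨(⟨p.1, hsub (Or.inr ?_)⟩ : A₂) ⊗ₜ p.2, rfl⟩
      exact Finset.mem_coe.2 (Finset.mem_biUnion.2 ⟨b, hb, Finset.mem_image_of_mem _ hp⟩)
    rw [eq_top_iff]
    intro x _
    have := (this ▸ trivial : e'.symm x ∈ μR.comap e'.toAlgHom)
    simpa using this
  rw [eq_top_iff]
  intro a _
  let A₂' : Submodule A₂ A := LinearMap.range (Algebra.linearMap A₂ A)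
  set m : A ⧸ A₂' := Submodule.Quotient.mk a
  suffices hm : LinearMap.ker (LinearMap.toSpanSingleton A₂ (A ⧸ A₂') m) = ⊤ by
    have := (Submodule.eq_top_iff'.1 hm) 1
    rw [LinearMap.mem_ker, LinearMap.toSpanSingleton_apply, one_smul, Submodule.Quotient.mk_eq_zero] at this
    obtain ⟨x, hx⟩ := this
    exact hx ▸ x.2
  by_contra hne
  obtain ⟨p, hp, hpc⟩ := Ideal.exists_le_maximal _ hne
  have hpK : PrimeSpectrum.comap (algebraMap A₀ A₂) ⟨p, hp.isPrime⟩ ∈
      Set.range (PrimeSpectrum.comap (algebraMap A₀ B₀)) := by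
    by_contra hcon
    have : K ≤ Ideal.comap (algebraMap A₀ A₂) p := by
      rw [← Set.mem_compl_iff, hK, PrimeSpectrum.mem_zeroLocus] at hcon
      exact hcon
    refine hp.ne_top ((Ideal.eq_top_iff_one p).2 ?_)
    have h1 : (1 : A₂) = ∑ k ∈ l.support.attach, (⟨l k, hl k⟩ : A₂) *
        algebraMap A₀ A₂ ((hlK k.2).choose) := by
      apply Subtype.ext
      rw [OneMemClass.coe_one, ← hl1, Finsupp.sum, ← Finset.sum_attach]
      push_cast
      refine Finset.sum_congr rfl fun k _ => ?_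
      exact congrArg _ (hlK k.2).choose_spec.2.symm
    rw [h1]
    exact Ideal.sum_mem _ fun k _ => p.mul_mem_left _ (this (hlK k.2).choose_spec.1)
  obtain ⟨Q, hQ⟩ := hpK
  have hm0 : (1 : B₀) ⊗ₜ[A₀] m = 0 := by
    obtain ⟨z, hz⟩ := hμ (a ⊗ₜ 1)
    let π : A →ₗ[A₀] (A ⧸ A₂') := (Submodule.mkQ A₂').restrictScalars A₀
    let τ : A ⊗[A₀] B₀ →ₗ[A₀] B₀ ⊗[A₀] (A ⧸ A₂') :=
      (TensorProduct.mk A₀ B₀ (A ⧸ A₂')).flip.comp π |> TensorProduct.lift
    have : τ (a ⊗ₜ 1) = 0 := by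
      rw [← hz]
      clear hz
      induction z using TensorProduct.induction_on with
      | zero => simp
      | tmul x y =>
        change y ⊗ₜ[A₀] (Submodule.Quotient.mk (ι x) : A ⧸ A₂') = 0
        rw [(Submodule.Quotient.mk_eq_zero A₂').2 (show ι x ∈ A₂' from ⟨x, rfl⟩), TensorProduct.tmul_zero]
      | add x y hx hy => simp only [map_add, hx, hy, add_zero]
    exact this
  have htop := map_annihilator_eq_top m hm0
  refine Q.isPrime.ne_top (top_le_iff.1 (htop ▸ Ideal.map_le_iff_le_comap.2 ?_))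
  have hQ' := congrArg PrimeSpectrum.asIdeal hQ
  rw [PrimeSpectrum.comap_asIdeal, PrimeSpectrum.comap_asIdeal] at hQ'
  rw [hQ']
  intro x hx
  apply hpc
  rw [LinearMap.mem_ker, LinearMap.toSpanSingleton_apply] at hx ⊢
  rw [algebraMap_smul]
  exact hx

end Groth.Agent.Desc59
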