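import Mathlib
import Groth.Agent.Hensel20.Pair
import Groth.Agent.Hensel20.PairApi

/-! Splitting off the finite part of a separated quasi-finite scheme over a henselian pair. -/

set_option autoImplicit false
universe u

open CategoryTheory CategoryTheory.Limits AlgebraicGeometry TopologicalSpace

namespace Groth.Agent.Desc59.HensSplit

set_option backward.isDefEq.respectTransparency.types false in
/-- Zariski's main theorem over an affine base. -/
theorem exists_openImmersion_integral {A : Type u} [CommRing A] {U : Scheme.{u}}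
    (g : U ⟶ Spec (CommRingCat.of A)) [QuasiCompact g] [IsSeparated g] [LocallyOfFiniteType g]
    [LocallyQuasiFinite g] :
    ∃ (B : CommRingCat.{u}) (φ : CommRingCat.of A ⟶ B) (j : U ⟶ Spec B),
      IsOpenImmersion j ∧ φ.hom.IsIntegral ∧ j ≫ Spec.map φ = g := by
  let h := g.fromNormalization
  have : IsAffine g.normalization := isAffine_of_isAffineHom h
  let φ : CommRingCat.of A ⟶ Γ(g.normalization, ⊤) := Spec.preimage (g.normalization.isoSpec.inv ≫ h)
  have hφ : Spec.map φ = g.normalization.isoSpec.inv ≫ h := Spec.map_preimage _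
  have : IsIntegralHom (Spec.map φ) := by rw [hφ]; infer_instance
  refine ⟨_, φ, g.toNormalization ≫ g.normalization.isoSpec.hom, inferInstance,
    IsIntegralHom.SpecMap_iff.mp this, ?_⟩
  rw [hφ, Category.assoc, Iso.hom_inv_id_assoc, g.toNormalization_fromNormalization]

/-- Over a henselian pair the finite part splits off. -/
theorem exists_split {A : Type u} [CommRing A] (I : Ideal A) [HenselianRing A I]
    {U : Scheme.{u}} (g : U ⟶ Spec (CommRingCat.of A)) [QuasiCompact g] [IsSeparated g]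
    [LocallyOfFiniteType g] [LocallyQuasiFinite g]
    (hfin : IsFinite (pullback.snd g (Spec.map (CommRingCat.ofHom (Ideal.Quotient.mk I))))) :
    ∃ W : U.Opens, IsClosed (W : Set U) ∧ IsFinite (W.ι ≫ g) ∧
      ∀ u : U, u ∉ W → ¬ I ≤ (g.base u : PrimeSpectrum A).asIdeal := by
  obtain ⟨B, φ, j, hj, hint, hjg⟩ := exists_openImmersion_integral g
  algebraize [φ.hom]
  have : Algebra.IsIntegral A B := ⟨hint⟩
  let J : Ideal B := I.map (algebraMap A B)
  have hI : I ≤ Ideal.jacobson ⊥ := HenselianRing.jac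
  -- the part of `U` over `V(I)` is closed in `Spec B`
  let i := Spec.map (CommRingCat.ofHom (Ideal.Quotient.mk I))
  have hcl : IsClosed (Set.range (pullback.fst g i ≫ j)) := by
    have : IsClosedImmersion i := IsClosedImmersion.spec_of_surjective _ Ideal.Quotient.mk_surjective
    have : IsFinite (pullback.snd g i) := hfin
    have : IsFinite ((pullback.fst g i ≫ j) ≫ Spec.map φ) := by
      rw [Category.assoc, hjg, pullback.condition]
      infer_instance
    have : IsFinite (pullback.fst g i ≫ j) := IsFinite.of_comp _ (Spec.map φ)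
    exact (pullback.fst g i ≫ j).isClosedMap.isClosed_range
  have hrange : ∀ p : PrimeSpectrum B,
      p ∈ Set.range (pullback.fst g i ≫ j) ↔ p ∈ Set.range j ∧ J ≤ p.asIdeal := by
    intro p
    have hi : Set.range i = PrimeSpectrum.zeroLocus (I : Set A) := by
      show Set.range (PrimeSpectrum.comap (Ideal.Quotient.mk I)) = _
      rw [range_comap_of_surjective _ _ Ideal.Quotient.mk_surjective, Ideal.mk_ker]
    have key : ∀ u : U, g u ∈ PrimeSpectrum.zeroLocus (I : Set A) ↔ J ≤ (j u).asIdeal := fun u => by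
      rw [← hjg, Scheme.Hom.comp_apply, Ideal.map_le_iff_le_comap]
      exact Iff.rfl
    constructor
    · rintro ⟨t, rfl⟩
      refine ⟨⟨_, (Scheme.Hom.comp_apply _ _ t).symm⟩, ?_⟩
      rw [Scheme.Hom.comp_apply]
      refine (key _).mp (hi ▸ ?_)
      have ht : pullback.fst g i t ∈ Set.range (pullback.fst g i) := ⟨t, rfl⟩
      rwa [Scheme.Pullback.range_fst] at ht
    · rintro ⟨⟨u, rfl⟩, hu⟩
      obtain ⟨t, rfl⟩ : u ∈ Set.range (pullback.fst g i) := by
        rw [Scheme.Pullback.range_fst, Set.mem_preimage, hi]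
        exact (key u).mpr hu
      exact ⟨t, Scheme.Hom.comp_apply _ _ t⟩
  -- the idempotent
  let S₀ : Set (PrimeSpectrum (B ⧸ J)) :=
    PrimeSpectrum.comap (Ideal.Quotient.mk J) ⁻¹' Set.range j
  have hS₀ : IsClopen S₀ := by
    refine ⟨?_, hj.base_open.isOpen_range.preimage (PrimeSpectrum.continuous_comap _)⟩
    have : S₀ = PrimeSpectrum.comap (Ideal.Quotient.mk J) ⁻¹' Set.range (pullback.fst g i ≫ j) := by
      ext q
      refine ⟨fun h => (hrange _).mpr ⟨h, ?_⟩, fun h => ((hrange _).mp h).1⟩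
      intro x hx
      show Ideal.Quotient.mk J x ∈ q.asIdeal
      rw [Ideal.Quotient.eq_zero_iff_mem.mpr hx]
      exact zero_mem _
    rw [this]
    exact hcl.preimage (PrimeSpectrum.continuous_comap _)
  obtain ⟨b₀, hb₀, hb₀S⟩ := PrimeSpectrum.exists_idempotent_basicOpen_eq_of_isClopen hS₀
  obtain ⟨b, rfl⟩ := Ideal.Quotient.mk_surjective b₀
  obtain ⟨e, he, heb⟩ := Hensel20.exists_idem_lift_of_integral
    (Hensel20.hasIdemLift_of_hasFactorLift hI
      (Hensel20.hasFactorLift_of_hasEtaleLift Hensel20.hasEtaleLift)) b (by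
    show b * b - b ∈ J
    rw [← Ideal.Quotient.eq_zero_iff_mem, map_sub, map_mul, hb₀, sub_self])
  have hS₀e : ∀ p : PrimeSpectrum B, J ≤ p.asIdeal → (e ∉ p.asIdeal ↔ p ∈ Set.range j) := by
    intro p hp
    obtain ⟨q, rfl⟩ : p ∈ Set.range (PrimeSpectrum.comap (Ideal.Quotient.mk J)) := by
      rw [range_comap_of_surjective _ _ Ideal.Quotient.mk_surjective, Ideal.mk_ker]
      exact hp
    have h1 : q ∈ S₀ ↔ Ideal.Quotient.mk J b ∉ q.asIdeal := by rw [hb₀S]; rfl
    show Ideal.Quotient.mk J e ∉ q.asIdeal ↔ q ∈ S₀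
    rw [h1, (Ideal.Quotient.mk_eq_mk_iff_sub_mem e b).mpr heb]
  have hclop : IsClopen (PrimeSpectrum.basicOpen e : Set (PrimeSpectrum B)) :=
    PrimeSpectrum.isClopen_iff_mul_add.mpr ⟨e, 1 - e, by rw [mul_sub, mul_one, he, sub_self],
      add_sub_cancel e 1, rfl⟩
  have hsub : (PrimeSpectrum.basicOpen e : Set (PrimeSpectrum B)) ⊆ Set.range j := by
    intro p hp
    by_contra hpj
    let Z : Set (PrimeSpectrum B) := (PrimeSpectrum.basicOpen e : Set (PrimeSpectrum B)) ∩ (Set.range j)ᶜ
    have hZ : IsClosed (PrimeSpectrum.comap (algebraMap A B) '' Z) :=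
      PrimeSpectrum.isClosedMap_comap_of_isIntegral _ hint _
        (hclop.1.inter hj.base_open.isOpen_range.isClosed_compl)
    obtain ⟨K, hK⟩ := (PrimeSpectrum.isClosed_iff_zeroLocus_ideal _).mp hZ
    have hmem : PrimeSpectrum.comap (algebraMap A B) p ∈ PrimeSpectrum.zeroLocus (K : Set A) :=
      hK ▸ ⟨p, ⟨hp, hpj⟩, rfl⟩
    obtain ⟨m, hm, hKm⟩ := Ideal.exists_le_maximal K fun h => by
      simp [h, PrimeSpectrum.zeroLocus_univ] at hmem
    have hIm : I ≤ m := hI.trans (sInf_le ⟨bot_le, hm⟩)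
    obtain ⟨z, ⟨hze, hzj⟩, hzm⟩ : (⟨m, hm.isPrime⟩ : PrimeSpectrum A) ∈
        PrimeSpectrum.comap (algebraMap A B) '' Z := hK ▸ hKm
    refine hzj ((hS₀e z ?_).mp hze)
    rw [Ideal.map_le_iff_le_comap]
    intro x hx
    exact (congrArg PrimeSpectrum.asIdeal hzm).ge (hIm hx)
  let O : (Spec B).Opens := PrimeSpectrum.basicOpen e
  refine ⟨j ⁻¹ᵁ O, hclop.1.preimage j.continuous, ?_, fun u hu hIu => hu ?_⟩
  · have hr : Set.range ((j ⁻¹ᵁ O).ι ≫ j) = (O : Set (Spec B)) := by
      rw [Scheme.Hom.comp_base, TopCat.coe_comp, Set.range_comp, Scheme.Opens.range_ι]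
      exact Set.image_preimage_eq_of_subset hsub
    have : IsClosedImmersion ((j ⁻¹ᵁ O).ι ≫ j) := .of_isPreimmersion _ (hr ▸ hclop.1)
    have : IsIntegralHom (Spec.map φ) := IsIntegralHom.SpecMap_iff.mpr hint
    refine (IsFinite.iff_isIntegralHom_and_locallyOfFiniteType _).mpr ⟨?_, inferInstance⟩
    rw [← hjg, ← Category.assoc]
    infer_instance
  · refine (hS₀e (j u) ?_).mpr ⟨u, rfl⟩
    rw [Ideal.map_le_iff_le_comap]
    intro x hx
    have := hIu hx
    rw [← hjg, Scheme.Hom.comp_apply] at this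
    exact this

end Groth.Agent.Desc59.HensSplit
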