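import Groth.Agent.Unr55.FlatUnram

/-!
Finiteness of irreducible components along flat maps of finite type.
-/

set_option autoImplicit false
universe u

open TensorProduct

namespace Groth.Agent.Desc59

theorem finite_minimalPrimes_of_flat {A B : Type u} [CommRing A] [CommRing B]
    [Algebra A B] [Module.Flat A B] [Algebra.FiniteType A B] (h : (minimalPrimes A).Finite) :
    (minimalPrimes B).Finite := by
  have hsub : minimalPrimes B ⊆ ⋃ p ∈ minimalPrimes A, {q ∈ minimalPrimes B | q.under A = p} := by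
    intro q hq
    have : q.IsPrime := hq.1.1
    refine Set.mem_biUnion (x := q.under A) ?_ ⟨hq, rfl⟩
    refine ⟨⟨inferInstance, bot_le⟩, fun p hp hpq ↦ ?_⟩
    have := hp.1
    obtain ⟨q', hq'le, hq', hover⟩ := Ideal.exists_ideal_le_liesOver_of_le (S := B) q hpq
    have hqq : q = q' := le_antisymm (hq.2 ⟨hq', bot_le⟩ hq'le) hq'le
    subst hqq
    exact le_of_eq hover.over.symm
  refine (h.biUnion fun p hp ↦ ?_).subset hsub
  have hpp : p.IsPrime := hp.1.1
  let p' : PrimeSpectrum A := ⟨p, hpp⟩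
  have : IsNoetherianRing (p'.asIdeal.Fiber B) :=
    Algebra.FiniteType.isNoetherianRing p'.asIdeal.ResidueField _
  let e := PrimeSpectrum.preimageOrderIsoFiber A B p'
  refine ((minimalPrimes.finite_of_isNoetherianRing (p'.asIdeal.Fiber B)).preimage
    (fun _ _ _ _ h => PrimeSpectrum.ext h) |>.image fun Q => (e.symm Q).1.asIdeal).subset ?_
  rintro q ⟨hq, hqp⟩
  let z : PrimeSpectrum.comap (algebraMap A B) ⁻¹' {p'} := ⟨⟨q, hq.1.1⟩, PrimeSpectrum.ext hqp⟩
  refine ⟨e z, ⟨⟨(e z).2, bot_le⟩, fun Q hQ hle => ?_⟩, ?_⟩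
  · have h1 : e.symm ⟨Q, hQ.1⟩ ≤ z := e.symm_apply_le.mpr hle
    have h2 : z ≤ e.symm ⟨Q, hQ.1⟩ := hq.2 ⟨(e.symm ⟨Q, hQ.1⟩).1.2, bot_le⟩ h1
    exact e.le_symm_apply.mp h2
  · show (e.symm (e z)).1.asIdeal = q
    rw [OrderIso.symm_apply_apply]

theorem finite_irreducibleComponents_of_flat {A B : Type u} [CommRing A] [CommRing B]
    [Algebra A B] [Module.Flat A B] [Algebra.FiniteType A B]
    (h : (irreducibleComponents (PrimeSpectrum A)).Finite) :
    (irreducibleComponents (PrimeSpectrum B)).Finite := by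
  have := finite_minimalPrimes_of_flat (B := B)
    (Unr55.finite_minimalPrimes_of_finite_irreducibleComponents h)
  rw [← PrimeSpectrum.vanishingIdeal_irreducibleComponents] at this
  exact Set.Finite.of_finite_image this fun s hs t ht e => by
    rw [← (isClosed_of_mem_irreducibleComponents s hs).closure_eq,
      ← (isClosed_of_mem_irreducibleComponents t ht).closure_eq,
      ← PrimeSpectrum.zeroLocus_vanishingIdeal_eq_closure,
      ← PrimeSpectrum.zeroLocus_vanishingIdeal_eq_closure, e]

end Groth.Agent.Desc59
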