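import Mathlib

/-!
The Jacobson property descends along faithfully flat algebras of finite presentation.
-/

set_option autoImplicit false
universe u

open TensorProduct

namespace Groth.Agent.Desc59.Jac

theorem isIntegrallyClosed_mvPolynomial (R : Type u) [CommRing R] [IsDomain R]
    [IsIntegrallyClosed R] : ∀ n : ℕ, IsIntegrallyClosed (MvPolynomial (Fin n) R)
  | 0 => IsIntegrallyClosed.of_equiv (MvPolynomial.isEmptyRingEquiv R (Fin 0)).symm
  | n + 1 =>
    have := isIntegrallyClosed_mvPolynomial R n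
    IsIntegrallyClosed.of_equiv (MvPolynomial.finSuccEquiv R n).toRingEquiv.symm

/-- A nonzero polynomial over a valuation ring is a scalar times a primitive one. -/
theorem exists_eq_C_mul {V : Type u} [CommRing V] [IsDomain V] [ValuationRing V] {σ : Type*}
    (g : MvPolynomial σ V) (hg : g ≠ 0) :
    ∃ (c : V) (h : MvPolynomial σ V), c ≠ 0 ∧ g = MvPolynomial.C c * h ∧
      MvPolynomial.map (IsLocalRing.residue V) h ≠ 0 := by
  classical
  have hs : g.support.Nonempty := by simpa using hg
  obtain ⟨m, hm, hmax⟩ : ∃ m ∈ g.support, ∀ m' ∈ g.support, g.coeff m ∣ g.coeff m' := by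
    have : ∀ s : Finset (σ →₀ ℕ), s.Nonempty → ∃ m ∈ s, ∀ m' ∈ s, g.coeff m ∣ g.coeff m' := by
      intro s hs
      induction hs using Finset.Nonempty.cons_induction with
      | singleton a => exact ⟨a, by simp, fun m' hm' => by simp_all⟩
      | cons a s ha hs ih =>
        obtain ⟨m, hm, h⟩ := ih
        rcases ValuationRing.dvd_total (g.coeff a) (g.coeff m) with d | d
        · exact ⟨a, by simp, fun m' hm' => by
            rcases Finset.mem_cons.mp hm' with rfl | hm'
            · exact dvd_rfl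
            · exact d.trans (h m' hm')⟩
        · exact ⟨m, Finset.mem_cons_of_mem hm, fun m' hm' => by
            rcases Finset.mem_cons.mp hm' with rfl | hm'
            · exact d
            · exact h m' hm'⟩
    exact this _ hs
  have hdvd : ∀ m', g.coeff m ∣ g.coeff m' := fun m' => by
    by_cases h : m' ∈ g.support
    · exact hmax m' h
    · simp [MvPolynomial.notMem_support_iff.mp h]
  obtain ⟨h, hgh⟩ := (MvPolynomial.C_dvd_iff_dvd_coeff _ _).mpr hdvd
  refine ⟨_, h, MvPolynomial.mem_support_iff.mp hm, hgh, fun h0 => ?_⟩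
  have h1 := congrArg (MvPolynomial.coeff m) h0
  rw [MvPolynomial.coeff_map, MvPolynomial.coeff_zero] at h1
  have h2 : g.coeff m * 1 = g.coeff m * h.coeff m := by
    rw [mul_one, ← MvPolynomial.coeff_C_mul, ← hgh]
  rw [← mul_left_cancel₀ (MvPolynomial.mem_support_iff.mp hm) h2, map_one] at h1
  exact one_ne_zero h1

/-- In a finite type domain over a valuation ring, injective and meeting the closed fibre, some
prime over zero closed in the generic fibre meets the closed fibre. -/
theorem exists_prime_over_bot (V C : Type u) [CommRing V] [IsDomain V] [ValuationRing V]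
    [CommRing C] [IsDomain C] [Algebra V C] [Algebra.FiniteType V C]
    (hinj : Function.Injective (algebraMap V C))
    (hm : (IsLocalRing.maximalIdeal V).map (algebraMap V C) ≠ ⊤) :
    ∃ (Q P : Ideal C) (_ : Q.IsPrime) (_ : P.IsPrime), Q ≤ P ∧ Q.under V = ⊥ ∧
      P.under V = IsLocalRing.maximalIdeal V ∧
      ∀ x : C ⧸ Q, IsAlgebraic V x := by
  classical
  let m := IsLocalRing.maximalIdeal V
  let k := V ⧸ m
  let : Field k := Ideal.Quotient.field m
  let I := m.map (algebraMap V C)
  have : Nontrivial (C ⧸ I) := Ideal.Quotient.nontrivial_iff.mpr hm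
  let : Algebra k (C ⧸ I) := Ideal.Quotient.algebraQuotientOfLEComap Ideal.le_comap_map
  have : IsScalarTower V k (C ⧸ I) := IsScalarTower.of_algebraMap_eq fun v => rfl
  have : Algebra.FiniteType k (C ⧸ I) := .of_restrictScalars_finiteType V k (C ⧸ I)
  obtain ⟨n, g, hginj, hgint⟩ := exists_integral_inj_algHom_of_fg k (C ⧸ I)
  -- lift the Noether normalisation
  choose y hy using fun i => Ideal.Quotient.mk_surjective (g (MvPolynomial.X i))
  let R := MvPolynomial (Fin n) V
  let φ : R →ₐ[V] C := MvPolynomial.aeval y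
  have hφ : ∀ r : R, Ideal.Quotient.mk I (φ r) = g (MvPolynomial.map (Ideal.Quotient.mk m) r) := by
    intro r
    induction r using MvPolynomial.induction_on with
    | C a =>
      show Ideal.Quotient.mk I (MvPolynomial.aeval y (MvPolynomial.C a)) = _
      rw [MvPolynomial.aeval_C, MvPolynomial.map_C]
      exact (g.commutes (Ideal.Quotient.mk m a)).symm
    | add p q hp hq => simp [hp, hq]
    | mul_X p i hp =>
      simp only [map_mul, hp, MvPolynomial.map_X]
      congr 1
      show Ideal.Quotient.mk I (MvPolynomial.aeval y (MvPolynomial.X i)) = _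
      rw [MvPolynomial.aeval_X, hy]
  have hφinj : Function.Injective φ := by
    refine (injective_iff_map_eq_zero φ).mpr fun r hr => ?_
    by_contra hr0
    obtain ⟨c, h, hc, rfl, hh⟩ := exists_eq_C_mul r hr0
    rw [map_mul] at hr
    rcases mul_eq_zero.mp hr with h1 | h1
    · exact hc (hinj (by rw [map_zero, ← h1]; exact (MvPolynomial.aeval_C y c).symm))
    · have := hφ h
      rw [h1, map_zero] at this
      exact hh (hginj (this.symm.trans (map_zero g).symm))
  algebraize [φ.toRingHom]
  have : IsScalarTower V R C := IsScalarTower.of_algebraMap_eq fun v => (φ.commutes v).symm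
  have : Algebra.FiniteType R C := .of_restrictScalars_finiteType V R C
  have : FaithfulSMul R C := (faithfulSMul_iff_algebraMap_injective R C).mpr hφinj
  -- the prime `(m, T)` and a prime over it
  let aug : R →+* k := (Ideal.Quotient.mk m).comp MvPolynomial.constantCoeff
  let 𝔭 : Ideal R := RingHom.ker aug
  have haug : Function.Surjective aug := fun a => by
    obtain ⟨v, rfl⟩ := Ideal.Quotient.mk_surjective a
    exact ⟨MvPolynomial.C v, congrArg (Ideal.Quotient.mk m) (MvPolynomial.constantCoeff_C _ v)⟩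
  have h𝔭 : 𝔭.IsMaximal := RingHom.ker_isMaximal_of_surjective _ haug
  let mk0 : R →+* MvPolynomial (Fin n) k := MvPolynomial.map (Ideal.Quotient.mk m)
  let t : Ideal (MvPolynomial (Fin n) k) := RingHom.ker MvPolynomial.constantCoeff
  have ht : t.IsMaximal := RingHom.ker_isMaximal_of_surjective _
    fun a => ⟨MvPolynomial.C a, by simp⟩
  have ht0 : t.comap mk0 = 𝔭 := by
    ext r
    show MvPolynomial.constantCoeff (MvPolynomial.map (Ideal.Quotient.mk m) r) = 0 ↔
      Ideal.Quotient.mk m (MvPolynomial.constantCoeff r) = 0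
    rw [MvPolynomial.constantCoeff_eq, MvPolynomial.constantCoeff_eq, MvPolynomial.coeff_map]
  algebraize [g.toRingHom]
  have : Algebra.IsIntegral (MvPolynomial (Fin n) k) (C ⧸ I) := ⟨hgint⟩
  obtain ⟨P', hP', hP'max, hP't⟩ : ∃ P' : Ideal (C ⧸ I), P'.IsPrime ∧ P'.IsMaximal ∧
      P'.comap g.toRingHom = t := by
    obtain ⟨P', -, hP', e⟩ := Ideal.exists_ideal_over_prime_of_isIntegral t (⊥ : Ideal (C ⧸ I))
      (le_of_eq_of_le (Ideal.comap_bot_of_injective g.toRingHom hginj) bot_le)
    exact ⟨P', hP', Ideal.isMaximal_of_isIntegral_of_isMaximal_comap P' (e ▸ ht), e⟩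
  let P : Ideal C := P'.comap (Ideal.Quotient.mk I)
  have hPt : P.under R = 𝔭 := by
    ext r
    show Ideal.Quotient.mk I (φ r) ∈ P' ↔ _
    rw [hφ, ← ht0, Ideal.mem_comap, ← hP't]
    rfl
  have hPV : P.under V = m := by
    refine ((IsLocalRing.maximalIdeal.isMaximal V).eq_of_le
      (Ideal.IsPrime.ne_top inferInstance) ?_).symm
    intro v hv
    show Ideal.Quotient.mk I (algebraMap V C v) ∈ P'
    rw [Ideal.Quotient.eq_zero_iff_mem.mpr (Ideal.mem_map_of_mem _ hv)]
    exact zero_mem _
  -- quasi-finite at `P`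
  have hpre : ∀ q : PrimeSpectrum C, q.asIdeal.under R = 𝔭 →
      ∃ q' : PrimeSpectrum (C ⧸ I), q'.asIdeal.comap g.toRingHom = t ∧
        PrimeSpectrum.comap (Ideal.Quotient.mk I) q' = q := by
    intro q hq
    have hI : I ≤ q.asIdeal := by
      refine Ideal.map_le_iff_le_comap.mpr fun v hv => ?_
      show algebraMap V C v ∈ q.asIdeal
      rw [IsScalarTower.algebraMap_apply V R C]
      show algebraMap V R v ∈ q.asIdeal.under R
      rw [hq]
      show Ideal.Quotient.mk m (MvPolynomial.constantCoeff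
        (algebraMap V (MvPolynomial (Fin n) V) v)) = 0
      rw [MvPolynomial.algebraMap_eq, MvPolynomial.constantCoeff_C, Ideal.Quotient.eq_zero_iff_mem]
      exact hv
    obtain ⟨q', rfl⟩ : ∃ q', PrimeSpectrum.comap (Ideal.Quotient.mk I) q' = q := by
      rw [← Set.mem_range, range_comap_of_surjective _ _ Ideal.Quotient.mk_surjective,
        PrimeSpectrum.mem_zeroLocus, Ideal.mk_ker]
      exact hI
    refine ⟨q', ?_, rfl⟩
    refine Ideal.comap_injective_of_surjective mk0
      (MvPolynomial.map_surjective _ Ideal.Quotient.mk_surjective) ?_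
    rw [ht0, ← hq]
    ext r
    show g (mk0 r) ∈ q'.asIdeal ↔ Ideal.Quotient.mk I (φ r) ∈ q'.asIdeal
    rw [hφ]
  have hfib : (PrimeSpectrum.comap (algebraMap R C) ⁻¹' {⟨𝔭, h𝔭.isPrime⟩}).Finite := by
    have hfin : Module.Finite (MvPolynomial (Fin n) k) (C ⧸ I) := by
      have : Algebra.FiniteType (MvPolynomial (Fin n) k) (C ⧸ I) :=
        .of_restrictScalars_finiteType k _ _
      exact Algebra.IsIntegral.finite
    have h2 : (PrimeSpectrum.comap g.toRingHom ⁻¹' {⟨t, ht.isPrime⟩}).Finite :=
      Algebra.QuasiFinite.finite_comap_preimage_singleton (R := MvPolynomial (Fin n) k)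
        (S := C ⧸ I) ⟨t, ht.isPrime⟩
    refine (h2.image (PrimeSpectrum.comap (Ideal.Quotient.mk I))).subset ?_
    intro q hq
    obtain ⟨q', hq', rfl⟩ := hpre q (congrArg PrimeSpectrum.asIdeal hq)
    exact ⟨q', PrimeSpectrum.ext hq', rfl⟩
  have hmax : ∀ q : PrimeSpectrum C, q.asIdeal.under R = 𝔭 → q.asIdeal.IsMaximal := by
    intro q hq
    obtain ⟨q', hq', rfl⟩ := hpre q hq
    have : q'.asIdeal.IsMaximal :=
      Ideal.isMaximal_of_isIntegral_of_isMaximal_comap (R := MvPolynomial (Fin n) k) _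
        (hq'.symm ▸ ht : (q'.asIdeal.comap g.toRingHom).IsMaximal)
    exact Ideal.comap_isMaximal_of_surjective _ Ideal.Quotient.mk_surjective
  have hQF : Algebra.QuasiFiniteAt R P := by
    let P0 : PrimeSpectrum C := ⟨P, inferInstance⟩
    have e : PrimeSpectrum.comap (algebraMap R C) P0 = ⟨𝔭, h𝔭.isPrime⟩ := PrimeSpectrum.ext hPt
    have hfib' : (PrimeSpectrum.comap (algebraMap R C) ⁻¹'
        {PrimeSpectrum.comap (algebraMap R C) P0}).Finite := by rw [e]; exact hfib
    refine (Algebra.quasiFiniteAt_iff_isOpen_singleton_fiber P0).mpr ?_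
    have := hfib'.to_subtype
    have : T1Space (PrimeSpectrum.comap (algebraMap R C) ⁻¹'
        {PrimeSpectrum.comap (algebraMap R C) P0}) := by
      refine ⟨fun z => ?_⟩
      have hz : z.1.asIdeal.IsMaximal :=
        hmax z.1 ((congrArg PrimeSpectrum.asIdeal (z.2 : _ = _)).trans hPt)
      have : IsClosed ({z.1} : Set (PrimeSpectrum C)) :=
        (PrimeSpectrum.isClosed_singleton_iff_isMaximal _).mpr hz
      convert this.preimage continuous_subtype_val using 1
      ext w; simp [Subtype.ext_iff]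
    exact isOpen_discrete _
  obtain ⟨r, hrP, hr⟩ := Algebra.ZariskisMainProperty.of_finiteType_of_weaklyQuasiFiniteAt (R := R) P
  let C' := integralClosure R C
  let P1 : Ideal C' := P.comap C'.val.toRingHom
  have : IsIntegrallyClosed R := isIntegrallyClosed_mvPolynomial V n
  have : FaithfulSMul R C' := (faithfulSMul_iff_algebraMap_injective R C').mpr
    fun a b e => hφinj (congrArg Subtype.val e)
  let q0 : Ideal R := RingHom.ker (MvPolynomial.constantCoeff (R := V) (σ := Fin n))
  have : q0.IsPrime := RingHom.ker_isPrime _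
  have hle : q0 ≤ P1.under R := by
    have : P1.under R = P.under R := rfl
    rw [this, hPt]
    intro r hr
    simp [𝔭, aug, show MvPolynomial.constantCoeff r = 0 from hr]
  obtain ⟨Q0, hQ0, hQ0p, hQ0o⟩ := Ideal.exists_ideal_le_liesOver_of_le (S := C') P1 hle
  have hr0 : r ∉ Q0 := fun h => hrP (hQ0 h)
  -- extend to `C`
  let Cr := Localization.Away r.1
  let C'r := Localization.Away r
  let M := RingEquiv.ofBijective _ hr
  let Qr : Ideal Cr := (Q0.map (algebraMap C' C'r)).comap M.symm.toRingHom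
  have hQ0r : (Q0.map (algebraMap C' C'r)).IsPrime ∧
      (Q0.map (algebraMap C' C'r)).comap (algebraMap C' C'r) = Q0 :=
    have hd : Disjoint (Submonoid.powers r : Set C') Q0 := by
      rw [Set.disjoint_left]
      rintro _ ⟨i, rfl⟩ h
      exact hr0 (hQ0p.mem_of_pow_mem i h)
    ⟨IsLocalization.isPrime_of_isPrime_disjoint (Submonoid.powers r) C'r Q0 hQ0p hd,
      IsLocalization.comap_map_of_isPrime_disjoint (Submonoid.powers r) C'r hQ0p hd⟩
  have := hQ0r.1
  have : Qr.IsPrime := Ideal.comap_isPrime _ _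
  let Q : Ideal C := Qr.comap (algebraMap C Cr)
  have : Q.IsPrime := Ideal.comap_isPrime _ _
  have hQC' : Q.comap C'.val.toRingHom = Q0 := by
    refine Eq.trans ?_ hQ0r.2
    ext x
    simp only [Q, Qr, Ideal.mem_comap]
    have hMx : M (algebraMap C' C'r x) = algebraMap C Cr (C'.val.toRingHom x) := by
      show Localization.awayMap C'.val.toRingHom r (algebraMap C' C'r x) = _
      simp only [Localization.awayMap, IsLocalization.Away.map]
      exact IsLocalization.map_eq _ x
    rw [← hMx]
    exact Iff.of_eq (congrArg (· ∈ Q0.map (algebraMap C' C'r)) (M.symm_apply_apply _))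
  have hQR : Q.under R = q0 := by
    rw [hQ0o.over]
    show _ = Q0.under R
    rw [← hQC']
    rfl
  have hQP : Q ≤ P := by
    intro x hx
    -- clear denominators
    obtain ⟨b, i, hb⟩ := (Localization.awayMap_surjective_iff.mp hr.2) x
    have hmem : b ∈ Q0 := by
      rw [← hQC', Ideal.mem_comap, hb]
      exact Q.mul_mem_left _ hx
    have h1 : r.1 ^ i * x ∈ P := by
      have := hQ0 hmem
      rw [Ideal.mem_comap, hb] at this
      exact this
    rcases Ideal.IsPrime.mem_or_mem (I := P) inferInstance h1 with h | h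
    · exact absurd (Ideal.IsPrime.mem_of_pow_mem (I := P) inferInstance _ h) hrP
    · exact h
  refine ⟨Q, P, Ideal.comap_isPrime _ _, inferInstance, hQP, ?_, hPV, ?_⟩
  · ext v
    have e : algebraMap V R v ∈ Q.under R ↔ algebraMap V R v ∈ q0 := by rw [hQR]
    show algebraMap V C v ∈ Q ↔ v ∈ (⊥ : Ideal V)
    rw [IsScalarTower.algebraMap_apply V R C]
    refine e.trans ?_
    show MvPolynomial.constantCoeff (algebraMap V (MvPolynomial (Fin n) V) v) = 0 ↔ _
    rw [MvPolynomial.algebraMap_eq, MvPolynomial.constantCoeff_C, Ideal.mem_bot]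
  · intro x
    -- `x` is algebraic: some nonzero multiple is integral over `V`
    obtain ⟨x, rfl⟩ := Ideal.Quotient.mk_surjective x
    obtain ⟨b, i, hb⟩ := (Localization.awayMap_surjective_iff.mp hr.2) x
    have hV : ∀ z : C, IsIntegral R z → IsIntegral V (Ideal.Quotient.mk Q z) := by
      intro z ⟨p, hp, hpz⟩
      refine ⟨p.map MvPolynomial.constantCoeff, hp.map _, ?_⟩
      rw [Polynomial.eval₂_map]
      have : (algebraMap V (C ⧸ Q)).comp MvPolynomial.constantCoeff =
          (Ideal.Quotient.mk Q).comp (algebraMap R C) := by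
        refine RingHom.ext fun a => ?_
        have ha : a - MvPolynomial.C (MvPolynomial.constantCoeff a) ∈ Q.under R := by
          rw [hQR]
          show MvPolynomial.constantCoeff (a - MvPolynomial.C (MvPolynomial.constantCoeff a)) = 0
          rw [map_sub, MvPolynomial.constantCoeff_C, sub_self]
        have := Ideal.Quotient.eq.mpr (show algebraMap R C a -
          algebraMap R C (MvPolynomial.C (MvPolynomial.constantCoeff a)) ∈ Q from
            map_sub (algebraMap R C) _ _ ▸ ha)
        rw [RingHom.comp_apply, RingHom.comp_apply, this]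
        show Ideal.Quotient.mk Q (algebraMap V C _) = _
        rw [IsScalarTower.algebraMap_apply V R C]
        rfl
      rw [this, ← Polynomial.hom_eval₂, hpz, map_zero]
    have hr' : Ideal.Quotient.mk Q r.1 ≠ 0 := by
      rw [Ne, Ideal.Quotient.eq_zero_iff_mem]
      intro h
      have h' : r ∈ Q.comap C'.val.toRingHom := h
      rw [hQC'] at h'
      exact hr0 h'
    have h1 : IsIntegral V (Ideal.Quotient.mk Q r.1) := hV _ r.2
    have h2 : IsIntegral V (Ideal.Quotient.mk Q (r.1 ^ i * x)) := by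
      have hb' : (b : C) = r.1 ^ i * x := hb
      rw [← hb']
      exact hV _ b.2
    rw [map_mul, map_pow] at h2
    exact IsAlgebraic.of_mul (mem_nonZeroDivisors_of_ne_zero (pow_ne_zero i hr'))
      (h1.pow i).isAlgebraic h2.isAlgebraic

/-- A faithfully flat finite type algebra over a domain with punctured spectrum is not Jacobson. -/
theorem not_isJacobsonRing_of_punctured (A₁ B₁ : Type u) [CommRing A₁] [IsDomain A₁] [CommRing B₁]
    [Algebra A₁ B₁] [Module.FaithfullyFlat A₁ B₁] [Algebra.FiniteType A₁ B₁] (f₁ : A₁)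
    (hf0 : f₁ ≠ 0) (hprimes : ∀ a : Ideal A₁, a.IsPrime → a ≠ ⊥ → f₁ ∈ a) (m0 : Ideal A₁)
    [hm0 : m0.IsMaximal] (hfm0 : f₁ ∈ m0) : ¬ IsJacobsonRing B₁ := by
  let K := FractionRing A₁
  let L := Localization.AtPrime m0
  let ψ : L →+* K := IsLocalization.lift (M := m0.primeCompl) (g := algebraMap A₁ K) fun s => by
    refine isUnit_iff_ne_zero.mpr fun h => s.2 ?_
    rw [(injective_iff_map_eq_zero _).mp (IsFractionRing.injective A₁ K) _ h]
    exact zero_mem _
  obtain ⟨V, hV⟩ := LocalSubring.exists_le_valuationSubring (LocalSubring.range ψ)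
  let ψV : L →+* V := ψ.codRestrict V.toSubring fun x => hV.1 ⟨x, rfl⟩
  let ιV : A₁ →+* V := ψV.comp (algebraMap A₁ L)
  algebraize [ιV]
  have : IsScalarTower A₁ V K := IsScalarTower.of_algebraMap_eq fun a => by
    show algebraMap A₁ K a = ψ (algebraMap A₁ L a)
    simp [ψ]
  have hιinj : Function.Injective (algebraMap A₁ V) := fun a b e => by
    apply IsFractionRing.injective A₁ K
    rw [IsScalarTower.algebraMap_apply A₁ V K, IsScalarTower.algebraMap_apply A₁ V K, e]
  have hloc : IsLocalHom ψV := by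
    refine ⟨fun x hx => ?_⟩
    obtain ⟨hle, hl⟩ := hV
    have h1 := hl.map_nonunit ⟨ψ x, ⟨x, rfl⟩⟩ hx
    obtain ⟨⟨_, y, rfl⟩, hy⟩ := h1.exists_right_inv
    have hy' : ψ x * ψ y = 1 := congrArg Subtype.val hy
    have hinj : Function.Injective ψ := by
      refine (IsLocalization.lift_injective_iff (M := m0.primeCompl) _).mpr fun a b => ?_
      have hinjL : Function.Injective (algebraMap A₁ L) :=
        IsLocalization.injective L m0.primeCompl_le_nonZeroDivisors
      exact ⟨fun e => congrArg _ (hinjL e), fun e => congrArg _ (IsFractionRing.injective A₁ K e)⟩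
    exact IsUnit.of_mul_eq_one y (hinj (by rw [map_mul, hy', map_one]))
  have hfm : algebraMap A₁ V f₁ ∈ IsLocalRing.maximalIdeal V := by
    intro hu
    exact (IsLocalization.AtPrime.isUnit_to_map_iff L m0 f₁).mp (hloc.map_nonunit _ hu) hfm0
  -- the base change
  let BV := V ⊗[A₁] B₁
  obtain ⟨P1, hP1⟩ := PrimeSpectrum.comap_surjective_of_faithfullyFlat (A := V) (B := BV)
    (IsLocalRing.closedPoint V)
  have : P1.asIdeal.LiesOver (IsLocalRing.maximalIdeal V) :=
    ⟨(congrArg PrimeSpectrum.asIdeal hP1).symm⟩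
  obtain ⟨Q', hQ', hQ'p, hQ'o⟩ := Ideal.exists_ideal_le_liesOver_of_le (R := V) (S := BV)
    (p := (⊥ : Ideal V)) (q := IsLocalRing.maximalIdeal V) P1.asIdeal bot_le
  let C := BV ⧸ Q'
  have hinjC : Function.Injective (algebraMap V C) := by
    refine (injective_iff_map_eq_zero _).mpr fun v hv => ?_
    have : v ∈ Q'.under V := Ideal.mem_comap.mpr <| Ideal.Quotient.eq_zero_iff_mem.mp
      (show Ideal.Quotient.mk Q' (algebraMap V BV v) = 0 from hv)
    rwa [← hQ'o.over, Ideal.mem_bot] at this
  have hmC : (IsLocalRing.maximalIdeal V).map (algebraMap V C) ≠ ⊤ := by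
    intro h
    have h1 : (IsLocalRing.maximalIdeal V).map (algebraMap V C) ≤
        P1.asIdeal.map (Ideal.Quotient.mk Q') := by
      refine Ideal.map_le_iff_le_comap.mpr fun v hv => ?_
      refine Ideal.mem_map_of_mem _ ?_
      show v ∈ P1.asIdeal.under V
      rwa [← Ideal.over_def P1.asIdeal (IsLocalRing.maximalIdeal V)]
    rw [h, top_le_iff] at h1
    exact (Ideal.map_isPrime_of_surjective Ideal.Quotient.mk_surjective
      (by rw [Ideal.mk_ker]; exact hQ')).ne_top h1
  obtain ⟨Q, P, hQp, hPp, hQP, hQV, hPV, halg⟩ := exists_prime_over_bot V C hinjC hmC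
  let χ : B₁ →+* C :=
    (Ideal.Quotient.mk Q').comp (Algebra.TensorProduct.includeRight : B₁ →ₐ[A₁] BV).toRingHom
  have hχ : ∀ a : A₁, χ (algebraMap A₁ B₁ a) = algebraMap V C (algebraMap A₁ V a) := fun a => by
    show Ideal.Quotient.mk Q' (Algebra.TensorProduct.includeRight (algebraMap A₁ B₁ a)) =
      Ideal.Quotient.mk Q' (algebraMap V BV (algebraMap A₁ V a))
    rw [AlgHom.commutes, ← IsScalarTower.algebraMap_apply A₁ V BV]
  let qB := Q.comap χ
  let PB := P.comap χ
  have hfqB : algebraMap A₁ B₁ f₁ ∉ qB := fun h => by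
    rw [Ideal.mem_comap, hχ] at h
    have h2 : algebraMap A₁ V f₁ ∈ Q.under V := h
    rw [hQV, Ideal.mem_bot] at h2
    exact hf0 (hιinj (by rw [h2, map_zero]))
  have hfPB : algebraMap A₁ B₁ f₁ ∈ PB := by
    rw [Ideal.mem_comap, hχ]
    show algebraMap A₁ V f₁ ∈ P.under V
    rw [hPV]; exact hfm
  -- every strictly larger prime contains `f`
  have hbig : ∀ q2 : Ideal B₁, q2.IsPrime → qB < q2 → algebraMap A₁ B₁ f₁ ∈ q2 := by
    intro q2 hq2 hlt
    obtain ⟨x, hx2, hx⟩ := SetLike.exists_of_lt hlt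
    by_contra hfq2
    let η : B₁ ⧸ qB →+* C ⧸ Q := Ideal.quotientMap Q χ le_rfl
    have hηinj : Function.Injective η := Ideal.quotientMap_injective
    have halgV : Algebra.IsAlgebraic A₁ V := ⟨fun v => by
      have h1 : IsAlgebraic A₁ (algebraMap V K v) :=
        (IsFractionRing.isAlgebraic_iff A₁ K K).mpr (isAlgebraic_algebraMap (algebraMap V K v))
      obtain ⟨g, hg, hgv⟩ := h1
      refine ⟨g, hg, IsFractionRing.injective V K ?_⟩
      rw [map_zero, ← hgv, Polynomial.aeval_algebraMap_apply]⟩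
    have hcomm : ∀ a : A₁, η (algebraMap A₁ (B₁ ⧸ qB) a) = algebraMap A₁ (C ⧸ Q) a := by
      intro a
      show Ideal.Quotient.mk Q (χ (algebraMap A₁ B₁ a)) =
        Ideal.Quotient.mk Q (algebraMap A₁ C a)
      rw [hχ, ← IsScalarTower.algebraMap_apply A₁ V C]
    let ηA : B₁ ⧸ qB →ₐ[A₁] C ⧸ Q := { η with commutes' := hcomm }
    have h1 : IsAlgebraic A₁ (ηA (Ideal.Quotient.mk qB x)) :=
      IsAlgebraic.restrictScalars A₁ (halg _)
    have h2 : IsAlgebraic A₁ (Ideal.Quotient.mk qB x) :=
      (isAlgebraic_algHom_iff ηA hηinj).mp h1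
    have hx0 : Ideal.Quotient.mk qB x ≠ 0 := fun h => hx (Ideal.Quotient.eq_zero_iff_mem.mp h)
    have : IsDomain (B₁ ⧸ qB) := Ideal.Quotient.isDomain qB
    obtain ⟨a, ha, d, hd⟩ := h2.exists_nonzero_dvd (mem_nonZeroDivisors_of_ne_zero hx0)
    obtain ⟨d, rfl⟩ := Ideal.Quotient.mk_surjective d
    have h3 : algebraMap A₁ B₁ a - x * d ∈ qB := by
      rw [← Ideal.Quotient.eq]
      exact hd.trans (map_mul _ _ _).symm
    have h4 : algebraMap A₁ B₁ a ∈ q2 := by
      have := Ideal.add_mem _ (hlt.le h3) (q2.mul_mem_right d hx2)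
      rwa [sub_add_cancel] at this
    exact hfq2 (hprimes (q2.comap (algebraMap A₁ B₁)) (Ideal.comap_isPrime _ _) fun e => ha (by
      have : a ∈ q2.comap (algebraMap A₁ B₁) := h4
      rwa [e, Ideal.mem_bot] at this))
  intro hB
  have hjac : qB.jacobson = qB :=
    hB.out' _ (Ideal.IsPrime.isRadical (Ideal.comap_isPrime χ Q))
  apply hfqB
  rw [← hjac]
  refine Submodule.mem_sInf.mpr fun M ⟨hM, hMmax⟩ => ?_
  rcases eq_or_lt_of_le hM with e | e
  · have : qB = PB := (e ▸ hMmax).eq_of_le (Ideal.comap_isPrime χ P).ne_top (Ideal.comap_mono hQP)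
    exact absurd (this ▸ hfPB) hfqB
  · exact hbig M hMmax.isPrime e


/-- The Jacobson property descends along faithfully flat algebras of finite presentation. -/
theorem isJacobsonRing_of_faithfullyFlat (A B : Type u) [CommRing A] [CommRing B] [Algebra A B]
    [Module.FaithfullyFlat A B] [Algebra.FiniteType A B] [IsJacobsonRing B] : IsJacobsonRing A := by
  classical
  rw [isJacobsonRing_iff_prime_eq]
  intro p hp
  by_contra hne
  obtain ⟨f, hf, hfp⟩ := SetLike.exists_of_lt (lt_of_le_of_ne Ideal.le_jacobson (Ne.symm hne))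
  let 𝒮 : Set (Ideal A) := {J : Ideal A | Disjoint (J : Set A) (Submonoid.powers f)}
  have hp𝒮 : p ∈ 𝒮 := Set.disjoint_left.mpr (by
    intro x hx hx'
    obtain ⟨i, rfl⟩ := hx'
    exact hfp (hp.mem_of_pow_mem i hx))
  obtain ⟨q, hqP, hqM⟩ := zorn_le_nonempty₀ 𝒮 (fun c hc hc' J₀ hJ₀ => by
    refine ⟨sSup c, Set.disjoint_left.mpr fun x hx => ?_, fun _ => le_sSup⟩
    have hdir : DirectedOn (· ≤ ·) c := hc'.directedOn
    obtain ⟨J, hJc, hxJ⟩ := (Submodule.mem_sSup_of_directed ⟨J₀, hJ₀⟩ hdir).mp hx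
    exact Set.disjoint_left.mp (hc hJc) hxJ) p hp𝒮
  have hqdisj : Disjoint (q : Set A) (Submonoid.powers f) := hqM.1
  have hqmax : ∀ J : Ideal A, q < J → ¬ Disjoint (J : Set A) (Submonoid.powers f) :=
    fun J hJ hd => hqM.not_prop_of_gt hJ hd
  have hq : q.IsPrime := Ideal.isPrime_of_maximally_disjoint q (Submonoid.powers f) hqdisj hqmax
  have hfq : f ∉ q := fun h => Set.disjoint_left.mp hqdisj h (Submonoid.mem_powers f)
  let A' := A ⧸ q
  let f' : A' := Ideal.Quotient.mk q f
  have hf0 : f' ≠ 0 := fun h => hfq (Ideal.Quotient.eq_zero_iff_mem.mp h)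
  have hprimes : ∀ a : Ideal A', a.IsPrime → a ≠ ⊥ → f' ∈ a := by
    intro a ha hane
    by_contra hfa
    obtain ⟨y, hy, hy0⟩ := Submodule.exists_mem_ne_zero_of_ne_bot hane
    obtain ⟨x, rfl⟩ := Ideal.Quotient.mk_surjective y
    have hd : Disjoint (a.comap (Ideal.Quotient.mk q) : Set A) (Submonoid.powers f) := by
      refine Set.disjoint_left.mpr ?_
      intro z hz hz'
      obtain ⟨i, rfl⟩ := hz'
      have hz2 : Ideal.Quotient.mk q (f ^ i) ∈ a := hz
      rw [map_pow] at hz2
      exact hfa (ha.mem_of_pow_mem i hz2)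
    refine hqmax _ (lt_of_le_of_ne (fun z hz => ?_) fun e => hy0 ?_) hd
    · show Ideal.Quotient.mk q z ∈ a
      rw [Ideal.Quotient.eq_zero_iff_mem.mpr hz]
      exact zero_mem _
    · exact Ideal.Quotient.eq_zero_iff_mem.mpr (e ▸ hy)
  let B' := A' ⊗[A] B
  have : IsJacobsonRing B' := isJacobsonRing_of_surjective
    ⟨(Algebra.TensorProduct.includeRight : B →ₐ[A] B').toRingHom, fun z => by
      induction z using TensorProduct.induction_on with
      | zero => exact ⟨0, map_zero _⟩
      | tmul a b =>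
        obtain ⟨a, rfl⟩ := Ideal.Quotient.mk_surjective a
        refine ⟨a • b, ?_⟩
        show (1 : A') ⊗ₜ[A] (a • b) = Ideal.Quotient.mk q a ⊗ₜ[A] b
        rw [← TensorProduct.smul_tmul, ← Ideal.Quotient.algebraMap_eq,
          ← Algebra.algebraMap_eq_smul_one]
      | add x y hx hy =>
        obtain ⟨a, ha⟩ := hx
        obtain ⟨b, hb⟩ := hy
        exact ⟨a + b, by rw [map_add, ha, hb]⟩⟩
  obtain ⟨m0, hm0⟩ := Ideal.exists_maximal A'
  have hf' : f' ∈ m0 := by
    have hcm : (m0.comap (Ideal.Quotient.mk q)).IsMaximal :=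
      Ideal.comap_isMaximal_of_surjective _ Ideal.Quotient.mk_surjective
    refine (Submodule.mem_sInf.mp hf _ ⟨fun x hx => ?_, hcm⟩ : _)
    show Ideal.Quotient.mk q x ∈ m0
    rw [Ideal.Quotient.eq_zero_iff_mem.mpr (hqP hx)]
    exact zero_mem _
  exact not_isJacobsonRing_of_punctured A' B' f' hf0 hprimes m0 hf' inferInstance

end Groth.Agent.Desc59.Jac
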