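import Mathlib.AlgebraicGeometry.Morphisms.FlatDescent
import Mathlib.AlgebraicGeometry.Morphisms.Etale
import Mathlib.AlgebraicGeometry.Sites.Fpqc

universe u
open CategoryTheory Limits MorphismProperty AlgebraicGeometry

namespace Groth.Agent.Desc59.LargestOpen

section largest

variable (Q P : MorphismProperty Scheme.{u})

lemma singleton_mem_precoverage {X Y : Scheme.{u}} (g : X ⟶ Y) (hg : Q g) [Surjective g] :
    Presieve.singleton g ∈ Scheme.precoverage Q Y := by
  rw [← Presieve.ofArrows_pUnit.{0}]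
  exact (g.cover hg).mem₀

variable [Q.IsStableUnderComposition] [Q.IsStableUnderBaseChange]
  (hoi : ∀ {X Y : Scheme.{u}} (f : X ⟶ Y), IsOpenImmersion f → Q f)
  (hopen : ∀ {X Y : Scheme.{u}} (f : X ⟶ Y), Q f → IsOpenMap f)

include hoi in
lemma isZariskiLocalAtTarget_of_precoverage [P.IsLocalAtTarget (Scheme.precoverage Q)] :
    IsZariskiLocalAtTarget P :=
  IsLocalAtTarget.of_le (L := Scheme.precoverage Q)
    (Scheme.precoverage_mono fun _ _ f hf => hoi f hf)

include hoi in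
lemma isZariskiLocalAtSource_of_precoverage [P.IsLocalAtSource (Scheme.precoverage Q)] :
    IsZariskiLocalAtSource P :=
  IsLocalAtSource.of_le (L := Scheme.precoverage Q)
    (Scheme.precoverage_mono fun _ _ f hf => hoi f hf)

include hoi hopen in
theorem exists_largest_source [P.IsLocalAtSource (Scheme.precoverage Q)] {X Y : Scheme.{u}} (f : X ⟶ Y) :
    ∃ W : X.Opens, (P (W.ι ≫ f) ∧ ∀ W' : X.Opens, P (W'.ι ≫ f) → W' ≤ W) ∧
      ∀ (X' : Scheme.{u}) (g : X' ⟶ X), Q g → ∀ (V : X'.Opens),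
        (P (V.ι ≫ g ≫ f) ∧ ∀ V' : X'.Opens, P (V'.ι ≫ g ≫ f) → V' ≤ V) → V = g ⁻¹ᵁ W := by
  have := isZariskiLocalAtSource_of_precoverage Q P hoi
  have : Q.ContainsIdentities := ⟨fun _ => hoi _ inferInstance⟩
  let W : X.Opens := ⨆ U : {U : X.Opens // P (U.ι ≫ f)}, U.1
  have hle : ∀ W' : X.Opens, P (W'.ι ≫ f) → W' ≤ W := fun W' h =>
    le_iSup (fun U : {U : X.Opens // P (U.ι ≫ f)} => U.1) ⟨W', h⟩
  have hW : P (W.ι ≫ f) := by
    refine IsZariskiLocalAtSource.of_iSup_eq_top (P := P)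
      (fun U : {U : X.Opens // P (U.ι ≫ f)} => W.ι ⁻¹ᵁ U.1) ?_ fun U => ?_
    · rw [← Scheme.Hom.preimage_iSup]
      exact W.ι_preimage_self
    · rw [← morphismRestrict_ι_assoc]
      exact IsZariskiLocalAtSource.comp U.2 _
  refine ⟨W, ⟨hW, hle⟩, fun X' g hg V ⟨hV, hVmax⟩ => le_antisymm ?_ (hVmax _ ?_)⟩
  · let g' := V.ι ≫ g
    have hg' : Q g' := Q.comp_mem _ _ (hoi _ inferInstance) hg
    let U : X.Opens := ⟨Set.range g', (hopen g' hg').isOpen_range⟩
    have hQ' : Q (g' ∣_ U) := MorphismProperty.of_isPullback (isPullback_morphismRestrict g' U).flip hg'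
    have : Surjective (g' ∣_ U) := ⟨by
      rintro ⟨x, y, hy⟩
      exact ⟨⟨y, Set.mem_range_self y⟩, Subtype.ext ((morphismRestrict_base_coe g' U _).trans hy)⟩⟩
    have h1 : P ((g' ∣_ U) ≫ U.ι ≫ f) := by
      rw [morphismRestrict_ι_assoc]
      refine IsZariskiLocalAtSource.comp (P := P) ?_ _
      rw [Category.assoc]
      exact hV
    have hU : P (U.ι ≫ f) := IsLocalAtSource.of_forall_comp
      (singleton_mem_precoverage Q (g' ∣_ U) hQ') (by rintro _ _ ⟨⟩; exact h1)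
    intro v hv
    exact hle U hU ⟨⟨v, hv⟩, rfl⟩
  · rw [← morphismRestrict_ι_assoc]
    refine IsLocalAtSource.comp (P := P) (K := Scheme.precoverage Q)
      ((Scheme.coverOfIsIso.{u} (P := Q) (𝟙 W.toScheme)).add (g ∣_ W) ?_).mem₀ _ ⟨none⟩ hW
    exact MorphismProperty.of_isPullback (isPullback_morphismRestrict g W).flip hg

include hoi hopen in
theorem exists_largest_target [P.IsLocalAtTarget (Scheme.precoverage Q)] {X Y : Scheme.{u}} (f : X ⟶ Y) :
    ∃ W : Y.Opens, P (f ∣_ W) ∧ (∀ W₀ : Y.Opens, P (f ∣_ W₀) → W₀ ≤ W) ∧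
      (∀ (Y' : Scheme.{u}) (g : Y' ⟶ Y), Q g →
        P (pullback.snd f g) → Set.range g.base ⊆ (W : Set Y)) ∧
      (∀ (Y' : Scheme.{u}) (g : Y' ⟶ Y), Q g →
        ∀ W' : Y'.Opens, P (pullback.snd f g ∣_ W') → (∀ W₀ : Y'.Opens, P (pullback.snd f g ∣_ W₀) → W₀ ≤ W') →
          W' = g ⁻¹ᵁ W) := by
  have := isZariskiLocalAtTarget_of_precoverage Q P hoi
  have : Q.ContainsIdentities := ⟨fun _ => hoi _ inferInstance⟩
  let W : Y.Opens := ⨆ U : {U : Y.Opens // P (f ∣_ U)}, U.1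
  have hle : ∀ W' : Y.Opens, P (f ∣_ W') → W' ≤ W := fun W' h =>
    le_iSup (fun U : {U : Y.Opens // P (f ∣_ U)} => U.1) ⟨W', h⟩
  have hW : P (f ∣_ W) := by
    refine IsZariskiLocalAtTarget.of_iSup_eq_top (P := P)
      (fun U : {U : Y.Opens // P (f ∣_ U)} => W.ι ⁻¹ᵁ U.1) ?_ fun U => ?_
    · rw [← Scheme.Hom.preimage_iSup]
      exact W.ι_preimage_self
    · refine (P.arrow_mk_iso_iff (morphismRestrictRestrict f W (W.ι ⁻¹ᵁ U.1) ≪≫
        morphismRestrictEq f ?_)).mpr U.2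
      rw [Scheme.Hom.image_preimage_eq_opensRange_inf, Scheme.Opens.opensRange_ι, inf_eq_right]
      exact hle _ U.2
  have h3 : ∀ (Y' : Scheme.{u}) (g : Y' ⟶ Y), Q g →
      P (pullback.snd f g) → Set.range g.base ⊆ (W : Set Y) := by
    intro Y' g hg hP
    let U : Y.Opens := ⟨Set.range g, (hopen g hg).isOpen_range⟩
    let l : Y' ⟶ U := IsOpenImmersion.lift U.ι g (by simp [U])
    have hl : l ≫ U.ι = g := IsOpenImmersion.lift_fac _ _ _
    have hsq : IsPullback (𝟙 Y') l g U.ι :=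
      ⟨⟨by rw [Category.id_comp, hl]⟩, ⟨PullbackCone.isLimitAux' _ fun s => ⟨s.fst, Category.comp_id _,
        (cancel_mono U.ι).1 ((Category.assoc s.fst l U.ι).trans ((congrArg (s.fst ≫ ·) hl).trans s.condition)),
        fun h _ => (Category.comp_id _).symm.trans h⟩⟩⟩
    have hQl : Q l := MorphismProperty.of_isPullback hsq hg
    have : Surjective l := ⟨by
      rintro ⟨x, y, rfl⟩
      exact ⟨y, Subtype.ext ((Scheme.Hom.comp_apply l U.ι y).symm.trans (by rw [hl]))⟩⟩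
    have hout : IsPullback (pullback.fst f g) (pullback.snd f g) f (l ≫ U.ι) := by
      rw [hl]; exact .of_hasPullback f g
    have hsq' := IsPullback.of_right' hout (isPullback_morphismRestrict f U).flip
    have hP' : P (pullback.snd (f ∣_ U) l) :=
      (P.cancel_left_of_respectsIso hsq'.isoPullback.hom _).mp
        (by rw [hsq'.isoPullback_hom_snd]; exact hP)
    have hU : P (f ∣_ U) := IsLocalAtTarget.of_forall_pullbackSnd
      (singleton_mem_precoverage Q l hQl) (by rintro _ _ _ ⟨⟩; exact hP')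
    exact hle U hU
  refine ⟨W, hW, hle, h3, fun Y' g hg W' hW' hmax => le_antisymm ?_ (hmax _ ?_)⟩
  · intro y hy
    have hsq : IsPullback ((pullback.snd f g ⁻¹ᵁ W').ι ≫ pullback.fst f g) (pullback.snd f g ∣_ W')
        f (W'.ι ≫ g) :=
      (isPullback_morphismRestrict _ W').flip.paste_horiz (.of_hasPullback f g)
    have hP : P (pullback.snd f (W'.ι ≫ g)) :=
      (P.cancel_left_of_respectsIso hsq.isoPullback.hom _).mp
        (by rw [hsq.isoPullback_hom_snd]; exact hW')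
    exact h3 _ _ (Q.comp_mem _ _ (hoi _ inferInstance) hg) hP ⟨⟨y, hy⟩, rfl⟩
  · have hgW : Q (g ∣_ W) := MorphismProperty.of_isPullback (isPullback_morphismRestrict g W).flip hg
    let 𝒱 := (Scheme.coverOfIsIso.{u} (P := Q) (𝟙 W.toScheme)).add (g ∣_ W) hgW
    have hout : IsPullback ((pullback.snd f g ⁻¹ᵁ (g ⁻¹ᵁ W)).ι ≫ pullback.fst f g)
        (pullback.snd f g ∣_ g ⁻¹ᵁ W) f ((g ∣_ W) ≫ W.ι) := by
      rw [morphismRestrict_ι]
      exact (isPullback_morphismRestrict _ _).flip.paste_horiz (.of_hasPullback f g)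
    have hsq' := IsPullback.of_right' hout (isPullback_morphismRestrict f W).flip
    rw [← hsq'.isoPullback_hom_snd, P.cancel_left_of_respectsIso]
    exact IsLocalAtTarget.pullbackSnd (P := P) (K := Scheme.precoverage Q) 𝒱.mem₀ ⟨none⟩ hW

end largest

end Groth.Agent.Desc59.LargestOpen
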