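import Groth.Agent.Desc59.QSheaf
import Groth.Prelude.Def_Desc

/-!
The comparison isomorphisms of `Desc.modPF` are those of inverse images of modules.
-/

set_option autoImplicit false
set_option backward.isDefEq.respectTransparency false
set_option backward.isDefEq.respectTransparency.types false
set_option backward.defeqAttrib.useBackward true

universe u

open CategoryTheory AlgebraicGeometry Opposite

namespace Groth.Agent.Desc59.ModPFBridge

variable {X Y Z : Scheme.{u}} (f : Y ⟶ X) (a : Z ⟶ Y) {h : Z ⟶ X} (e : a ≫ f = h) (M : X.Modules)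

theorem mapComp'_inv_app :
    (Desc.modPF.{u}.mapComp' f.op.toLoc a.op.toLoc h.op.toLoc
      (by rw [← Quiver.Hom.comp_toLoc, ← op_comp, e])).inv.toNatTrans.app M =
    (LimTop61.pullbackCompIso f a e).hom.app M := by
  subst e
  show (Desc.modPF.{u}.mapComp' f.op.toLoc a.op.toLoc (f.op.toLoc ≫ a.op.toLoc) rfl).inv.toNatTrans.app M = _
  rw [Pseudofunctor.mapComp'_eq_mapComp]
  simp [Desc.modPF, LimTop61.pullbackCompIso, Scheme.Modules.pullbackCongr]

theorem mapComp'_hom_app :
    (Desc.modPF.{u}.mapComp' f.op.toLoc a.op.toLoc h.op.toLoc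
      (by rw [← Quiver.Hom.comp_toLoc, ← op_comp, e])).hom.toNatTrans.app M =
    (LimTop61.pullbackCompIso f a e).inv.app M := by
  subst e
  show (Desc.modPF.{u}.mapComp' f.op.toLoc a.op.toLoc (f.op.toLoc ≫ a.op.toLoc) rfl).hom.toNatTrans.app M = _
  rw [Pseudofunctor.mapComp'_eq_mapComp]
  simp [Desc.modPF, LimTop61.pullbackCompIso, Scheme.Modules.pullbackCongr]

end Groth.Agent.Desc59.ModPFBridge
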