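import Groth.Agent.Desc59.UnivInjFF
import Groth.Agent.FlatMor67.LCIDescent
import Mathlib.LinearAlgebra.TensorProduct.Pi

/-!
Descent of elements of a module along a finite jointly surjective family of flat algebras.
-/

set_option autoImplicit false

noncomputable section

universe u

open TensorProduct

namespace Groth.Agent.Desc59.SecAlg

variable {A : Type u} [CommRing A] {ι : Type} [Fintype ι]
  {B : ι → Type u} [∀ i, CommRing (B i)] [∀ i, Algebra A (B i)] [∀ i, Module.Flat A (B i)]
  (hsurj : ∀ p : PrimeSpectrum A, ∃ i q, PrimeSpectrum.comap (algebraMap A (B i)) q = p)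
  (M : Type u) [AddCommGroup M] [Module A M]

omit [∀ i, Module.Flat A (B i)] in
theorem piLeft_injective [DecidableEq ι] {P : Type u} [AddCommGroup P] [Module A P]
    (x y : (∀ i, B i) ⊗[A] P)
    (h : ∀ i, (LinearMap.proj (R := A) (φ := B) i).rTensor P x = (LinearMap.proj (R := A) (φ := B) i).rTensor P y) :
    x = y := by
  have hx : ∀ z : (∀ i, B i) ⊗[A] P, z = ∑ i, (LinearMap.single A B i).rTensor P
      ((LinearMap.proj (R := A) (φ := B) i).rTensor P z) := by
    intro z
    induction z with
    | zero => simp
    | add a b ha hb => simp only [map_add, Finset.sum_add_distrib, ← ha, ← hb]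
    | tmul b m =>
      simp only [LinearMap.rTensor_tmul, LinearMap.proj_apply, LinearMap.coe_single, ← TensorProduct.sum_tmul,
        Finset.univ_sum_single]
  rw [hx x, hx y]
  simp only [h]

include hsurj in
/-- Compatible elements of the `B i ⊗ M` come from `M`. -/
theorem exists_descend (z : ∀ i, B i ⊗[A] M)
    (h : ∀ i j, (TensorProduct.mk A (B j) M 1).lTensor (B i) (z i) = (1 : B i) ⊗ₜ[A] z j) :
    ∃ m, ∀ i, z i = (1 : B i) ⊗ₜ[A] m := by
  classical
  have := FlatMor67.faithfullyFlat_pi hsurj
  let S := ∀ i, B i
  have hs := dualSplit_of_faithfullyFlat A S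
  let π : ∀ i, S →ₗ[A] B i := fun i => LinearMap.proj (R := A) (φ := B) i
  let z' : S ⊗[A] M := ∑ i, (LinearMap.single A B i).rTensor M (z i)
  have hz' : ∀ i, (π i).rTensor M z' = z i := fun i => by
    rw [map_sum, Finset.sum_eq_single i]
    · rw [← LinearMap.rTensor_comp_apply, show π i ∘ₗ LinearMap.single A B i = LinearMap.id from by ext b; exact Pi.single_eq_same i b,
        LinearMap.rTensor_id_apply]
    · intro j _ hj
      rw [← LinearMap.rTensor_comp_apply, show π i ∘ₗ LinearMap.single A B j = 0 from by
        ext b; exact Pi.single_eq_of_ne (Ne.symm hj) b, LinearMap.rTensor_zero, LinearMap.zero_apply]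
    · simp
  obtain ⟨m, hm⟩ := mem_range_tmul_one hs M z' (by
    refine piLeft_injective _ _ fun i => ?_
    have hl : ∀ w : S ⊗[A] (S ⊗[A] M), ∀ j, ((π j).rTensor M).lTensor (B i) ((π i).rTensor (S ⊗[A] M) w) =
        TensorProduct.map (π i) ((π j).rTensor M) w := fun w j => by
      induction w with
      | zero => simp
      | add a b ha hb => simp only [map_add, ha, hb]
      | tmul a b => simp
    -- compare after projecting the second factor
    have key : ∀ (u v : B i ⊗[A] (S ⊗[A] M)),
        (∀ j, ((π j).rTensor M).lTensor (B i) u = ((π j).rTensor M).lTensor (B i) v) → u = v := by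
      intro u v huv
      have e : ∀ w : B i ⊗[A] (S ⊗[A] M), w = ∑ j, ((LinearMap.single A B j).rTensor M).lTensor (B i)
          (((π j).rTensor M).lTensor (B i) w) := by
        intro w
        induction w with
        | zero => simp
        | add a b ha hb => simp only [map_add, Finset.sum_add_distrib, ← ha, ← hb]
        | tmul b s =>
          simp only [LinearMap.lTensor_tmul, ← TensorProduct.tmul_sum]
          congr 1
          induction s with
          | zero => simp
          | add a b ha hb => simp only [map_add, Finset.sum_add_distrib, ← ha, ← hb]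
          | tmul s m =>
            simp [π, ← TensorProduct.sum_tmul, Finset.univ_sum_single]
            rfl
      rw [e u, e v]
      simp only [huv]
    refine key _ _ fun j => ?_
    rw [hl, hl, TensorProduct.map_tmul, hz' j]
    have h2 : ∀ w : S ⊗[A] M, TensorProduct.map (π i) ((π j).rTensor M) (LinearMap.lTensor S (TensorProduct.mk A S M 1) w) =
        (TensorProduct.mk A (B j) M 1).lTensor (B i) ((π i).rTensor M w) := fun w => by
      induction w with
      | zero => simp
      | add a b ha hb => simp only [map_add, ha, hb]
      | tmul s m =>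
        simp [π]
        rfl
    rw [h2, hz' i, h i j]
    rfl)
  refine ⟨m, fun i => ?_⟩
  rw [← hz' i, ← hm]
  rfl

end Groth.Agent.Desc59.SecAlg
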