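import Groth.Agent.Desc59.SecAlg
import Groth.Agent.LimTop61.PullSec
import Groth.Agent.LimTop61.PullBC
import Groth.Agent.Desc59.AmpleDesc
import Mathlib.AlgebraicGeometry.Morphisms.Flat

/-!
Sections of quasi-coherent modules satisfy descent along jointly surjective flat families.
-/

set_option autoImplicit false
set_option backward.isDefEq.respectTransparency false
set_option backward.isDefEq.respectTransparency.types false
set_option linter.style.haveILetI false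

noncomputable section

universe u

open CategoryTheory Limits AlgebraicGeometry TopologicalSpace Opposite TensorProduct
open Groth.Agent.QC70 Groth.Agent.QCPull72 Groth.Agent.LimTop61

namespace Groth.Agent.Desc59.QSheaf

variable {X Y Z : Scheme.{u}} {f : Y ⟶ X} {a : Z ⟶ Y} {h : Z ⟶ X} (e : a ≫ f = h) (G : X.Modules)

/-- transition of sections of inverse images -/
def tr {V : Y.Opens} {W : Z.Opens} (hW : W ≤ a ⁻¹ᵁ V) :
    Γ((Scheme.Modules.pullback f).obj G, V) →+ Γ((Scheme.Modules.pullback h).obj G, W) :=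
  AddMonoidHom.mk' (fun y => ((pullbackCompIso f a e).hom.app G).app W
      (unitSec a ((Scheme.Modules.pullback f).obj G) hW y))
    fun y y' => by
      refine (congrArg _ (unitSec_add a ((Scheme.Modules.pullback f).obj G) hW y y')).trans ?_
      exact map_add _ _ _

theorem tr_smul {V : Y.Opens} {W : Z.Opens} (hW : W ≤ a ⁻¹ᵁ V) (r : Γ(Y, V))
    (y : Γ((Scheme.Modules.pullback f).obj G, V)) :
    tr e G hW (r • y) = a.appLE V W hW r • tr e G hW y :=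
  (congrArg (((pullbackCompIso f a e).hom.app G).app W) (unitSec_smul a ((Scheme.Modules.pullback f).obj G) hW r y)).trans
    (Scheme.Modules.Hom.app_smul _ _ _)

theorem tr_res {V V' : Y.Opens} {W W' : Z.Opens} (hW : W ≤ a ⁻¹ᵁ V) (hW' : W' ≤ a ⁻¹ᵁ V') (hV : V' ≤ V)
    (hWW : W' ≤ W) (y : Γ((Scheme.Modules.pullback f).obj G, V)) :
    tr e G hW' (res ((Scheme.Modules.pullback f).obj G) hV y) =
      res ((Scheme.Modules.pullback h).obj G) hWW (tr e G hW y) :=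
  (congrArg (((pullbackCompIso f a e).hom.app G).app W') (unitSec_res a ((Scheme.Modules.pullback f).obj G) hW hW' hV hWW y)).trans
    (app_res _ hWW _)

theorem trSec_eq (U : X.Opens) (y : Γ(PushPull f G, U)) :
    trSec f a e G U y = tr e G (preimage_comp_le f a e U) y := rfl

theorem tr_unitSec {U : X.Opens} {V : Y.Opens} {W : Z.Opens} (hV : V ≤ f ⁻¹ᵁ U) (hW : W ≤ a ⁻¹ᵁ V)
    (hW' : W ≤ h ⁻¹ᵁ U) (x : Γ(G, U)) :
    tr e G hW (unitSec f G hV x) = unitSec h G hW' x := by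
  have h1 := trSec_unitSec f a e G U x
  rw [trSec_eq] at h1
  have h2 : unitSec f G hV x = res ((Scheme.Modules.pullback f).obj G) hV (unitSec f G (le_refl (f ⁻¹ᵁ U)) x) := by
    rw [← unitSec_res f G (le_refl (f ⁻¹ᵁ U)) hV (le_refl U) hV x, res_self]
  have h3 : unitSec h G hW' x = res ((Scheme.Modules.pullback h).obj G) hW' (unitSec h G (le_refl (h ⁻¹ᵁ U)) x) := by
    rw [← unitSec_res h G (le_refl (h ⁻¹ᵁ U)) hW' (le_refl U) hW' x, res_self]
  rw [h2, h3, ← h1]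
  exact tr_res e G _ _ _ _ _

section Ext

variable {ι : Type*} {P : Scheme.{u}} {Q : ι → Scheme.{u}} (g : ∀ i, Q i ⟶ P)

/-- Sections are determined by their inverse images along a jointly surjective flat family. -/
theorem unitSec_ext [∀ i, Flat (g i)] (M : P.Modules) {U : P.Opens} (hsurj : ∀ x ∈ U, ∃ i y, g i y = x)
    (n n' : Γ(M, U)) (h : ∀ i, unitSec (g i) M (le_refl (g i ⁻¹ᵁ U)) n = unitSec (g i) M (le_refl (g i ⁻¹ᵁ U)) n') :
    n = n' := by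
  refine section_ext M n n' fun x hx => ?_
  obtain ⟨i, y, rfl⟩ := hsurj x hx
  have h1 : germM M U (g i y) hx n = germM M U (g i y) hx n' := by
    refine AmpleDesc.pullη_injective (g i) y ?_
    rw [DCK91.pullη_germ, DCK91.pullη_germ]
    have h2 := h i
    rw [unitSec, unitSec, res_self, res_self] at h2
    exact congrArg _ h2
  obtain ⟨W', hW', i₁, i₂, e'⟩ := TopCat.Presheaf.germ_eq M.presheaf _ hx hx n n' h1
  exact ⟨W', i₁.le, hW', e'⟩

end Ext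

/-- functions pulled back to the spectrum of an algebra -/
theorem appLE_specMap_fromSpec {Y : Scheme.{u}} {V : Y.Opens} (hV : IsAffineOpen V) {C : CommRingCat.{u}}
    (φ : Γ(Y, V) ⟶ C) (e : (⊤ : (Spec C).Opens) ≤ (Spec.map φ ≫ hV.fromSpec) ⁻¹ᵁ V) :
    (Spec.map φ ≫ hV.fromSpec).appLE V ⊤ e = φ ≫ (Scheme.ΓSpecIso C).inv := by
  rw [Scheme.ΓSpecIso_inv_naturality, Scheme.Hom.appLE, Scheme.Hom.comp_app, hV.fromSpec_app_self]
  simp only [Category.assoc]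
  congr 1

section Affine

variable {P : Scheme.{u}} (N : P.Modules) [N.IsQuasicoherent] {K : Type} [Fintype K] {Q : K → Scheme.{u}}
  (g : ∀ k, Q k ⟶ P) {U : P.Opens} (hU : IsAffineOpen U) (V : ∀ k, (Q k).Opens) (hV : ∀ k, IsAffineOpen (V k))
  (e : ∀ k, V k ≤ g k ⁻¹ᵁ U)

omit hU hV in
/-- Two charts: a linear map reading transition of sections on the spectrum of an algebra. -/
theorem exists_read {Q₁ : Scheme.{u}} (g₁ : Q₁ ⟶ P) (hU : IsAffineOpen U) {V₁ : Q₁.Opens}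
    (hV₁ : IsAffineOpen V₁) (e₁ : V₁ ≤ g₁ ⁻¹ᵁ U) (C : CommRingCat.{u}) [Algebra Γ(P, U) C]
    (φ : Γ(Q₁, V₁) ⟶ C) (hφ : ∀ r, φ (g₁.appLE U V₁ e₁ r) = algebraMap Γ(P, U) C r)
    (h : Spec C ⟶ P) (hh : Spec.map (CommRingCat.ofHom (algebraMap Γ(P, U) C)) ≫ hU.fromSpec = h) :
    (Spec.map φ ≫ hV₁.fromSpec) ≫ g₁ = h := by
  rw [← hh, Category.assoc, ← hU.SpecMap_appLE_fromSpec g₁ hV₁ e₁, ← Spec.map_comp_assoc]
  congr 2
  ext r
  exact hφ r

omit hU hV in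
theorem exists_readMap (hU : IsAffineOpen U) (C : CommRingCat.{u}) [Algebra Γ(P, U) C] :
    ∃ (h : Spec C ⟶ P) (_ : Spec.map (CommRingCat.ofHom (algebraMap Γ(P, U) C)) ≫ hU.fromSpec = h)
      (wh : (⊤ : (Spec C).Opens) ≤ h ⁻¹ᵁ U)
      (Φ : Γ((Scheme.Modules.pullback h).obj N, ⊤) →+ C ⊗[Γ(P, U)] Γ(N, U)),
      ∀ (t : Γ(Spec C, ⊤)) x, Φ (t • unitSec h N wh x) = (Scheme.ΓSpecIso C).hom t ⊗ₜ x := by
  let φ := CommRingCat.ofHom (algebraMap Γ(P, U) C)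
  let h := Spec.map φ ≫ hU.fromSpec
  have wh : (⊤ : (Spec C).Opens) ≤ h ⁻¹ᵁ U := fun x _ => by
    show hU.fromSpec _ ∈ U
    exact hU.range_fromSpec.le ⟨_, rfl⟩
  letI := (h.appLE U ⊤ wh).hom.toAlgebra
  obtain ⟨ET, hET⟩ := exists_baseChange_equiv h N hU (isAffineOpen_top (Spec C)) wh
  let ψ : Γ(Spec C, ⊤) →ₗ[Γ(P, U)] C :=
    { toFun := fun t => (Scheme.ΓSpecIso C).hom t
      map_add' := map_add _
      map_smul' := fun r t => by
        show (Scheme.ΓSpecIso C).hom (h.appLE U ⊤ wh r * t) = r • (Scheme.ΓSpecIso C).hom t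
        rw [map_mul, Algebra.smul_def]
        congr 1
        rw [appLE_specMap_fromSpec hU φ]
        exact ConcreteCategory.congr_hom ((Category.assoc _ _ _).trans
          ((congrArg (φ ≫ ·) (Scheme.ΓSpecIso C).inv_hom_id).trans (Category.comp_id _))) r }
  refine ⟨h, rfl, wh, (ψ.rTensor _).toAddMonoidHom.comp ET.toAddEquiv.toAddMonoidHom, fun t x => ?_⟩
  show ψ.rTensor _ (ET (t • unitSec h N wh x)) = _
  rw [map_smul, hET, TensorProduct.smul_tmul', smul_eq_mul, mul_one]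
  rfl

omit hU hV in
/-- In coordinates, compatibility on two charts is the cocycle equation. -/
theorem coord_eq {Q₁ Q₂ : Scheme.{u}} (g₁ : Q₁ ⟶ P) (g₂ : Q₂ ⟶ P) (hU : IsAffineOpen U) {V₁ : Q₁.Opens}
    {V₂ : Q₂.Opens} (hV₁ : IsAffineOpen V₁) (hV₂ : IsAffineOpen V₂) (e₁ : V₁ ≤ g₁ ⁻¹ᵁ U) (e₂ : V₂ ≤ g₂ ⁻¹ᵁ U) :
    letI := (g₁.appLE U V₁ e₁).hom.toAlgebra
    letI := (g₂.appLE U V₂ e₂).hom.toAlgebra
    ∀ (E₁ : Γ((Scheme.Modules.pullback g₁).obj N, V₁) ≃ₗ[Γ(Q₁, V₁)] Γ(Q₁, V₁) ⊗[Γ(P, U)] Γ(N, U))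
      (_ : ∀ x, E₁ (unitSec g₁ N e₁ x) = 1 ⊗ₜ x)
      (E₂ : Γ((Scheme.Modules.pullback g₂).obj N, V₂) ≃ₗ[Γ(Q₂, V₂)] Γ(Q₂, V₂) ⊗[Γ(P, U)] Γ(N, U))
      (_ : ∀ x, E₂ (unitSec g₂ N e₂ x) = 1 ⊗ₜ x) (y₁ : Γ((Scheme.Modules.pullback g₁).obj N, V₁))
      (y₂ : Γ((Scheme.Modules.pullback g₂).obj N, V₂))
      (_ : ∀ (T : Scheme.{u}) (a : T ⟶ Q₁) (b : T ⟶ Q₂) (h : T ⟶ P) (ea : a ≫ g₁ = h) (eb : b ≫ g₂ = h)
        (W : T.Opens) (wa : W ≤ a ⁻¹ᵁ V₁) (wb : W ≤ b ⁻¹ᵁ V₂), tr ea N wa y₁ = tr eb N wb y₂),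
      (TensorProduct.mk Γ(P, U) Γ(Q₂, V₂) Γ(N, U) 1).lTensor Γ(Q₁, V₁) (E₁ y₁) = (1 : Γ(Q₁, V₁)) ⊗ₜ[Γ(P, U)] E₂ y₂ := by
  letI := (g₁.appLE U V₁ e₁).hom.toAlgebra
  letI := (g₂.appLE U V₂ e₂).hom.toAlgebra
  intro E₁ hE₁ E₂ hE₂ y₁ y₂ hc
  let C := CommRingCat.of (Γ(Q₁, V₁) ⊗[Γ(P, U)] Γ(Q₂, V₂))
  let φ₁ : Γ(Q₁, V₁) ⟶ C := CommRingCat.ofHom Algebra.TensorProduct.includeLeftRingHom
  let φ₂ : Γ(Q₂, V₂) ⟶ C := CommRingCat.ofHom (Algebra.TensorProduct.includeRight (R := Γ(P, U))).toRingHom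
  obtain ⟨h, hh, wh, Φ, hΦ⟩ := exists_readMap N hU C
  let a : Spec C ⟶ Q₁ := Spec.map φ₁ ≫ hV₁.fromSpec
  let b : Spec C ⟶ Q₂ := Spec.map φ₂ ≫ hV₂.fromSpec
  have ea : a ≫ g₁ = h := exists_read g₁ hU hV₁ e₁ C φ₁ (fun r => rfl) h hh
  have eb : b ≫ g₂ = h := exists_read g₂ hU hV₂ e₂ C φ₂
    (fun r => (Algebra.TensorProduct.tmul_one_eq_one_tmul r).symm) h hh
  have wa : (⊤ : (Spec C).Opens) ≤ a ⁻¹ᵁ V₁ := fun x _ => by
    show hV₁.fromSpec _ ∈ V₁
    exact hV₁.range_fromSpec.le ⟨_, rfl⟩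
  have wb : (⊤ : (Spec C).Opens) ≤ b ⁻¹ᵁ V₂ := fun x _ => by
    show hV₂.fromSpec _ ∈ V₂
    exact hV₂.range_fromSpec.le ⟨_, rfl⟩
  have ha : ∀ r, (Scheme.ΓSpecIso C).hom (a.appLE V₁ ⊤ wa r) = φ₁ r := fun r => by
    rw [appLE_specMap_fromSpec hV₁ φ₁]
    exact ConcreteCategory.congr_hom ((Category.assoc _ _ _).trans
      ((congrArg (φ₁ ≫ ·) (Scheme.ΓSpecIso C).inv_hom_id).trans (Category.comp_id _))) r
  have hb : ∀ r, (Scheme.ΓSpecIso C).hom (b.appLE V₂ ⊤ wb r) = φ₂ r := fun r => by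
    rw [appLE_specMap_fromSpec hV₂ φ₂]
    exact ConcreteCategory.congr_hom ((Category.assoc _ _ _).trans
      ((congrArg (φ₂ ≫ ·) (Scheme.ΓSpecIso C).inv_hom_id).trans (Category.comp_id _))) r
  let ρ := (TensorProduct.assoc Γ(P, U) Γ(Q₁, V₁) Γ(Q₂, V₂) Γ(N, U)).toLinearMap
  have h1 : ∀ z, ρ (Φ (tr ea N wa (E₁.symm z))) =
      (TensorProduct.mk Γ(P, U) Γ(Q₂, V₂) Γ(N, U) 1).lTensor Γ(Q₁, V₁) z := by
    intro z
    induction z with
    | zero => simp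
    | add z z' hz hz' => rw [map_add E₁.symm, map_add (tr ea N wa), map_add Φ, map_add, map_add, hz, hz']
    | tmul r x =>
      have hx : E₁.symm (r ⊗ₜ x) = r • unitSec g₁ N e₁ x := by
        apply E₁.injective
        rw [LinearEquiv.apply_symm_apply, map_smul, hE₁, TensorProduct.smul_tmul', smul_eq_mul, mul_one]
      rw [hx, tr_smul, tr_unitSec ea N e₁ wa wh, hΦ, ha]
      rfl
  have h2 : ∀ z, ρ (Φ (tr eb N wb (E₂.symm z))) = (1 : Γ(Q₁, V₁)) ⊗ₜ[Γ(P, U)] z := by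
    intro z
    induction z with
    | zero => simp
    | add z z' hz hz' => rw [map_add E₂.symm, map_add (tr eb N wb), map_add Φ, map_add, hz, hz', TensorProduct.tmul_add]
    | tmul r x =>
      have hx : E₂.symm (r ⊗ₜ x) = r • unitSec g₂ N e₂ x := by
        apply E₂.injective
        rw [LinearEquiv.apply_symm_apply, map_smul, hE₂, TensorProduct.smul_tmul', smul_eq_mul, mul_one]
      rw [hx, tr_smul, tr_unitSec eb N e₂ wb wh, hΦ, hb]
      rfl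
  rw [← h1, ← h2, E₁.symm_apply_apply, E₂.symm_apply_apply, hc (Spec C) a b h ea eb ⊤ wa wb]

include hU hV in
/-- Compatible sections over finitely many affine charts of an affine open come from the open. -/
theorem exists_affine [∀ k, Flat (g k)] (hcov : ∀ x ∈ U, ∃ k, ∃ y ∈ V k, g k y = x)
    (y : ∀ k, Γ((Scheme.Modules.pullback (g k)).obj N, V k))
    (hc : ∀ k l (T : Scheme.{u}) (a : T ⟶ Q k) (b : T ⟶ Q l) (h : T ⟶ P) (ea : a ≫ g k = h) (eb : b ≫ g l = h)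
      (W : T.Opens) (wa : W ≤ a ⁻¹ᵁ V k) (wb : W ≤ b ⁻¹ᵁ V l), tr ea N wa (y k) = tr eb N wb (y l)) :
    ∃ m : Γ(N, U), ∀ k, unitSec (g k) N (e k) m = y k := by
  letI : ∀ k, Algebra Γ(P, U) Γ(Q k, V k) := fun k => ((g k).appLE U (V k) (e k)).hom.toAlgebra
  haveI : ∀ k, Module.Flat Γ(P, U) Γ(Q k, V k) := fun k =>
    HasRingHomProperty.appLE @Flat (g k) inferInstance ⟨U, hU⟩ ⟨V k, hV k⟩ (e k)
  have hs : ∀ p : PrimeSpectrum Γ(P, U), ∃ k q, PrimeSpectrum.comap (algebraMap Γ(P, U) Γ(Q k, V k)) q = p := by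
    intro p
    have hmem : hU.fromSpec p ∈ U := hU.range_fromSpec.le ⟨p, rfl⟩
    obtain ⟨k, z, hz, ez⟩ := hcov _ hmem
    refine ⟨k, (hV k).primeIdealOf ⟨z, hz⟩, ?_⟩
    apply hU.fromSpec.isOpenEmbedding.injective
    show hU.fromSpec ((Spec.map ((g k).appLE U (V k) (e k))) ((hV k).primeIdealOf ⟨z, hz⟩)) = hU.fromSpec p
    rw [← Scheme.Hom.comp_apply, hU.SpecMap_appLE_fromSpec (g k) (hV k) (e k), Scheme.Hom.comp_apply,
      (hV k).fromSpec_primeIdealOf]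
    exact ez
  choose E hE using fun k => exists_baseChange_equiv (g k) N hU (hV k) (e k)
  obtain ⟨m, hm⟩ := SecAlg.exists_descend hs Γ(N, U) (fun k => E k (y k)) fun k l => by
    exact coord_eq N (g k) (g l) hU (hV k) (hV l) (e k) (e l) (E k) (hE k) (E l) (hE l) (y k) (y l) (hc k l)
  refine ⟨m, fun k => (E k).injective ?_⟩
  rw [hE, hm k]

end Affine

section Global

variable {ι : Type u} {P : Scheme.{u}} {Q : ι → Scheme.{u}} (g : ∀ i, Q i ⟶ P)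
  [QuasiCompactCover (⟨ι, Q, g⟩ : PreZeroHypercover.{u} P)] [∀ i, Flat (g i)] (N : P.Modules)

omit [∀ i, Flat (g i)] in
theorem exists_point (x : P) : ∃ i y, g i y = x := by
  obtain ⟨U, hU, hx, -⟩ := exists_isAffineOpen_mem_and_subset (U := (⊤ : P.Opens)) (x := x) trivial
  obtain ⟨n, f, V, hV, hcov⟩ := QuasiCompactCover.exists_isAffineOpen_of_isCompact
    (⟨ι, Q, g⟩ : PreZeroHypercover.{u} P) hU.isCompact
  rw [← SetLike.mem_coe, ← hcov] at hx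
  obtain ⟨k, y, -, e⟩ := Set.mem_iUnion.mp hx
  exact ⟨f k, y, e⟩

variable [N.IsQuasicoherent]

/-- Descent of sections over an open. -/
theorem existsUnique_descend (U : P.Opens) (y : ∀ i, Γ((Scheme.Modules.pullback (g i)).obj N, g i ⁻¹ᵁ U))
    (hc : ∀ i j (T : Scheme.{u}) (a : T ⟶ Q i) (b : T ⟶ Q j) (h : T ⟶ P) (ea : a ≫ g i = h) (eb : b ≫ g j = h),
      tr ea N (preimage_comp_le (g i) a ea U) (y i) = tr eb N (preimage_comp_le (g j) b eb U) (y j)) :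
    ∃! n : Γ(N, U), ∀ i, unitSec (g i) N (le_refl (g i ⁻¹ᵁ U)) n = y i := by
  have hc' : ∀ i j (T : Scheme.{u}) (a : T ⟶ Q i) (b : T ⟶ Q j) (h : T ⟶ P) (ea : a ≫ g i = h) (eb : b ≫ g j = h)
      (Vi : (Q i).Opens) (Vj : (Q j).Opens) (hi : Vi ≤ g i ⁻¹ᵁ U) (hj : Vj ≤ g j ⁻¹ᵁ U)
      (W : T.Opens) (wa : W ≤ a ⁻¹ᵁ Vi) (wb : W ≤ b ⁻¹ᵁ Vj),
      tr ea N wa (res _ hi (y i)) = tr eb N wb (res _ hj (y j)) := by
    intro i j T a b h ea eb Vi Vj hi hj W wa wb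
    have hW : W ≤ h ⁻¹ᵁ U := by
      rw [← ea, Scheme.Hom.comp_preimage]
      exact wa.trans (a.preimage_mono hi)
    rw [tr_res ea N (preimage_comp_le (g i) a ea U) wa hi hW,
      tr_res eb N (preimage_comp_le (g j) b eb U) wb hj hW, hc i j T a b h ea eb]
  have aff : ∀ W : P.Opens, IsAffineOpen W → ∀ hW : W ≤ U, ∃ m : Γ(N, W), ∀ i,
      unitSec (g i) N (le_refl (g i ⁻¹ᵁ W)) m = res _ ((g i).preimage_mono hW) (y i) := by
    intro W hWa hW
    obtain ⟨n, f, V, hV, hcov⟩ := QuasiCompactCover.exists_isAffineOpen_of_isCompact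
      (⟨ι, Q, g⟩ : PreZeroHypercover.{u} P) hWa.isCompact
    have hle : ∀ k, V k ≤ g (f k) ⁻¹ᵁ W := fun k x hx => by
      show g (f k) x ∈ (W : Set P)
      rw [← hcov]
      exact Set.mem_iUnion.mpr ⟨k, x, hx, rfl⟩
    have hcov' : ∀ x ∈ W, ∃ k, ∃ z ∈ V k, g (f k) z = x := fun x hx => by
      rw [← SetLike.mem_coe, ← hcov] at hx
      obtain ⟨k, z, hz, e⟩ := Set.mem_iUnion.mp hx
      exact ⟨k, z, hz, e⟩
    obtain ⟨m, hm⟩ := exists_affine N (fun k => g (f k)) hWa V hV hle hcov'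
      (fun k => res _ ((hle k).trans ((g (f k)).preimage_mono hW)) (y (f k)))
      (fun k l T a b h ea eb W' wa wb => hc' _ _ T a b h ea eb _ _ _ _ W' wa wb)
    refine ⟨m, fun i => section_ext _ _ _ fun x hx => ?_⟩
    obtain ⟨V₀, hV₀, hxV, hV₀W⟩ := exists_isAffineOpen_mem_and_subset (U := g i ⁻¹ᵁ W) hx
    let f' : Option (Fin n) → ι := fun o => o.elim i f
    let V' : ∀ o, (Q (f' o)).Opens := fun o => match o with
      | none => V₀
      | some k => V k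
    have hV' : ∀ o, IsAffineOpen (V' o) := fun o => match o with
      | none => hV₀
      | some k => hV k
    have hle' : ∀ o, V' o ≤ g (f' o) ⁻¹ᵁ W := fun o => match o with
      | none => hV₀W
      | some k => hle k
    obtain ⟨m', hm'⟩ := exists_affine N (fun o => g (f' o)) hWa V' hV' hle'
      (fun z hz => by
        obtain ⟨k, w, hw, e⟩ := hcov' z hz
        exact ⟨some k, w, hw, e⟩)
      (fun o => res _ ((hle' o).trans ((g (f' o)).preimage_mono hW)) (y (f' o)))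
      (fun k l T a b h ea eb W' wa wb => hc' _ _ T a b h ea eb _ _ _ _ W' wa wb)
    have e : m' = m := section_ext N m' m fun z hz => by
      obtain ⟨k, w, hw, rfl⟩ := hcov' z hz
      have h1 : unitSec (g (f k)) N (hle k) m' = unitSec (g (f k)) N (hle k) m :=
        (hm' (some k)).trans (hm k).symm
      have h2 : germM N W (g (f k) w) hz m' = germM N W (g (f k) w) hz m := by
        refine AmpleDesc.pullη_injective (g (f k)) w ?_
        rw [DCK91.pullη_germ, DCK91.pullη_germ, ← germM_res (hle k) hw, ← germM_res (hle k) hw]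
        exact congrArg _ h1
      obtain ⟨W', hW', i₁, i₂, e'⟩ := TopCat.Presheaf.germ_eq N.presheaf _ hz hz m' m h2
      exact ⟨W', i₁.le, hW', e'⟩
    subst e
    refine ⟨V₀, hV₀W, hxV, ?_⟩
    have h3 := hm' none
    rw [unitSec] at h3
    rw [res_res, unitSec, res_self]
    exact h3
  have huniq : ∀ {W : P.Opens} (n n' : Γ(N, W)), (∀ i, unitSec (g i) N (le_refl (g i ⁻¹ᵁ W)) n =
      unitSec (g i) N (le_refl (g i ⁻¹ᵁ W)) n') → n = n' :=
    fun n n' h => unitSec_ext g N (fun x _ => exists_point g x) n n' h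
  choose m hm using fun W : {W : P.Opens // IsAffineOpen W ∧ W ≤ U} => aff W.1 W.2.1 W.2.2
  have hres : ∀ (W : {W : P.Opens // IsAffineOpen W ∧ W ≤ U}) (O : P.Opens) (hO : O ≤ W.1) i,
      unitSec (g i) N (le_refl (g i ⁻¹ᵁ O)) (res N hO (m W)) =
        res _ ((g i).preimage_mono (hO.trans W.2.2)) (y i) := fun W O hO i => by
    rw [unitSec_res (g i) N (le_refl _) (le_refl _) hO ((g i).preimage_mono hO), hm W i, res_res]
  obtain ⟨n, hn, -⟩ := TopCat.Sheaf.existsUnique_gluing'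
    (C := AddCommGrpCat.{u}) (⟨N.presheaf, N.isSheaf⟩ : TopCat.Sheaf AddCommGrpCat.{u} P)
    (fun W : {W : P.Opens // IsAffineOpen W ∧ W ≤ U} => W.1) U (fun W => homOfLE W.2.2)
    (fun x hx => by
      obtain ⟨W, hWa, hxW, hWU⟩ := exists_isAffineOpen_mem_and_subset (U := U) hx
      exact Opens.mem_iSup.mpr ⟨⟨W, hWa, hWU⟩, hxW⟩)
    m (fun W W' => huniq _ _ fun i => (hres W _ inf_le_left i).trans (hres W' _ inf_le_right i).symm)
  refine ⟨n, fun i => section_ext _ _ _ fun x hx => ?_, fun n' hn' => huniq _ _ fun i => ?_⟩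
  · obtain ⟨W, hWa, hxW, hWU⟩ := exists_isAffineOpen_mem_and_subset (U := U) (x := g i x) hx
    refine ⟨g i ⁻¹ᵁ W, (g i).preimage_mono hWU, hxW, ?_⟩
    rw [← unitSec_res (g i) N (le_refl (g i ⁻¹ᵁ U)) (le_refl (g i ⁻¹ᵁ W)) hWU ((g i).preimage_mono hWU),
      show res N hWU n = m ⟨W, hWa, hWU⟩ from hn ⟨W, hWa, hWU⟩]
    exact hm ⟨W, hWa, hWU⟩ i
  · rw [hn' i]
    refine section_ext _ _ _ fun x hx => ?_
    obtain ⟨W, hWa, hxW, hWU⟩ := exists_isAffineOpen_mem_and_subset (U := U) (x := g i x) hx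
    refine ⟨g i ⁻¹ᵁ W, (g i).preimage_mono hWU, hxW, ?_⟩
    rw [← unitSec_res (g i) N (le_refl (g i ⁻¹ᵁ U)) (le_refl (g i ⁻¹ᵁ W)) hWU ((g i).preimage_mono hWU),
      show res N hWU n = m ⟨W, hWa, hWU⟩ from hn ⟨W, hWa, hWU⟩]
    exact (hm ⟨W, hWa, hWU⟩ i).symm

end Global

end Groth.Agent.Desc59.QSheaf
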