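import Groth.Agent.E4O.BaseChangeDim
import Groth.Agent.E4O.FibreComp
import Groth.Prelude.Def_Cyc

/-!
Relative dimension descends along surjective base change.
-/

set_option autoImplicit false
universe u

open CategoryTheory CategoryTheory.Limits AlgebraicGeometry

namespace Groth.Agent.Desc59

theorem hasRelDim_of_isPullback {X Y X' Y' : Scheme.{u}} (f : X ⟶ Y) [LocallyOfFiniteType f]
    (g : Y' ⟶ Y) [Surjective g] (g' : X' ⟶ X) (f' : X' ⟶ Y') (hsq : IsPullback g' f' f g)
    (d : ℕ) (h : Cyc.HasRelDim f' d) : Cyc.HasRelDim f d := by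
  have : LocallyOfFiniteType f' := MorphismProperty.of_isPullback hsq inferInstance
  intro y T hT
  obtain ⟨z, rfl, hmax, hdim⟩ := E4O.exists_of_mem_irreducibleComponents_fiber f hT
  rw [hdim]
  obtain ⟨y', hy'⟩ := g.surjective (f (f.fiberι y z))
  obtain ⟨a, ha, hqa, hdeg⟩ := E4O.exists_fdeg_eq_of_isPullback hsq (f.fiberι y z) y' hy'.symm
  obtain ⟨w, hwa, hfw, hwmax, -, hle⟩ := E4O.exists_isFibreMax_specializes f' a
  have hgw : g' w = f.fiberι y z := by
    refine hmax _ (ha ▸ hwa.map g'.continuous) ?_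
    rw [← Scheme.Hom.comp_apply, hsq.w, Scheme.Hom.comp_apply, hfw, hqa, hy']
  obtain ⟨Z, hZ, hZdim⟩ := E4O.exists_component_of_isFibreMax f' (y := y') (hfw.trans hqa) hwmax
  have hd : E4O.fdeg f' w = d := by exact_mod_cast hZdim.symm.trans (h y' Z hZ)
  have hup : E4O.fdeg f' w ≤ E4O.fdeg f (f.fiberι y z) := by
    rw [← hgw]
    exact E4O.fdeg_le_of_isPullback hsq w
  have : E4O.fdeg f (f.fiberι y z) = d := by omega
  exact_mod_cast this

end Groth.Agent.Desc59
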