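import Groth.Agent.Desc59.SyntomicCM
import Groth.Agent.CAlg1.SerreNormal

/-!
The affine chart of a syntomic morphism at a point; locality of CM and (S_k) in the syntomic topology.
-/

set_option autoImplicit false
universe u

open CategoryTheory AlgebraicGeometry

namespace Groth.Agent.Desc59.SyntomicCM

/-- ring-level facts for one chart -/
theorem chart_cm_iff {R T : Type u} [CommRing R] [CommRing T] [Algebra R T] [IsNoetherianRing R]
    [IsNoetherianRing T] (h : Synt.IsSyntomic R T) (q : Ideal T) [q.IsPrime] :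
    LocCoh.IsCohenMacaulayLocalRing (Localization.AtPrime q) ↔
      LocCoh.IsCohenMacaulayLocalRing (Localization.AtPrime (q.under R)) := by
  have := h.1
  have : q.LiesOver (q.under R) := ⟨rfl⟩
  let := Localization.AtPrime.algebraOfLiesOver (q.under R) q
  have : IsLocalHom (algebraMap (Localization.AtPrime (q.under R)) (Localization.AtPrime q)) :=
    Localization.isLocalHom_localRingHom (q.under R) q _ _
  constructor
  · intro hq
    have : IsNoetherianRing (Localization.AtPrime (q.under R)) :=
      IsLocalization.isNoetherianRing (q.under R).primeCompl _ inferInstance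
    exact cmLocal_of_flat_local _ _ hq
  · intro hp
    obtain ⟨Q, hQ, hc⟩ := CAlg1.exists_fibre_prime (R := R) q
    exact CAlg1.cmLocal_fibre (q.under R) Q q hc hp
      ((cm_of_isLCIOver (h.2.2 ⟨q.under R, inferInstance⟩)).isCohenMacaulayLocalRing_localization Q)

theorem chart_sk_descend {R T : Type u} [CommRing R] [CommRing T] [Algebra R T] [IsNoetherianRing R]
    [IsNoetherianRing T] (h : Synt.IsSyntomic R T) (k : ℕ) (q : Ideal T) [q.IsPrime]
    (hq : LocCoh.HasSk k (Localization.AtPrime q) (Localization.AtPrime q)) :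
    LocCoh.HasSk k (Localization.AtPrime (q.under R)) (Localization.AtPrime (q.under R)) := by
  have := h.1
  have : q.LiesOver (q.under R) := ⟨rfl⟩
  let := Localization.AtPrime.algebraOfLiesOver (q.under R) q
  have : IsLocalHom (algebraMap (Localization.AtPrime (q.under R)) (Localization.AtPrime q)) :=
    Localization.isLocalHom_localRingHom (q.under R) q _ _
  have : IsNoetherianRing (Localization.AtPrime q) :=
    IsLocalization.isNoetherianRing q.primeCompl _ inferInstance
  have : Module.FaithfullyFlat (Localization.AtPrime (q.under R)) (Localization.AtPrime q) :=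
    Module.FaithfullyFlat.of_flat_of_isLocalHom
  exact (Groth.Agent.S9437.result k _ (Localization.AtPrime q) hq).2

/-- (S_k) of a Noetherian ring can be tested at the local rings -/
theorem hasSk_iff_forall_atPrime {R : Type u} [CommRing R] [IsNoetherianRing R] (k : ℕ) :
    LocCoh.HasSk k R R ↔ ∀ (p : Ideal R) [p.IsPrime],
      LocCoh.HasSk k (Localization.AtPrime p) (Localization.AtPrime p) := by
  constructor
  · intro h p _
    rw [CAlg1.hasSk_self_iff] at h ⊢
    intro P _
    let p' := P.comap (algebraMap R (Localization.AtPrime p))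
    have : IsLocalization.AtPrime (Localization.AtPrime P) p' :=
      IsLocalization.isLocalization_isLocalization_atPrime_isLocalization p.primeCompl
        (Localization.AtPrime P) P
    let e := (IsLocalization.algEquiv p'.primeCompl (Localization.AtPrime p')
      (Localization.AtPrime P)).toRingEquiv
    have hd : LocCoh.depth (Localization.AtPrime p') (Localization.AtPrime p') =
        LocCoh.depth (Localization.AtPrime P) (Localization.AtPrime P) :=
      (have : IsNoetherianRing (Localization.AtPrime p') := IsLocalization.isNoetherianRing p'.primeCompl _ inferInstance;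
       have : IsNoetherianRing (Localization.AtPrime P) := isNoetherianRing_of_ringEquiv _ e;
       CAlg1.depth_eq_of_ringEquiv e)
    have hh : P.height = p'.height := by
      have h1 := ringKrullDim_eq_of_ringEquiv e
      rw [IsLocalization.AtPrime.ringKrullDim_eq_height p', IsLocalization.AtPrime.ringKrullDim_eq_height P]
        at h1
      exact (WithBot.coe_inj.mp h1).symm
    rw [hh, ← hd]
    exact h p'
  · intro h
    rw [CAlg1.hasSk_self_iff]
    intro p _
    have h0 := (CAlg1.hasSk_self_iff k).mp (h p) (IsLocalRing.maximalIdeal _)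
    let L := Localization.AtPrime p
    let L' := Localization.AtPrime (IsLocalRing.maximalIdeal L)
    let e : L ≃+* L' := (IsLocalization.atUnits L (IsLocalRing.maximalIdeal L).primeCompl (S := L')
      (fun x hx => by
        have h2 : x ∉ IsLocalRing.maximalIdeal L := hx
        rw [IsLocalRing.mem_maximalIdeal, mem_nonunits_iff, not_not] at h2
        exact h2)).toRingEquiv
    rw [← CAlg1.depth_eq_of_ringEquiv e] at h0
    have hh : (IsLocalRing.maximalIdeal L).height = p.height := by
      have h1 := IsLocalization.AtPrime.ringKrullDim_eq_height p L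
      rw [← IsLocalRing.maximalIdeal_height_eq_ringKrullDim] at h1
      exact WithBot.coe_inj.mp h1
    rwa [hh] at h0

theorem chart_sk_ascend {R T : Type u} [CommRing R] [CommRing T] [Algebra R T] [IsNoetherianRing R]
    [IsNoetherianRing T] (h : Synt.IsSyntomic R T) (k : ℕ)
    (hR : ∀ (p : Ideal R) [p.IsPrime], LocCoh.HasSk k (Localization.AtPrime p) (Localization.AtPrime p))
    (q : Ideal T) [q.IsPrime] :
    LocCoh.HasSk k (Localization.AtPrime q) (Localization.AtPrime q) := by
  have := h.1
  refine (hasSk_iff_forall_atPrime k).mp ?_ q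
  exact CAlg1.hasSk_of_flat_of_fibres k ((hasSk_iff_forall_atPrime k).mpr hR) fun p _ =>
    have := cm_of_isLCIOver (h.2.2 ⟨p, inferInstance⟩)
    hasSk_of_cm k

end Groth.Agent.Desc59.SyntomicCM

namespace Groth.Agent.Desc59.SyntomicCM

/-- A chart of a syntomic morphism at a point, with the local rings identified. -/
theorem exists_chart {X S : Scheme.{u}} (f : X ⟶ S) (hf : Synt.IsSyntomicMor f) (x : X) :
    ∃ (U : X.affineOpens) (V : S.affineOpens), x ∈ U.1 ∧
      ∃ (_ : Algebra Γ(S, V.1) Γ(X, U.1)), Synt.IsSyntomic Γ(S, V.1) Γ(X, U.1) ∧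
      ∃ (q : Ideal Γ(X, U.1)) (_ : q.IsPrime),
        Nonempty (X.presheaf.stalk x ≃+* Localization.AtPrime q) ∧
        Nonempty (S.presheaf.stalk (f x) ≃+* Localization.AtPrime (q.under Γ(S, V.1))) := by
  obtain ⟨U, V, e, hx, h⟩ := hf x
  refine ⟨U, V, hx, (f.appLE V.1 U.1 e).hom.toAlgebra, h, (U.2.primeIdealOf ⟨x, hx⟩).asIdeal,
    inferInstance, ⟨?_⟩, ⟨?_⟩⟩
  · let := X.presheaf.algebra_section_stalk ⟨x, hx⟩
    have := U.2.isLocalization_stalk ⟨x, hx⟩
    exact (IsLocalization.algEquiv (U.2.primeIdealOf ⟨x, hx⟩).asIdeal.primeCompl _ _).toRingEquiv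
  · let := (f.appLE V.1 U.1 e).hom.toAlgebra
    let := S.presheaf.algebra_section_stalk ⟨f x, e hx⟩
    have hloc := V.2.isLocalization_stalk ⟨f x, e hx⟩
    have hq : (U.2.primeIdealOf ⟨x, hx⟩).asIdeal.under Γ(S, V.1) =
        (V.2.primeIdealOf ⟨f x, e hx⟩).asIdeal :=
      congr($(IsAffineOpen.comap_primeIdealOf_appLE V.1 V.2 U.1 U.2 e hx).1)
    have : IsLocalization.AtPrime (S.presheaf.stalk (f x))
        ((U.2.primeIdealOf ⟨x, hx⟩).asIdeal.under Γ(S, V.1)) := by
      convert hloc using 1
    exact (IsLocalization.algEquiv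
      ((U.2.primeIdealOf ⟨x, hx⟩).asIdeal.under Γ(S, V.1)).primeCompl _ _).toRingEquiv

theorem isLocallyNoetherian_of_syntomic {X S : Scheme.{u}} (f : X ⟶ S) (hf : Synt.IsSyntomicMor f)
    [IsLocallyNoetherian S] : IsLocallyNoetherian X := by
  choose U V hx _ hsyn _ _ _ _ using exists_chart f hf
  refine isLocallyNoetherian_of_affine_cover (S := fun x => U x) ?_ fun x => ?_
  · rw [eq_top_iff]; exact fun x _ => TopologicalSpace.Opens.mem_iSup.mpr ⟨x, hx x⟩
  · have : IsNoetherianRing Γ(S, (V x).1) := IsLocallyNoetherian.component_noetherian (V x)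
    have := (hsyn x).2.1
    exact Algebra.FiniteType.isNoetherianRing Γ(S, (V x).1) _

theorem exists_noetherian_nhd {R T : Type u} [CommRing R] [CommRing T] [Algebra R T]
    [Module.Flat R T] [Algebra.FinitePresentation R T] [IsNoetherianRing T] (q : Ideal T) [q.IsPrime] :
    ∃ a : R, a ∉ q.under R ∧ IsNoetherianRing (Localization.Away a) := by
  have hopen := (PrimeSpectrum.isOpenMap_comap_of_hasGoingDown_of_finitePresentation (R := R) (S := T)).isOpen_range
  obtain ⟨_, ⟨a, rfl⟩, hqa, hle⟩ := PrimeSpectrum.isTopologicalBasis_basic_opens.exists_subset_of_mem_open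
    (Set.mem_range_self (f := PrimeSpectrum.comap (algebraMap R T)) ⟨q, inferInstance⟩) hopen
  refine ⟨a, hqa, ?_⟩
  let Ra := Localization.Away a
  let Ta := Localization.Away (algebraMap R T a)
  let : Algebra Ra Ta := (Localization.awayMap (algebraMap R T) a).toAlgebra
  have : IsScalarTower R Ra Ta := IsScalarTower.of_algebraMap_eq fun r => by
    simp [RingHom.algebraMap_toAlgebra, Localization.awayMap, IsLocalization.Away.map,
      IsScalarTower.algebraMap_apply R T Ta]
    rfl
  have : Module.Flat T Ta := IsLocalization.flat _ (Submonoid.powers (algebraMap R T a))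
  have : Module.Flat R Ta := Module.Flat.trans R T Ta
  have : Algebra.FormallyUnramified R Ra := .of_isLocalization (Submonoid.powers a)
  have : Algebra.EssFiniteType R Ra := .of_isLocalization Ra (Submonoid.powers a)
  have : Module.Flat Ra Ta := Hensel20.flat_of_formallyUnramified R Ra Ta
  have : Module.FaithfullyFlat Ra Ta := by
    refine Module.FaithfullyFlat.of_comap_surjective fun P => ?_
    let p := PrimeSpectrum.comap (algebraMap R Ra) P
    have hpa : a ∉ p.asIdeal := fun h => P.2.ne_top
      (Ideal.eq_top_of_isUnit_mem _ h (IsLocalization.Away.algebraMap_isUnit a))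
    obtain ⟨Q, hQ⟩ := hle (show p ∈ (PrimeSpectrum.basicOpen a : Set (PrimeSpectrum R)) from hpa)
    have hQa : algebraMap R T a ∉ Q.asIdeal := by
      intro h
      exact hpa (hQ ▸ h)
    obtain ⟨Qa, hQa'⟩ : Q ∈ Set.range (PrimeSpectrum.comap (algebraMap T Ta)) := by
      rw [PrimeSpectrum.localization_away_comap_range Ta (algebraMap R T a)]
      exact hQa
    refine ⟨Qa, PrimeSpectrum.localization_comap_injective Ra (Submonoid.powers a) ?_⟩
    show PrimeSpectrum.comap (algebraMap R Ra) _ = p
    rw [← PrimeSpectrum.comap_comp_apply, ← IsScalarTower.algebraMap_eq,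
      IsScalarTower.algebraMap_eq R T Ta, PrimeSpectrum.comap_comp_apply, hQa', hQ]
  exact Groth.Agent.CAlg5.isNoetherianRing_of_faithfullyFlat Ra Ta

theorem isLocallyNoetherian_base_of_syntomic {ι : Type u} {S : Scheme.{u}} {X : ι → Scheme.{u}}
    (f : ∀ i, X i ⟶ S) (hsurj : ∀ s : S, ∃ i, s ∈ Set.range (f i).base)
    (hsyn : ∀ i, Synt.IsSyntomicMor (f i)) [∀ i, IsLocallyNoetherian (X i)] :
    IsLocallyNoetherian S := by
  have key : ∀ s : S, ∃ W : S.affineOpens, s ∈ W.1 ∧ IsNoetherianRing Γ(S, W.1) := by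
    intro s
    obtain ⟨i, x, rfl⟩ := hsurj s
    obtain ⟨U, V, e, hx, h⟩ := hsyn i x
    let := ((f i).appLE V.1 U.1 e).hom.toAlgebra
    have : IsNoetherianRing Γ(X i, U.1) := IsLocallyNoetherian.component_noetherian U
    have := h.1
    have := h.2.1
    obtain ⟨a, ha, hN⟩ := exists_noetherian_nhd (R := Γ(S, V.1)) (T := Γ(X i, U.1))
      (U.2.primeIdealOf ⟨x, hx⟩).asIdeal
    refine ⟨⟨S.basicOpen a, V.2.basicOpen a⟩, ?_, ?_⟩
    · have hq : (U.2.primeIdealOf ⟨x, hx⟩).asIdeal.under Γ(S, V.1) =
          (V.2.primeIdealOf ⟨f i x, e hx⟩).asIdeal :=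
        congr($(IsAffineOpen.comap_primeIdealOf_appLE V.1 V.2 U.1 U.2 e hx).1)
      let := S.presheaf.algebra_section_stalk ⟨f i x, e hx⟩
      have hloc := V.2.isLocalization_stalk ⟨f i x, e hx⟩
      rw [hq] at ha
      exact (Scheme.mem_basicOpen S a (f i x) (e hx)).mpr
        ((IsLocalization.AtPrime.isUnit_to_map_iff (S.presheaf.stalk (f i x))
          (V.2.primeIdealOf ⟨f i x, e hx⟩).asIdeal a).mpr ha)
    · have := V.2.isLocalization_basicOpen a
      exact isNoetherianRing_of_ringEquiv _
        (IsLocalization.algEquiv (.powers a) (Localization.Away a) Γ(S, S.basicOpen a)).toRingEquiv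
  choose W hW hN using key
  refine isLocallyNoetherian_of_affine_cover (S := W) ?_ hN
  rw [eq_top_iff]; exact fun s _ => TopologicalSpace.Opens.mem_iSup.mpr ⟨s, hW s⟩

theorem cm_iff {ι : Type u} {S : Scheme.{u}} {X : ι → Scheme.{u}} (f : ∀ i, X i ⟶ S)
    (hsurj : ∀ s : S, ∃ i, s ∈ Set.range (f i).base) (hsyn : ∀ i, Synt.IsSyntomicMor (f i)) :
    (IsLocallyNoetherian S ∧ ∀ s : S, LocCoh.IsCohenMacaulayLocalRing (S.presheaf.stalk s)) ↔
      ∀ i, IsLocallyNoetherian (X i) ∧
        ∀ x : X i, LocCoh.IsCohenMacaulayLocalRing ((X i).presheaf.stalk x) := by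
  constructor
  · rintro ⟨hS, hcm⟩ i
    have hX := isLocallyNoetherian_of_syntomic (f i) (hsyn i)
    refine ⟨hX, fun x => ?_⟩
    obtain ⟨U, V, -, _, h, q, _, ⟨eX⟩, ⟨eS⟩⟩ := exists_chart (f i) (hsyn i) x
    have : IsNoetherianRing Γ(S, V.1) := IsLocallyNoetherian.component_noetherian V
    have : IsNoetherianRing Γ(X i, U.1) := IsLocallyNoetherian.component_noetherian U
    exact CAlg1.cm_of_ringEquiv eX.symm
      ((chart_cm_iff h q).mpr (CAlg1.cm_of_ringEquiv eS (hcm _)))
  · intro h
    have : ∀ i, IsLocallyNoetherian (X i) := fun i => (h i).1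
    have hS := isLocallyNoetherian_base_of_syntomic f hsurj hsyn
    refine ⟨hS, fun s => ?_⟩
    obtain ⟨i, x, rfl⟩ := hsurj s
    obtain ⟨U, V, -, _, hs, q, _, ⟨eX⟩, ⟨eS⟩⟩ := exists_chart (f i) (hsyn i) x
    have : IsNoetherianRing Γ(S, V.1) := IsLocallyNoetherian.component_noetherian V
    have : IsNoetherianRing Γ(X i, U.1) := IsLocallyNoetherian.component_noetherian U
    exact CAlg1.cm_of_ringEquiv eS.symm
      ((chart_cm_iff hs q).mp (CAlg1.cm_of_ringEquiv eX ((h i).2 x)))

theorem sk_iff {ι : Type u} {S : Scheme.{u}} {X : ι → Scheme.{u}} (f : ∀ i, X i ⟶ S)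
    (hsurj : ∀ s : S, ∃ i, s ∈ Set.range (f i).base) (hsyn : ∀ i, Synt.IsSyntomicMor (f i)) (k : ℕ) :
    (IsLocallyNoetherian S ∧ ∀ s : S, LocCoh.HasSk k (S.presheaf.stalk s) (S.presheaf.stalk s)) ↔
      ∀ i, IsLocallyNoetherian (X i) ∧
        ∀ x : X i, LocCoh.HasSk k ((X i).presheaf.stalk x) ((X i).presheaf.stalk x) := by
  constructor
  · rintro ⟨hS, hsk⟩ i
    have hX := isLocallyNoetherian_of_syntomic (f i) (hsyn i)
    refine ⟨hX, fun x => ?_⟩
    obtain ⟨U, V, e, hx, h⟩ := hsyn i x
    let := ((f i).appLE V.1 U.1 e).hom.toAlgebra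
    have : IsNoetherianRing Γ(S, V.1) := IsLocallyNoetherian.component_noetherian V
    have : IsNoetherianRing Γ(X i, U.1) := IsLocallyNoetherian.component_noetherian U
    have hR : ∀ (p : Ideal Γ(S, V.1)) [p.IsPrime],
        LocCoh.HasSk k (Localization.AtPrime p) (Localization.AtPrime p) := fun p _ => by
      let y : V.1 := ⟨V.2.fromSpec ⟨p, inferInstance⟩, by
        have h0 := Set.mem_range_self (f := V.2.fromSpec) (⟨p, inferInstance⟩ : PrimeSpectrum Γ(S, V.1))
        rwa [V.2.range_fromSpec] at h0⟩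
      have : IsNoetherianRing (S.presheaf.stalk (y : S)) := inferInstance
      let := S.presheaf.algebra_section_stalk y
      have hloc : IsLocalization.AtPrime (S.presheaf.stalk (y : S)) p :=
        V.2.isLocalization_stalk' ⟨p, inferInstance⟩ y.2
      exact Hensel20.hasSk_of_ringEquiv (IsLocalization.algEquiv p.primeCompl
        (S.presheaf.stalk (y : S)) (Localization.AtPrime p)).toRingEquiv k (hsk _)
    let := (X i).presheaf.algebra_section_stalk ⟨x, hx⟩
    have hloc := U.2.isLocalization_stalk ⟨x, hx⟩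
    have : IsNoetherianRing (Localization.AtPrime (U.2.primeIdealOf ⟨x, hx⟩).asIdeal) :=
      IsLocalization.isNoetherianRing (U.2.primeIdealOf ⟨x, hx⟩).asIdeal.primeCompl _ inferInstance
    exact Hensel20.hasSk_of_ringEquiv
      (IsLocalization.algEquiv (U.2.primeIdealOf ⟨x, hx⟩).asIdeal.primeCompl _ _).toRingEquiv.symm k
      (chart_sk_ascend h k hR (U.2.primeIdealOf ⟨x, hx⟩).asIdeal)
  · intro h
    have : ∀ i, IsLocallyNoetherian (X i) := fun i => (h i).1
    have hS := isLocallyNoetherian_base_of_syntomic f hsurj hsyn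
    refine ⟨hS, fun s => ?_⟩
    obtain ⟨i, x, rfl⟩ := hsurj s
    obtain ⟨U, V, -, _, hs, q, _, ⟨eX⟩, ⟨eS⟩⟩ := exists_chart (f i) (hsyn i) x
    have : IsNoetherianRing Γ(S, V.1) := IsLocallyNoetherian.component_noetherian V
    have : IsNoetherianRing Γ(X i, U.1) := IsLocallyNoetherian.component_noetherian U
    have : IsNoetherianRing (Localization.AtPrime (q.under Γ(S, V.1))) :=
      IsLocalization.isNoetherianRing (q.under Γ(S, V.1)).primeCompl _ inferInstance
    exact Hensel20.hasSk_of_ringEquiv eS.symm k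
      (chart_sk_descend hs k q (Hensel20.hasSk_of_ringEquiv eX k ((h i).2 x)))

end Groth.Agent.Desc59.SyntomicCM
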