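import Mathlib.AlgebraicGeometry.Morphisms.UniversallyInjective
import Mathlib.AlgebraicGeometry.Morphisms.UniversallyOpen
import Groth.Agent.E4O.FibreComp

/-!
Flat separated morphisms which are radicial at generic points are universally injective.
-/

set_option autoImplicit false
universe u

open CategoryTheory CategoryTheory.Limits AlgebraicGeometry

namespace Groth.Agent.Desc59

/-- Two `T`-points equal after composition with a residually trivial point agree. -/
theorem mem_range_diagonal_of_point {X Y : Scheme.{u}} (f : X ⟶ Y) (p : ↥(pullback f f)) (ξ : X)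
    (hξ : Function.Surjective (f.residueFieldMap ξ).hom) (h1 : pullback.fst f f p = ξ)
    (h2 : pullback.snd f f p = ξ) : p ∈ Set.range (pullback.diagonal f) := by
  let i := (pullback f f).fromSpecResidueField p
  let a (q : pullback f f ⟶ X) (h : q p = ξ) :
      Spec ((pullback f f).residueField p) ⟶ Spec (X.residueField ξ) :=
    Spec.map (q.residueFieldMap p) ≫ Spec.map (X.residueFieldCongr h.symm).hom
  have ha : ∀ (q : pullback f f ⟶ X) (h : q p = ξ), a q h ≫ X.fromSpecResidueField ξ = i ≫ q := fun q h => by
    simp only [a, Category.assoc, Scheme.residueFieldCongr_fromSpecResidueField]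
    exact Scheme.Hom.SpecMap_residueFieldMap_fromSpecResidueField q p
  have : IsIso (Spec.map (f.residueFieldMap ξ)) := by
    have : IsIso (f.residueFieldMap ξ) :=
      (RingEquiv.ofBijective (f.residueFieldMap ξ).hom ⟨RingHom.injective _, hξ⟩).toCommRingCatIso.isIso_hom
    infer_instance
  have hab : a (pullback.fst f f) h1 = a (pullback.snd f f) h2 := by
    rw [← cancel_mono (Spec.map (f.residueFieldMap ξ)), ← cancel_mono (Y.fromSpecResidueField (f ξ))]
    simp only [Category.assoc, Scheme.Hom.SpecMap_residueFieldMap_fromSpecResidueField]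
    rw [reassoc_of% (ha _ h1), reassoc_of% (ha _ h2), pullback.condition]
  have heq : i = (i ≫ pullback.fst f f) ≫ pullback.diagonal f := by
    apply pullback.hom_ext
    · simp [pullback.diagonal_fst]
    · rw [Category.assoc, pullback.diagonal_snd, Category.comp_id, ← ha _ h2, ← hab, ha _ h1]
  refine ⟨(i ≫ pullback.fst f f) (IsLocalRing.closedPoint _), ?_⟩
  rw [← Scheme.Hom.comp_apply, ← heq]
  exact Scheme.fromSpecResidueField_apply _ _

theorem universallyInjective_of_flat_generic {X Y : Scheme.{u}} (f : X ⟶ Y) [Flat f] [IsSeparated f]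
    (h2 : ∀ ξ : X, closure ({ξ} : Set X) ∈ irreducibleComponents (X : Type u) →
      Function.Surjective (f.residueFieldMap ξ).hom)
    (h3 : Set.InjOn f {ξ : X | closure ({ξ} : Set X) ∈ irreducibleComponents (X : Type u)}) :
    UniversallyInjective f := by
  rw [UniversallyInjective.iff_diagonal]
  constructor
  intro w
  obtain ⟨Z, hZ, hwZ⟩ := exists_mem_irreducibleComponents_subset_of_isIrreducible {w} isIrreducible_singleton
  obtain ⟨p, rfl, hp⟩ := E4O.exists_eq_closure_of_mem_irreducibleComponents hZ
  have hgen : ∀ (q : pullback f f ⟶ X) [Flat q],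
      closure ({q p} : Set X) ∈ irreducibleComponents (X : Type u) := fun q _ =>
    E4O.closure_mem_irreducibleComponents fun z hz => by
      obtain ⟨p', hp', rfl⟩ := Flat.generalizingMap q hz
      rw [hp p' hp']
  have hξ := hgen (pullback.fst f f)
  have he : pullback.fst f f p = pullback.snd f f p := by
    refine h3 hξ (hgen (pullback.snd f f)) ?_
    rw [← Scheme.Hom.comp_apply, pullback.condition, Scheme.Hom.comp_apply]
  obtain ⟨x, hx⟩ := mem_range_diagonal_of_point f p _ (h2 _ hξ) rfl he.symm
  have hcl : IsClosed (Set.range (pullback.diagonal f)) :=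
    (pullback.diagonal f).isClosedEmbedding.isClosed_range
  exact hcl.closure_subset_iff.mpr (Set.singleton_subset_iff.mpr ⟨x, hx⟩) (hwZ rfl)

end Groth.Agent.Desc59
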